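import Mathlib.RingTheory.Ideal.MinimalPrime.Localization
import Mathlib.RingTheory.Localization.AtPrime.Basic
import Mathlib.RingTheory.Localization.Integral
import Mathlib.RingTheory.IntegralClosure.IntegrallyClosed
import Mathlib.RingTheory.Idempotents

/-!
# Normality at a prime from an integral homogeneous equation
-/

set_option autoImplicit false

universe u

namespace Groth.Agent.CAlgLow

/-- `R_p` is a domain, phrased in `R`. -/
theorem isDomain_atPrime {R : Type u} [CommRing R] (p : Ideal R) [p.IsPrime]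
    (h : ∀ a b : R, a * b = 0 → (∃ t ∉ p, t * a = 0) ∨ ∃ t ∉ p, t * b = 0) : IsDomain (Localization.AtPrime p) := by
  have : NoZeroDivisors (Localization.AtPrime p) := by
    refine ⟨fun {x y} hxy => ?_⟩
    obtain ⟨⟨a, s⟩, rfl⟩ := IsLocalization.mk'_surjective p.primeCompl x
    obtain ⟨⟨b, t⟩, rfl⟩ := IsLocalization.mk'_surjective p.primeCompl y
    rw [← IsLocalization.mk'_mul, IsLocalization.mk'_eq_zero_iff] at hxy
    obtain ⟨m, hm⟩ := hxy
    rcases h (m * a) b (by rw [mul_assoc]; exact hm) with ⟨u, hu, hu'⟩ | ⟨u, hu, hu'⟩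
    · exact Or.inl ((IsLocalization.mk'_eq_zero_iff _ _).2 ⟨⟨u * m,
        fun hh => ((inferInstance : p.IsPrime).mem_or_mem hh).elim hu m.2⟩, by rw [mul_assoc]; exact hu'⟩)
    · exact Or.inr ((IsLocalization.mk'_eq_zero_iff _ _).2 ⟨⟨u, hu⟩, hu'⟩)
  exact NoZeroDivisors.to_isDomain _

theorem isIntegrallyClosed_atPrime_aux {R : Type u} [CommRing R] (p : Ideal R) [p.IsPrime]
    (L : Type u) [CommRing L] [IsDomain L] [Algebra R L] [IsLocalization.AtPrime L p]
    (K : Type u) [Field K] [Algebra L K] [IsFractionRing L K] [Algebra R K] [IsScalarTower R L K]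
    (h : ∀ (d : ℕ) (c : Fin d → R) (a b : R), (∀ t ∉ p, t * b ≠ 0) →
      (∃ t ∉ p, t * (a ^ d + ∑ i : Fin d, c i * a ^ (i : ℕ) * b ^ (d - i)) = 0) →
      ∃ u v : R, v ∉ p ∧ ∃ t ∉ p, t * (a * v - u * b) = 0) : IsIntegrallyClosed L := by
  refine (isIntegrallyClosed_iff K).2 fun {x} hx => ?_
  obtain ⟨m, hm⟩ := IsIntegral.exists_multiple_integral_of_isLocalization (M := p.primeCompl) (R := R) (Rₘ := L) x hx
  obtain ⟨x', s, hs, he⟩ := IsFractionRing.div_surjective L (m • x)
  obtain ⟨⟨a₀, ta⟩, rfl⟩ := IsLocalization.mk'_surjective p.primeCompl x'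
  obtain ⟨⟨b₀, tb⟩, rfl⟩ := IsLocalization.mk'_surjective p.primeCompl s
  let a : R := a₀ * tb
  let b : R := b₀ * ta
  have hb : ∀ t ∉ p, t * b ≠ 0 := fun t ht hbt => by
    refine nonZeroDivisors.ne_zero hs ((IsLocalization.mk'_eq_zero_iff _ _).2 ⟨⟨t * ta, ?_⟩, ?_⟩)
    · exact fun hh => ((inferInstance : p.IsPrime).mem_or_mem hh).elim ht ta.2
    · rw [← hbt]; change t * ta * b₀ = t * (b₀ * ta); ring
  have hbK : algebraMap R K b ≠ 0 := by
    intro h0
    rw [IsScalarTower.algebraMap_apply R L K, IsFractionRing.to_map_eq_zero_iff,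
      IsLocalization.map_eq_zero_iff p.primeCompl] at h0
    obtain ⟨t, ht⟩ := h0
    exact hb t t.2 ht
  have hab : (m • x) * algebraMap R K b = algebraMap R K a := by
    have hu : ∀ t : p.primeCompl, algebraMap R K t ≠ 0 := fun t h0 => by
      rw [IsScalarTower.algebraMap_apply R L K, IsFractionRing.to_map_eq_zero_iff] at h0
      exact (IsLocalization.map_units L t).ne_zero h0
    rw [← he]
    have e1 : algebraMap L K (IsLocalization.mk' L a₀ ta) * algebraMap R K ta = algebraMap R K a₀ := by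
      rw [IsScalarTower.algebraMap_apply R L K, ← map_mul, IsLocalization.mk'_spec, ← IsScalarTower.algebraMap_apply]
    have e2 : algebraMap L K (IsLocalization.mk' L b₀ tb) * algebraMap R K tb = algebraMap R K b₀ := by
      rw [IsScalarTower.algebraMap_apply R L K, ← map_mul, IsLocalization.mk'_spec, ← IsScalarTower.algebraMap_apply]
    have hb0 : algebraMap L K (IsLocalization.mk' L b₀ tb) ≠ 0 := by
      rw [Ne, IsFractionRing.to_map_eq_zero_iff]
      exact nonZeroDivisors.ne_zero hs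
    simp only [a, b, map_mul]
    rw [← e1, ← e2]
    rw [div_mul_eq_mul_div, div_eq_iff hb0]
    ring
  obtain ⟨P, hP, hPx⟩ := hm
  let d := P.natDegree
  have hH : algebraMap R K (a ^ d + ∑ i : Fin d, P.coeff i * a ^ (i : ℕ) * b ^ (d - i)) = 0 := by
    have h1 : (m • x) ^ d + ∑ i : Fin d, algebraMap R K (P.coeff i) * (m • x) ^ (i : ℕ) = 0 := by
      rw [← hPx, Polynomial.eval₂_eq_sum_range, Finset.sum_range_succ, hP.coeff_natDegree, map_one, one_mul,
        ← Fin.sum_univ_eq_sum_range]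
      ring
    have h2 : ((m • x) ^ d + ∑ i : Fin d, algebraMap R K (P.coeff i) * (m • x) ^ (i : ℕ)) * algebraMap R K b ^ d = 0 := by
      rw [h1, zero_mul]
    rw [← h2, map_add, map_pow, map_sum, add_mul, ← mul_pow, hab, Finset.sum_mul]
    congr 1
    refine Finset.sum_congr rfl fun i _ => ?_
    rw [map_mul, map_mul, map_pow, map_pow, ← hab, mul_pow]
    have e : algebraMap R K b ^ d = algebraMap R K b ^ (i : ℕ) * algebraMap R K b ^ (d - i) := by
      rw [← pow_add, Nat.add_sub_cancel' i.2.le]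
    rw [e]; ring
  rw [IsScalarTower.algebraMap_apply R L K, IsFractionRing.to_map_eq_zero_iff,
    IsLocalization.map_eq_zero_iff p.primeCompl] at hH
  obtain ⟨⟨t, ht⟩, ht0⟩ := hH
  obtain ⟨u, v, hv, t', ht', h'⟩ := h d (fun i => P.coeff i) a b hb ⟨t, ht, ht0⟩
  refine ⟨IsLocalization.mk' L u (⟨v, hv⟩ * m), ?_⟩
  have h3 : algebraMap R K (a * v - u * b) = 0 := by
    rw [IsScalarTower.algebraMap_apply R L K, (IsLocalization.map_eq_zero_iff p.primeCompl L _).2 ⟨⟨t', ht'⟩, h'⟩, map_zero]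
  rw [map_sub, map_mul (algebraMap R K) a v, map_mul (algebraMap R K) u b, ← hab, sub_eq_zero] at h3
  have h4 : (m • x) * algebraMap R K v = algebraMap R K u := by
    apply mul_right_cancel₀ hbK
    rw [← h3]; ring
  have hden : algebraMap R K (v * m) ≠ 0 := by
    intro h0
    rw [IsScalarTower.algebraMap_apply R L K, IsFractionRing.to_map_eq_zero_iff] at h0
    exact (IsLocalization.map_units L (⟨v, hv⟩ * m)).ne_zero h0
  apply mul_right_cancel₀ hden
  conv_lhs => rw [IsScalarTower.algebraMap_apply R L K (v * m), ← map_mul,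
    show IsLocalization.mk' L u (⟨v, hv⟩ * m) * algebraMap R L (v * m) = algebraMap R L u from
      IsLocalization.mk'_spec L u (⟨v, hv⟩ * m), ← IsScalarTower.algebraMap_apply]
  rw [← h4, map_mul, Submonoid.smul_def, Algebra.smul_def]
  ring

/-- `R_p` is integrally closed, phrased in `R`. -/
theorem isIntegrallyClosed_atPrime {R : Type u} [CommRing R] (p : Ideal R) [p.IsPrime]
    [IsDomain (Localization.AtPrime p)]
    (h : ∀ (d : ℕ) (c : Fin d → R) (a b : R), (∀ t ∉ p, t * b ≠ 0) →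
      (∃ t ∉ p, t * (a ^ d + ∑ i : Fin d, c i * a ^ (i : ℕ) * b ^ (d - i)) = 0) →
      ∃ u v : R, v ∉ p ∧ ∃ t ∉ p, t * (a * v - u * b) = 0) : IsIntegrallyClosed (Localization.AtPrime p) :=
  isIntegrallyClosed_atPrime_aux p (Localization.AtPrime p) (FractionRing (Localization.AtPrime p)) h

end Groth.Agent.CAlgLow
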