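import Groth.Prelude.Def_Found
import Mathlib.Order.Cover
import Mathlib.Order.RelSeries
import Mathlib.RingTheory.Spectrum.Prime.Topology

/-!
# Catenarity along convex embeddings of prime spectra
-/

universe u

namespace Groth.Agent.CAlgLow

theorem isCatenary_of_orderEmbedding {A B : Type u} [CommRing A] [CommRing B]
    (f : PrimeSpectrum B ↪o PrimeSpectrum A) (hf : (Set.range f).OrdConnected)
    (hA : CAlg.IsCatenary A) : CAlg.IsCatenary B := by
  refine ⟨fun p q hpq => ?_, fun s t h0 h1 hs ht => ?_⟩
  · obtain ⟨n, hn⟩ := hA.1 (f p) (f q) (f.monotone hpq)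
    exact ⟨n, fun s hp hq => hn (s.map f f.strictMono)
      (by rw [← hp]; rfl) (by rw [← hq]; rfl)⟩
  · exact hA.2 (s.map f f.strictMono) (t.map f f.strictMono) (congrArg f h0) (congrArg f h1)
      (fun i => (hs i).image f hf) (fun i => (ht i).image f hf)

end Groth.Agent.CAlgLow
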