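import Groth.Agent.Lib.FlatDepth.GeomFib
import Groth.Agent.Lib.FlatDepth.GeomExt
import Groth.Agent.Lib.FlatDepth.RegNormal
import Groth.Agent.Lib.SmoothReg17.Basic
import Groth.Agent.Lib.Sep.Basic
import Mathlib.RingTheory.Smooth.Flat
import Mathlib.RingTheory.Etale.Field

/-!
# Geometric regularity of smooth algebras and separable extensions
-/

universe u

open TensorProduct

namespace Groth.Agent.CAlgLow

/-- A smooth algebra over a field is geometrically regular. -/
theorem geomRegular_of_smooth_field {k : Type u} [Field k] (F : Type u) [CommRing F] [Algebra k F]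
    [Algebra.Smooth k F] : CAlg.IsGeometricallyRegular k F := by
  intro k' _ _ _
  haveI : IsNoetherianRing (k' ⊗[k] F) := Algebra.FiniteType.isNoetherianRing k' _
  have hs : (algebraMap k' (k' ⊗[k] F)).Smooth := RingHom.smooth_algebraMap.2 inferInstance
  rw [isRegularRing_iff]
  intro q _
  exact SmoothReg17.isRegularLocalRing_of_smooth (algebraMap k' (k' ⊗[k] F)) hs q

/-- Geometric regularity does not change along an isomorphism of fields. -/
theorem geomRegular_transfer {k κ : Type u} [Field k] [Field κ] [Algebra k κ]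
    (hb : Function.Bijective (algebraMap k κ)) (K : Type u) [CommRing K] [Algebra k K]
    (h : CAlg.IsGeometricallyRegular k K) : CAlg.IsGeometricallyRegular κ (κ ⊗[k] K) := by
  haveI : Module.Finite k κ := Module.Finite.of_surjective (Algebra.linearMap k κ) hb.2
  intro k' _ _ hk'
  letI : Algebra k k' := ((algebraMap κ k').comp (algebraMap k κ)).toAlgebra
  haveI : IsScalarTower k κ k' := .of_algebraMap_eq fun x => rfl
  haveI : Module.Finite k k' := Module.Finite.trans κ k'
  haveI := h k' inferInstance
  exact IsRegularRing.of_ringEquiv (Algebra.TensorProduct.cancelBaseChange k κ k' k' K).symm.toRingEquiv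

/-- A separable algebraic extension is geometrically regular. -/
theorem geomRegular_of_isSeparable {k : Type u} [Field k] (L : Type u) [Field L] [Algebra k L]
    [Algebra.IsSeparable k L] : CAlg.IsGeometricallyRegular k L := by
  haveI : Algebra.FormallyEtale k L := Algebra.FormallyEtale.of_isSeparable k L
  haveI : Algebra.IsGeometricallyReduced k L :=
    (Sep.formallySmooth_iff_isGeometricallyReduced k L).1 inferInstance
  exact FlatDepth.geomRegular_of_field

/-- Geometric regularity passes down a separable extension of base fields. -/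
theorem geomRegular_of_isSeparable_base {k k' : Type u} [Field k] [Field k'] [Algebra k k']
    [Algebra.IsSeparable k k'] (A : Type u) [CommRing A] [IsNoetherianRing A] [Algebra k' A]
    [Algebra k A] [IsScalarTower k k' A] (h : CAlg.IsGeometricallyRegular k' A) :
    CAlg.IsGeometricallyRegular k A := by
  refine FlatDepth.geomRegular_comp (S := k') (T := A) (geomRegular_of_isSeparable k') fun Q _ => ?_
  haveI : Q.IsMaximal := (Ideal.eq_bot_of_prime Q).symm ▸ Ideal.bot_isMaximal
  exact geomRegular_transfer
    ⟨(algebraMap k' Q.ResidueField).injective, Q.algebraMap_residueField_surjective⟩ A h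

/-- Geometric regularity passes up a finite separable extension of base fields. -/
theorem geomRegular_up_finite {k L : Type u} [Field k] [Field L] [Algebra k L] [Algebra.IsSeparable k L]
    [Module.Finite k L] (A : Type u) [CommRing A] [IsNoetherianRing A] [Algebra L A]
    [Algebra k A] [IsScalarTower k L A] (h : CAlg.IsGeometricallyRegular k A) :
    CAlg.IsGeometricallyRegular L A := by
  intro K _ _ hK
  letI : Algebra k K := ((algebraMap L K).comp (algebraMap k L)).toAlgebra
  haveI : IsScalarTower k L K := .of_algebraMap_eq fun x => rfl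
  haveI : Module.Finite k K := Module.Finite.trans L K
  haveI := h K inferInstance
  haveI : Algebra.FormallyUnramified k L := Algebra.FormallyUnramified.of_isSeparable k L
  haveI : Algebra.FiniteType k L := inferInstance
  obtain ⟨t, ht, ht1⟩ := Algebra.FormallyUnramified.iff_exists_tensorProduct.1
    (inferInstance : Algebra.FormallyUnramified k L)
  let j : L ⊗[k] L →ₐ[k] K ⊗[k] A :=
    Algebra.TensorProduct.map (IsScalarTower.toAlgHom k L K) (IsScalarTower.toAlgHom k L A)
  let Φ : K ⊗[k] A →ₐ[k] K ⊗[L] A :=
    Algebra.TensorProduct.lift ((Algebra.TensorProduct.includeLeft (S := L) : K →ₐ[L] K ⊗[L] A).restrictScalars k)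
      ((Algebra.TensorProduct.includeRight : A →ₐ[L] K ⊗[L] A).restrictScalars k) fun _ _ => Commute.all _ _
  have hΦ : ∀ x a, Φ (x ⊗ₜ a) = x ⊗ₜ[L] a := fun x a => by simp [Φ]
  have hj1 : Φ (j t) = 1 := by
    have key : Φ.comp j = ((Algebra.ofId L (K ⊗[L] A)).restrictScalars k).comp (Algebra.TensorProduct.lmul' k) :=
      Algebra.TensorProduct.ext
        (AlgHom.ext fun l => by simp [Φ, j, Algebra.ofId_apply])
        (AlgHom.ext fun l => by
          simp only [AlgHom.comp_apply, AlgHom.restrictScalars_apply, Algebra.TensorProduct.includeRight_apply,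
            Algebra.TensorProduct.lmul'_apply_tmul, one_mul, Algebra.ofId_apply, j,
            Algebra.TensorProduct.map_tmul, map_one, IsScalarTower.coe_toAlgHom, hΦ]
          exact (Algebra.TensorProduct.tmul_one_eq_one_tmul l).symm)
    have := AlgHom.congr_fun key t
    simp only [AlgHom.comp_apply] at this
    rw [this, ht1, map_one]
  let ψ : K ⊗[L] A →+ K ⊗[k] A := TensorProduct.liftAddHom
    { toFun := fun x =>
        { toFun := fun a => j t * (x ⊗ₜ a)
          map_zero' := by simp
          map_add' := fun a b => by rw [tmul_add, mul_add] }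
      map_zero' := by ext; simp
      map_add' := fun x y => by ext a; simp [add_tmul, mul_add] }
    fun l x a => by
      show j t * ((l • x) ⊗ₜ a) = j t * (x ⊗ₜ (l • a))
      have h0 := congrArg j (ht l)
      rw [map_mul, map_zero, map_sub, sub_mul, sub_eq_zero] at h0
      have h1 : ((1 : K) ⊗ₜ[k] algebraMap L A l) * j t = (algebraMap L K l ⊗ₜ[k] (1 : A)) * j t := by
        simpa [j, IsScalarTower.toAlgHom_apply] using h0
      rw [Algebra.smul_def, Algebra.smul_def]
      rw [show (algebraMap L K l * x) ⊗ₜ[k] a = (algebraMap L K l ⊗ₜ[k] (1 : A)) * (x ⊗ₜ a) by simp,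
        show x ⊗ₜ[k] (algebraMap L A l * a) = ((1 : K) ⊗ₜ[k] algebraMap L A l) * (x ⊗ₜ a) by simp,
        ← mul_assoc, ← mul_assoc, mul_comm (j t), mul_comm (j t), h1]
  letI : Algebra (K ⊗[k] A) (K ⊗[L] A) := Φ.toRingHom.toAlgebra
  have hψΦ : ∀ b, ψ (Φ b) = j t * b := fun b => by
    induction b using TensorProduct.induction_on with
    | zero => simp
    | tmul x a => rw [hΦ]; rfl
    | add a b ha hb => rw [map_add, map_add, ha, hb, mul_add]
  have hsurj : Function.Surjective Φ := fun c => by
    induction c using TensorProduct.induction_on with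
    | zero => exact ⟨0, map_zero _⟩
    | tmul x a => exact ⟨x ⊗ₜ a, hΦ x a⟩
    | add a b ha hb =>
      obtain ⟨a, rfl⟩ := ha; obtain ⟨b, rfl⟩ := hb; exact ⟨a + b, map_add _ _ _⟩
  let ψ' : K ⊗[L] A →ₗ[K ⊗[k] A] K ⊗[k] A :=
    { ψ with
      map_smul' := fun b c => by
        obtain ⟨c, rfl⟩ := hsurj c
        show ψ (Φ b * Φ c) = b * ψ (Φ c)
        rw [← map_mul, hψΦ, hψΦ]; ring }
  haveI : Module.Flat (K ⊗[k] A) (K ⊗[L] A) :=
    Module.Flat.of_retract ψ' (Algebra.linearMap (K ⊗[k] A) (K ⊗[L] A)) (LinearMap.ext fun c => by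
      obtain ⟨c, rfl⟩ := hsurj c
      show Φ (ψ (Φ c)) = Φ c
      rw [hψΦ, map_mul, hj1, one_mul])
  haveI : IsNoetherianRing (K ⊗[L] A) := isNoetherianRing_of_surjective _ _ Φ.toRingHom hsurj
  rw [isRegularRing_iff]
  intro q _
  exact FlatDepth.regularAt_of_extended (A := K ⊗[k] A) q (Ideal.map_comap_of_surjective _ hsurj q)

end Groth.Agent.CAlgLow
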