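import Mathlib

/-! # Normal Noetherian domains: divisibility is tested at height one primes -/

universe u

namespace Groth.Agent.NormalInter

theorem dvd_of_forall_height_one {R : Type u} [CommRing R] [IsDomain R] [IsNoetherianRing R]
    [IsIntegrallyClosed R] {a b : R} (hb : b ≠ 0)
    (h : ∀ (P : Ideal R) [P.IsPrime], P.height = 1 → ∃ s ∉ P, b ∣ s * a) : b ∣ a := by
  by_contra hba
  have hne : Ideal.Quotient.mk (Ideal.span {b}) a ≠ 0 := fun h0 =>
    hba (Ideal.mem_span_singleton.1 (Ideal.Quotient.eq_zero_iff_mem.1 h0))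
  obtain ⟨P, hP, hle⟩ := exists_le_isAssociatedPrime_of_isNoetherianRing R _ hne
  obtain ⟨hPp, c', hc'⟩ := isAssociatedPrime_iff.1 hP
  obtain ⟨c, rfl⟩ := Ideal.Quotient.mk_surjective c'
  have hmem : ∀ r : R, r ∈ P ↔ b ∣ r * c := fun r => by
    rw [hc', Submodule.mem_colon_singleton, Submodule.mem_bot, Algebra.smul_def, Ideal.Quotient.algebraMap_eq,
      ← map_mul, Ideal.Quotient.eq_zero_iff_mem, Ideal.mem_span_singleton]
  have hbP : b ∈ P := (hmem b).2 ⟨c, rfl⟩
  have hP0 : P ≠ ⊥ := fun h0 => hb (by rwa [h0, Ideal.mem_bot] at hbP)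
  by_cases hall : ∀ r ∈ P, ∀ t, r * c = b * t → t ∈ P
  · let K := FractionRing R
    have hbK : algebraMap R K b ≠ 0 := (map_ne_zero_iff _ (IsFractionRing.injective R K)).2 hb
    let x : K := algebraMap R K c / algebraMap R K b
    let N : Submodule R K := Submodule.map (Algebra.linearMap R K) P
    have hN : N ≠ ⊥ := by
      intro h0
      have : algebraMap R K b ∈ N := ⟨b, hbP, rfl⟩
      rw [h0, Submodule.mem_bot] at this
      exact hbK this
    have hx : IsIntegral R x := isIntegral_of_smul_mem_submodule N hN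
      (Submodule.FG.map _ (IsNoetherian.noetherian P)) x (by
        rintro _ ⟨r, hr, rfl⟩
        obtain ⟨t, ht⟩ := (hmem r).1 hr
        refine ⟨t, hall r hr t ht, ?_⟩
        show algebraMap R K t = x * algebraMap R K r
        rw [div_mul_eq_mul_div, eq_div_iff hbK, ← map_mul, ← map_mul]
        congr 1
        linear_combination -ht)
    obtain ⟨d, hd⟩ := IsIntegrallyClosed.isIntegral_iff.1 hx
    refine hPp.ne_top ((Ideal.eq_top_iff_one P).2 ((hmem 1).2 ⟨d, IsFractionRing.injective R K ?_⟩))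
    rw [one_mul, map_mul, hd, mul_div_cancel₀ _ hbK]
  · push Not at hall
    obtain ⟨r₀, hr₀, t, ht, htP⟩ := hall
    have hmin : P ∈ (Ideal.span {r₀}).minimalPrimes := by
      refine ⟨⟨hPp, (Ideal.span_singleton_le_iff_mem _).2 hr₀⟩, fun Q hQ hQP r hr => ?_⟩
      obtain ⟨t', ht'⟩ := (hmem r).1 hr
      have he : r * t = r₀ * t' := mul_left_cancel₀ hb (by linear_combination r₀ * ht' - r * ht)
      exact (hQ.1.mem_or_mem (he ▸ Q.mul_mem_right _ (hQ.2 (Ideal.mem_span_singleton_self r₀)) :
        r * t ∈ Q)).resolve_right fun h' => htP (hQP h')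
    haveI := hPp
    have hh : P.height = 1 := le_antisymm
      (Ideal.height_le_one_of_isPrincipal_of_mem_minimalPrimes _ P hmin)
      (le_trans le_add_self (Ideal.height_add_one_le_of_lt_of_isPrime (bot_lt_iff_ne_bot.2 hP0)))
    obtain ⟨s, hs, hsa⟩ := h P hh
    refine hs (hle ?_)
    rw [Submodule.mem_colon_singleton, Submodule.mem_bot, Algebra.smul_def, Ideal.Quotient.algebraMap_eq,
      ← map_mul, Ideal.Quotient.eq_zero_iff_mem, Ideal.mem_span_singleton]
    exact hsa

theorem mem_range_of_forall_height_one {R : Type u} [CommRing R] [IsDomain R] [IsNoetherianRing R]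
    [IsIntegrallyClosed R] {K : Type u} [Field K] [Algebra R K] [IsFractionRing R K] (x : K)
    (h : ∀ (P : Ideal R) [P.IsPrime], P.height = 1 → ∃ s ∉ P, algebraMap R K s * x ∈ Set.range (algebraMap R K)) :
    x ∈ Set.range (algebraMap R K) := by
  obtain ⟨a, b, hb, rfl⟩ := IsFractionRing.div_surjective (A := R) x
  have hb0 : algebraMap R K b ≠ 0 := IsFractionRing.to_map_ne_zero_of_mem_nonZeroDivisors hb
  obtain ⟨t, ht⟩ := dvd_of_forall_height_one (a := a) (nonZeroDivisors.ne_zero hb) fun P _ hP => by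
    obtain ⟨s, hs, y, hy⟩ := h P hP
    refine ⟨s, hs, y, IsFractionRing.injective R K ?_⟩
    rw [map_mul, map_mul, hy]
    field_simp
  exact ⟨t, by rw [eq_div_iff hb0, ← map_mul, ht, mul_comm]⟩

end Groth.Agent.NormalInter
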