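import Mathlib
import Groth.Prelude.Def_Found
import Groth.Agent.S4562

/-! # Polynomial rings over N-1 / N-2 domains -/

set_option autoImplicit false
universe u

open Polynomial

namespace Groth.Agent.CAlgLow

/-- Integral closures are finite when they embed in the fractions of a finite normal algebra. -/
theorem finite_integralClosure_of_normal_model {P : Type u} [CommRing P] [IsNoetherianRing P] (W : Type u)
    [CommRing W] [IsDomain W] [IsIntegrallyClosed W] [Algebra P W] [Module.Finite P W]
    (L Ω : Type u) [Field L] [Algebra P L] [Field Ω] [Algebra (FractionRing W) Ω] [Algebra P Ω]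
    [IsScalarTower P (FractionRing W) Ω] (ι : L →ₐ[P] Ω)
    (hι : ∀ z, ι z ∈ Set.range (algebraMap (FractionRing W) Ω)) : Module.Finite P (integralClosure P L) := by
  let f : W →ₗ[P] Ω := (IsScalarTower.toAlgHom P (FractionRing W) Ω).toLinearMap ∘ₗ
    (IsScalarTower.toAlgHom P W (FractionRing W)).toLinearMap
  have hmem : ∀ z : integralClosure P L, ι z ∈ LinearMap.range f := by
    intro z
    obtain ⟨e, he⟩ := hι z
    have h1 : IsIntegral P e := by
      refine (isIntegral_algHom_iff (IsScalarTower.toAlgHom P (FractionRing W) Ω)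
        (algebraMap (FractionRing W) Ω).injective).mp ?_
      show IsIntegral P (algebraMap (FractionRing W) Ω e)
      rw [he]; exact (z.2 : IsIntegral P z.1).map ι
    obtain ⟨w, rfl⟩ := IsIntegrallyClosed.isIntegral_iff.mp (h1.tower_top (A := W))
    exact ⟨w, he⟩
  haveI : Module.Finite P (LinearMap.range f) := Module.Finite.range f
  exact Module.Finite.of_injective
    (LinearMap.codRestrict (LinearMap.range f) (ι.toLinearMap ∘ₗ (integralClosure P L).val.toLinearMap) hmem)
    fun a b h => Subtype.ext (ι.toRingHom.injective (congrArg Subtype.val h :))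

/-- A polynomial ring over a finite algebra is finite over the `q`-expanded polynomial ring. -/
theorem finite_expand {R R' : Type u} [CommRing R] [CommRing R'] [Algebra R R'] [Module.Finite R R'] {q : ℕ} (hq : q ≠ 0)
    [Algebra R[X] R'[X]] (h : ∀ f : R[X], algebraMap R[X] R'[X] f = expand R' q (f.map (algebraMap R R'))) :
    Module.Finite R[X] R'[X] := by
  classical
  obtain ⟨G, hG⟩ := (‹Module.Finite R R'›).fg_top
  let T : Set R'[X] := insert X (C '' (G : Set R'))
  have hCint : ∀ g : R', IsIntegral R[X] (C g : R'[X]) := fun g => by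
    obtain ⟨P, hP, hPg⟩ := Algebra.IsIntegral.isIntegral (R := R) g
    refine ⟨P.map C, hP.map _, ?_⟩
    rw [eval₂_map, show (algebraMap R[X] R'[X]).comp C = (C : R' →+* R'[X]).comp (algebraMap R R') from
      RingHom.ext fun r => by simp [h], ← hom_eval₂, hPg, map_zero]
  have hint : ∀ t ∈ T, IsIntegral R[X] t := by
    rintro t (rfl | ⟨g, -, rfl⟩)
    · exact ⟨X ^ q - C (X : R[X]), monic_X_pow_sub_C _ hq, by simp [h]⟩
    · exact hCint g
  have hgen : Algebra.adjoin R[X] T = ⊤ := by
    refine eq_top_iff.mpr fun w hw => ?_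
    clear hw
    induction w using Polynomial.induction_on' with
    | add a b ha hb => exact add_mem ha hb
    | monomial n r =>
      rw [← C_mul_X_pow_eq_monomial]
      refine mul_mem ?_ (pow_mem (Algebra.subset_adjoin (Set.mem_insert _ _)) n)
      have hr : r ∈ Submodule.span R (G : Set R') := hG ▸ Submodule.mem_top
      induction hr using Submodule.span_induction with
      | mem g hg => exact Algebra.subset_adjoin (Set.mem_insert_of_mem _ ⟨g, hg, rfl⟩)
      | zero => rw [map_zero]; exact zero_mem _
      | add a b _ _ ha hb => rw [map_add]; exact add_mem ha hb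
      | smul c a _ ha =>
        rw [show (C (c • a) : R'[X]) = algebraMap R[X] R'[X] (C c) * C a by simp [h, Algebra.smul_def]]
        exact mul_mem (Subalgebra.algebraMap_mem _ _) ha
  refine ⟨?_⟩
  rw [← Algebra.top_toSubmodule, ← hgen]
  exact fg_adjoin_of_finite ((G.finite_toSet.image _).insert _) hint

theorem isN1_polynomial (R : Type u) [CommRing R] [IsDomain R] [IsNoetherianRing R] (h : CAlg.IsN1 R) :
    CAlg.IsN1 R[X] := by
  haveI : Module.Finite R (integralClosure R (FractionRing R)) := h
  let R' := integralClosure R (FractionRing R)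
  haveI : IsIntegrallyClosed R' := integralClosure.isIntegrallyClosedOfFiniteExtension (FractionRing R)
  letI : Algebra R[X] R'[X] := (mapRingHom (algebraMap R R')).toAlgebra
  haveI : Module.Finite R[X] R'[X] := finite_expand one_ne_zero fun f => by rw [expand_one]; rfl
  have hinj : Function.Injective (algebraMap R[X] R'[X]) := map_injective _ fun a b hab =>
    IsFractionRing.injective R (FractionRing R) (congrArg Subtype.val hab)
  have hinj' : Function.Injective (Algebra.ofId R[X] (FractionRing R'[X])) := by
    show Function.Injective (algebraMap R[X] (FractionRing R'[X]))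
    rw [IsScalarTower.algebraMap_eq R[X] R'[X]]
    exact (IsFractionRing.injective R'[X] _).comp hinj
  exact finite_integralClosure_of_normal_model R'[X] (FractionRing R[X]) (FractionRing R'[X])
    (IsFractionRing.liftAlgHom (K := FractionRing R[X]) hinj') fun z => ⟨_, rfl⟩

theorem isN2_polynomial (R : Type u) [CommRing R] [IsDomain R] [IsNoetherianRing R] (hR : CAlg.IsN2 R) :
    CAlg.IsN2 R[X] := by
  classical
  refine S4562.result R[X] fun L _ _ _ _ hfin hpi => ?_
  haveI := hfin
  haveI := hpi
  let F := FractionRing R[X]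
  obtain ⟨p, hp⟩ := ExpChar.exists F
  obtain ⟨m, b⟩ : ∃ m, Nonempty (Module.Basis (Fin m) F L) := ⟨_, ⟨Module.finBasis F L⟩⟩
  obtain ⟨b⟩ := b
  choose e he using fun i => IsPurelyInseparable.pow_mem F p (b i)
  let N := Finset.univ.sup e
  have hy : ∀ i, b i ^ p ^ N ∈ (algebraMap F L).range := fun i => by
    obtain ⟨c, hc⟩ := he i
    obtain ⟨k, hk⟩ := Nat.exists_eq_add_of_le (Finset.le_sup (f := e) (Finset.mem_univ i))
    rw [show N = e i + k from hk, pow_add, pow_mul]
    exact Subring.pow_mem (algebraMap F L).range (⟨c, hc⟩ : b i ^ p ^ e i ∈ (algebraMap F L).range) _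
  choose r hr using hy
  choose g h hh hgh using fun i => IsFractionRing.div_surjective (A := R[X]) (r i)
  have hq0 : p ^ N ≠ 0 := pow_ne_zero _ (expChar_pos F p).ne'
  -- the coefficient field
  let K₀ := AlgebraicClosure (FractionRing R)
  let cs : Finset R := (Finset.univ.biUnion fun i => (g i).coeffs ∪ (h i).coeffs) ∪ {0}
  choose θ hθ using fun c : R => IsAlgClosed.exists_pow_nat_eq (algebraMap R K₀ c) (Nat.pos_of_ne_zero hq0)
  let K' := IntermediateField.adjoin (FractionRing R) (θ '' (cs : Set R))
  haveI : Finite (θ '' (cs : Set R)) := (cs.finite_toSet.image _).to_subtype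
  haveI : FiniteDimensional (FractionRing R) K' :=
    IntermediateField.finiteDimensional_adjoin
      fun x _ => (AlgebraicClosure.isAlgebraic (FractionRing R)).isAlgebraic x |>.isIntegral
  haveI : Module.Finite R (integralClosure R K') := hR K' inferInstance
  let R' := integralClosure R K'
  haveI : IsIntegrallyClosed R' := integralClosure.isIntegrallyClosedOfFiniteExtension (FractionRing R)
  have hinjR : Function.Injective (algebraMap R R') := fun a c hac => by
    have h2 := congrArg Subtype.val hac
    change algebraMap R K' a = algebraMap R K' c at h2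
    rw [IsScalarTower.algebraMap_apply R (FractionRing R) K', IsScalarTower.algebraMap_apply R (FractionRing R) K'] at h2
    exact IsFractionRing.injective R (FractionRing R) ((algebraMap (FractionRing R) K').injective h2)
  have hroot : ∀ c ∈ cs, ∃ t : R', t ^ p ^ N = algebraMap R R' c := fun c hc => by
    let t₀ : K' := ⟨θ c, IntermediateField.subset_adjoin _ _ ⟨c, hc, rfl⟩⟩
    have ht : t₀ ^ p ^ N = algebraMap R K' c := Subtype.ext (hθ c)
    exact ⟨⟨t₀, IsIntegral.of_pow (Nat.pos_of_ne_zero hq0) (ht ▸ isIntegral_algebraMap)⟩, Subtype.ext ht⟩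
  haveI : ExpChar R p := RingHom.expChar (algebraMap R F) (FaithfulSMul.algebraMap_injective R F) p
  haveI : ExpChar R' p := expChar_of_injective_algebraMap hinjR p
  let φ : R[X] →+* R'[X] := (expand R' (p ^ N)).toRingHom.comp (mapRingHom (algebraMap R R'))
  letI : Algebra R[X] R'[X] := φ.toAlgebra
  haveI : Module.Finite R[X] R'[X] := finite_expand hq0 fun f => rfl
  have hroots : ∀ f : R[X], (f.coeffs ⊆ cs) → ∃ G : R'[X], G ^ p ^ N = algebraMap R[X] R'[X] f := by
    intro f hf
    have : ∀ n, ∃ t : R', t ^ p ^ N = algebraMap R R' (f.coeff n) := fun n => by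
      by_cases hn : f.coeff n = 0
      · exact ⟨0, by rw [hn, map_zero, zero_pow hq0]⟩
      · exact hroot _ (hf (coeff_mem_coeffs hn))
    choose t ht using this
    refine ⟨∑ n ∈ f.support, C (t n) * X ^ n, ?_⟩
    rw [sum_pow_char_pow]
    conv_rhs => rw [f.as_sum_support_C_mul_X_pow, map_sum]
    refine Finset.sum_congr rfl fun n _ => ?_
    show _ = φ (C (f.coeff n) * X ^ n)
    show _ = expand R' (p ^ N) ((C (f.coeff n) * X ^ n).map (algebraMap R R'))
    rw [Polynomial.map_mul, map_C, Polynomial.map_pow, map_X, map_mul, expand_C, map_pow, expand_X, mul_pow,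
      ← C_pow, ht, ← pow_mul, ← pow_mul, mul_comm n]
  have hinj : Function.Injective (algebraMap R[X] R'[X]) := fun a c hac =>
    map_injective _ hinjR (expand_injective (Nat.pos_of_ne_zero hq0) hac)
  haveI : FaithfulSMul R[X] (FractionRing R'[X]) := (faithfulSMul_iff_algebraMap_injective _ _).mpr (by
    rw [IsScalarTower.algebraMap_eq R[X] R'[X]]
    exact (IsFractionRing.injective R'[X] _).comp hinj)
  letI : Algebra F (FractionRing R'[X]) := FractionRing.liftAlgebra R[X] _
  let Ω := AlgebraicClosure (FractionRing R'[X])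
  haveI : IsScalarTower R[X] F Ω := IsScalarTower.to₁₂₄ R[X] F (FractionRing R'[X]) Ω
  haveI : ExpChar Ω p := expChar_of_injective_algebraMap (algebraMap F Ω).injective p
  let ι : L →ₐ[F] Ω := IsAlgClosed.lift
  have hmemb : ∀ i, ι (b i) ∈ Set.range (algebraMap (FractionRing R'[X]) Ω) := by
    intro i
    have hsub : (g i).coeffs ⊆ cs ∧ (h i).coeffs ⊆ cs :=
      ⟨fun c hc => Finset.mem_union_left _ (Finset.mem_biUnion.mpr ⟨i, Finset.mem_univ _, Finset.mem_union_left _ hc⟩),
        fun c hc => Finset.mem_union_left _ (Finset.mem_biUnion.mpr ⟨i, Finset.mem_univ _, Finset.mem_union_right _ hc⟩)⟩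
    obtain ⟨G, hG⟩ := hroots _ hsub.1
    obtain ⟨H, hH⟩ := hroots _ hsub.2
    refine ⟨algebraMap _ _ G / algebraMap _ _ H, iterateFrobenius_inj Ω p N ?_⟩
    simp only [iterateFrobenius_def]
    rw [← map_pow, div_pow, ← map_pow, ← map_pow, hG, hH, ← map_pow ι, ← hr i, AlgHom.commutes, ← hgh i, map_div₀,
      map_div₀, ← IsScalarTower.algebraMap_apply R[X] R'[X], ← IsScalarTower.algebraMap_apply R[X] R'[X],
      ← IsScalarTower.algebraMap_apply R[X] (FractionRing R'[X]), ← IsScalarTower.algebraMap_apply R[X] (FractionRing R'[X]),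
      ← IsScalarTower.algebraMap_apply R[X] F, ← IsScalarTower.algebraMap_apply R[X] F]
  refine finite_integralClosure_of_normal_model R'[X] L Ω (ι.restrictScalars R[X]) fun z => ?_
  show ι z ∈ _
  rw [← b.sum_repr z, map_sum]
  refine sum_mem (S := (algebraMap (FractionRing R'[X]) Ω).fieldRange) fun i _ => ?_
  rw [map_smul, Algebra.smul_def, IsScalarTower.algebraMap_apply F (FractionRing R'[X]) Ω]
  exact mul_mem ⟨_, rfl⟩ (hmemb i)

end Groth.Agent.CAlgLow
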