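import Groth.Agent.Lib.CAlgLow.MonogenicN1
import Groth.Agent.Lib.CAlgLow.PolyN

/-! # Finite type algebras over Nagata rings are Nagata -/

set_option autoImplicit false
universe u

open Polynomial

namespace Groth.Agent.CAlgLow

theorem isN2_of_ringEquiv {A B : Type u} [CommRing A] [IsDomain A] [CommRing B] [IsDomain B] (e : A ≃+* B)
    (h : CAlg.IsN2 A) : CAlg.IsN2 B := by
  letI := e.toRingHom.toAlgebra
  haveI : IsLocalization (⊥ : Submonoid A) B := by
    refine ⟨?_, fun z => ⟨⟨e.symm z, 1⟩, ?_⟩, fun {a b} h => ⟨1, by simp [e.injective h]⟩⟩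
    · rintro ⟨_, rfl⟩
      rw [map_one]; exact isUnit_one
    · show z * e (1 : A) = e (e.symm z)
      rw [map_one, mul_one, e.apply_symm_apply]
  exact isN2_of_isLocalization (⊥ : Submonoid A) h

theorem finite_of_finite_injective {S M N : Type u} [CommRing S] [IsNoetherianRing S] [AddCommGroup M] [Module S M]
    [AddCommGroup N] [Module S N] [Module.Finite S N] (f : M →ₗ[S] N) (hf : Function.Injective f) : Module.Finite S M :=
  Module.Finite.of_injective f hf

/-- A monogenic domain over a Nagata domain is N-2. -/
theorem isN2_monogenic {R S : Type u} [CommRing R] [IsDomain R] (hR : CAlg.IsNagata R) [CommRing S] [IsDomain S]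
    [Algebra R S] (hinj : Function.Injective (algebraMap R S)) (x : S) (hx : Algebra.adjoin R ({x} : Set S) = ⊤) :
    CAlg.IsN2 S := by
  classical
  haveI := hR.1
  have hsurj : Function.Surjective (aeval x : R[X] →ₐ[R] S) := fun z => by
    have : z ∈ Algebra.adjoin R ({x} : Set S) := hx ▸ Algebra.mem_top
    rw [Algebra.adjoin_singleton_eq_range_aeval] at this
    exact this
  by_cases halg : ∀ g : R[X], aeval x g = 0 → g = 0
  · have hbij : Function.Bijective (aeval x : R[X] →ₐ[R] S) := ⟨(injective_iff_map_eq_zero _).mpr halg, hsurj⟩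
    refine isN2_of_ringEquiv (RingEquiv.ofBijective (aeval x : R[X] →ₐ[R] S).toRingHom hbij) (isN2_polynomial R ?_)
    exact isN2_of_finite (R := R) hR
  push Not at halg
  obtain ⟨g, hg, hg0⟩ := halg
  intro L _ _ _ _ hfin
  haveI := hfin
  letI : Algebra R L := ((algebraMap S L).comp (algebraMap R S)).toAlgebra
  haveI : IsScalarTower R S L := .of_algebraMap_eq fun _ => rfl
  have hinjS : Function.Injective (algebraMap S L) := by
    rw [IsScalarTower.algebraMap_eq S (FractionRing S) L]
    exact (algebraMap (FractionRing S) L).injective.comp (IsFractionRing.injective S (FractionRing S))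
  haveI : FaithfulSMul R L := (faithfulSMul_iff_algebraMap_injective _ _).mpr (hinjS.comp hinj)
  letI : Algebra (FractionRing R) L := FractionRing.liftAlgebra R L
  let xL := algebraMap S L x
  have hxalg : IsIntegral (FractionRing R) xL := by
    refine (IsAlgebraic.isIntegral ⟨g.map (algebraMap R (FractionRing R)),
      (Polynomial.map_ne_zero_iff (IsFractionRing.injective R _)).mpr hg0, ?_⟩)
    rw [aeval_map_algebraMap, aeval_algebraMap_apply, hg, map_zero]
  haveI : FiniteDimensional (FractionRing R) L := by
    -- `L` is finite over `R[x]`'s fraction field, which is finite over `Frac R`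
    let F := IntermediateField.adjoin (FractionRing R) ({xL} : Set L)
    haveI : FiniteDimensional (FractionRing R) F := IntermediateField.adjoin.finiteDimensional hxalg
    have hmem : ∀ s : S, algebraMap S L s ∈ F := fun s => by
      obtain ⟨q, rfl⟩ := hsurj s
      rw [← aeval_algebraMap_apply, ← aeval_map_algebraMap (FractionRing R)]
      exact IntermediateField.algebra_adjoin_le_adjoin _ _ (Polynomial.aeval_mem_adjoin_singleton _ _)
    obtain ⟨n, b, hb⟩ := Module.Finite.exists_fin (R := FractionRing S) (M := L)
    haveI : Module.Finite F L := ⟨by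
      refine Submodule.fg_def.mpr ⟨Set.range b, Set.finite_range _, eq_top_iff.mpr fun z hz' => ?_⟩
      clear hz'
      have hz : z ∈ Submodule.span (FractionRing S) (Set.range b) := hb ▸ Submodule.mem_top
      induction hz using Submodule.span_induction with
      | mem y hy => exact Submodule.subset_span hy
      | zero => exact zero_mem _
      | add u v _ _ hu hv => exact add_mem hu hv
      | smul c u _ hu =>
        obtain ⟨a, e, he, rfl⟩ := IsFractionRing.div_surjective (A := S) c
        have hc : algebraMap (FractionRing S) L (algebraMap S (FractionRing S) a / algebraMap S (FractionRing S) e) ∈ F := by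
          rw [map_div₀, ← IsScalarTower.algebraMap_apply, ← IsScalarTower.algebraMap_apply]
          exact div_mem (hmem a) (hmem e)
        rw [Algebra.smul_def]
        exact Submodule.smul_mem _ (⟨_, hc⟩ : F) hu⟩
    exact Module.Finite.trans F L
  haveI : Algebra.EssFiniteType R L := by
    haveI : Algebra.EssFiniteType R (FractionRing R) := Algebra.EssFiniteType.of_isLocalization _ (nonZeroDivisors R)
    exact Algebra.EssFiniteType.comp R (FractionRing R) L
  haveI : Module.Finite R (integralClosure R L) := NormFin18.finite_integralClosure_field R L hR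
  let R' := integralClosure R L
  haveI : IsFractionRing R' L := integralClosure.isFractionRing_of_finite_extension (FractionRing R) L
  haveI : IsIntegrallyClosed R' := integralClosure.isIntegrallyClosedOfFiniteExtension (FractionRing R)
  haveI : IsNoetherianRing R' := IsNoetherianRing.of_finite R R'
  let S' := Algebra.adjoin R' ({xL} : Set L)
  have h1 : CAlg.IsN1 S' := isN1_adjoin (isNagata_of_finite hR R') xL
  haveI : Module.Finite S' (integralClosure S' L) := finite_integralClosure_of_isN1 L h1
  have hle : ∀ s : S, algebraMap S L s ∈ S' := fun s => by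
    obtain ⟨q, rfl⟩ := hsurj s
    rw [← aeval_algebraMap_apply, ← aeval_map_algebraMap R']
    exact Polynomial.aeval_mem_adjoin_singleton _ _
  letI : Algebra S S' := ((algebraMap S L).codRestrict S'.toSubring hle).toAlgebra
  haveI : IsScalarTower S S' L := .of_algebraMap_eq fun _ => rfl
  haveI : Module.Finite S S' := by
    obtain ⟨G, hG⟩ := (‹Module.Finite R R'›).fg_top
    let A : Subalgebra S L := Algebra.adjoin S (Subtype.val '' (G : Set R'))
    have hAfg : (Subalgebra.toSubmodule A).FG := fg_adjoin_of_finite (G.finite_toSet.image _)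
      (by rintro _ ⟨r, -, rfl⟩; exact (r.2 : IsIntegral R r.1).tower_top)
    have hR'A : ∀ r : R', (r : L) ∈ A := fun r => by
      have hr : r ∈ Submodule.span R (G : Set R') := hG ▸ Submodule.mem_top
      induction hr using Submodule.span_induction with
      | mem y hy => exact Algebra.subset_adjoin ⟨y, hy, rfl⟩
      | zero => exact zero_mem _
      | add u v _ _ hu hv => exact add_mem hu hv
      | smul c u _ hu =>
        rw [Subalgebra.coe_smul, Algebra.smul_def, IsScalarTower.algebraMap_apply R S L]
        exact mul_mem (A.algebraMap_mem _) hu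
    let B : Subalgebra R' L := { A.toSubsemiring with algebraMap_mem' := hR'A }
    have hS'A : (S' : Set L) ⊆ A := fun z hz =>
      (Algebra.adjoin_le (S := B) (Set.singleton_subset_iff.mpr (A.algebraMap_mem x)) hz : z ∈ B)
    haveI : Module.Finite S A := Module.Finite.iff_fg.mpr hAfg
    haveI : IsNoetherianRing S := by
      haveI : Algebra.FiniteType R S := ⟨⟨{x}, by rw [Finset.coe_singleton, hx]⟩⟩
      exact Algebra.FiniteType.isNoetherianRing R S
    let ψ : S' →ₗ[S] A :=
      { toFun := fun z => ⟨z.1, hS'A z.2⟩
        map_add' := fun _ _ => rfl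
        map_smul' := fun c z => Subtype.ext (by
          show algebraMap S L c * (z : L) = c • (z : L)
          rw [Algebra.smul_def]) }
    exact Module.Finite.of_injective ψ fun u v h => Subtype.ext (congrArg Subtype.val h :)
  haveI : Module.Finite S (integralClosure S' L) := Module.Finite.trans S' _
  haveI : IsNoetherianRing S := by
    haveI : Algebra.FiniteType R S := ⟨⟨{x}, by rw [Finset.coe_singleton, hx]⟩⟩
    exact Algebra.FiniteType.isNoetherianRing R S
  let φ : integralClosure S' L →ₗ[S] L :=
    { toFun := fun z => z.1
      map_add' := fun _ _ => rfl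
      map_smul' := fun _ _ => rfl }
  haveI : Module.Finite S (LinearMap.range φ) := Module.Finite.range φ
  exact Module.Finite.of_injective
    (LinearMap.codRestrict (LinearMap.range φ) (integralClosure S L).val.toLinearMap
      fun z => ⟨⟨z.1, (z.2 : IsIntegral S z.1).tower_top⟩, rfl⟩)
    fun a b h => Subtype.ext (congrArg Subtype.val h :)

theorem isNagata_polynomial {R : Type u} [CommRing R] (hR : CAlg.IsNagata R) : CAlg.IsNagata R[X] := by
  haveI := hR.1
  refine ⟨inferInstance, fun q _ => ?_⟩
  let p := q.comap (Polynomial.C : R →+* R[X])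
  haveI : p.IsPrime := Ideal.IsPrime.comap _
  letI : Algebra (R ⧸ p) (R[X] ⧸ q) := (Ideal.quotientMap q (Polynomial.C : R →+* R[X]) le_rfl).toAlgebra
  refine isN2_monogenic (isNagata_of_surjective hR (Ideal.Quotient.mk p) Ideal.Quotient.mk_surjective)
    Ideal.quotientMap_injective (Ideal.Quotient.mk q X) ?_
  refine eq_top_iff.mpr fun z _ => ?_
  obtain ⟨z, rfl⟩ := Ideal.Quotient.mk_surjective z
  induction z using Polynomial.induction_on' with
  | add u v hu hv => rw [map_add]; exact add_mem (hu trivial) (hv trivial)
  | monomial n r =>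
    rw [← C_mul_X_pow_eq_monomial, map_mul, map_pow]
    refine mul_mem ?_ (pow_mem (Algebra.self_mem_adjoin_singleton _ _) n)
    exact Subalgebra.algebraMap_mem (Algebra.adjoin (R ⧸ p) ({Ideal.Quotient.mk q X} : Set (R[X] ⧸ q))) (Ideal.Quotient.mk p r)

theorem isNagata_mvPolynomial {R : Type u} [CommRing R] (hR : CAlg.IsNagata R) :
    ∀ n : ℕ, CAlg.IsNagata (MvPolynomial (Fin n) R) := by
  intro n
  induction n with
  | zero => exact isNagata_of_surjective hR (MvPolynomial.isEmptyAlgEquiv R (Fin 0)).symm.toRingEquiv.toRingHom (AlgEquiv.surjective _)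
  | succ n ih =>
    exact isNagata_of_surjective (isNagata_polynomial ih)
      (MvPolynomial.finSuccEquiv R n).symm.toRingEquiv.toRingHom (AlgEquiv.surjective _)

theorem isNagata_of_finiteType {R : Type u} [CommRing R] (hR : CAlg.IsNagata R) (S : Type u) [CommRing S]
    [Algebra R S] [Algebra.FiniteType R S] : CAlg.IsNagata S := by
  obtain ⟨n, f, hf⟩ := Algebra.FiniteType.iff_quotient_mvPolynomial''.mp (inferInstance : Algebra.FiniteType R S)
  exact isNagata_of_surjective (isNagata_mvPolynomial hR n) f.toRingHom hf

theorem isUniversallyJapanese_of_isNagata {R : Type u} [CommRing R] (hR : CAlg.IsNagata R) :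
    CAlg.IsUniversallyJapanese R := by
  intro S _ _ _ hS
  haveI := hS
  have hS' := isNagata_of_finiteType hR S
  exact isN2_of_finite (R := S) hS'

end Groth.Agent.CAlgLow
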