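import Mathlib
import Groth.Prelude.Def_Found

/-! # Finiteness of normalisation from a reduced formal generic fibre -/

set_option autoImplicit false
universe u

open TensorProduct

namespace Groth.Agent.AnUnram

/-- Over a Nagata ring, the integral closure in a residue field of a finite algebra over a localization
is finite. -/
theorem finite_integralClosure_residueField {B : Type u} [CommRing B] (hB : CAlg.IsNagata B)
    (S : Submonoid B) {R : Type u} [CommRing R] [Algebra B R] [IsLocalization S R]
    {T : Type u} [CommRing T] [Algebra R T] [Module.Finite R T] [Algebra B T] [IsScalarTower B R T]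
    (q : Ideal T) [q.IsPrime] : Module.Finite B (integralClosure B q.ResidueField) := by
  classical
  let L := q.ResidueField
  let p : Ideal B := RingHom.ker (algebraMap B L)
  haveI : p.IsPrime := RingHom.ker_isPrime _
  letI : Algebra (B ⧸ p) L := (Ideal.Quotient.lift p (algebraMap B L) fun x hx => hx).toAlgebra
  haveI : IsScalarTower B (B ⧸ p) L := .of_algebraMap_eq fun x => rfl
  haveI : FaithfulSMul (B ⧸ p) L := (faithfulSMul_iff_algebraMap_injective _ _).mpr
    (RingHom.lift_injective_of_ker_le_ideal _ _ le_rfl)
  letI := FractionRing.liftAlgebra (B ⧸ p) L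
  letI : Algebra B (FractionRing (B ⧸ p)) := ((algebraMap (B ⧸ p) (FractionRing (B ⧸ p))).comp (algebraMap B (B ⧸ p))).toAlgebra
  let K := FractionRing (B ⧸ p)
  -- the image of `R` lies in the image of `K`
  have hR : ∀ r : R, algebraMap T L (algebraMap R T r) ∈ Set.range (algebraMap K L) := by
    intro r
    obtain ⟨⟨b, s⟩, hbs⟩ := IsLocalization.surj S r
    have hb : ∀ c : B, algebraMap T L (algebraMap R T (algebraMap B R c)) = algebraMap K L
        (algebraMap (B ⧸ p) K (Ideal.Quotient.mk p c)) := fun c => by
      rw [← IsScalarTower.algebraMap_apply B R T, ← IsScalarTower.algebraMap_apply (B ⧸ p) K L,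
        ← IsScalarTower.algebraMap_apply B T L]
      rfl
    have hs : algebraMap T L (algebraMap R T (algebraMap B R s)) ≠ 0 :=
      ((((IsLocalization.map_units R s).map (algebraMap R T)).map (algebraMap T L))).ne_zero
    refine ⟨algebraMap (B ⧸ p) K (Ideal.Quotient.mk p b) / algebraMap (B ⧸ p) K (Ideal.Quotient.mk p s), ?_⟩
    rw [map_div₀, ← hb, ← hb, div_eq_iff hs, ← map_mul, ← map_mul, hbs]
  obtain ⟨n, g, hg⟩ := Module.Finite.exists_fin (R := R) (M := T)
  let W : Submodule K L := Submodule.span K (Set.range (algebraMap T L))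
  have hW : W = Submodule.span K (Set.range fun i => algebraMap T L (g i)) := by
    refine le_antisymm (Submodule.span_le.mpr ?_) (Submodule.span_mono ?_)
    · rintro _ ⟨t, rfl⟩
      obtain ⟨c, hc⟩ := (Submodule.mem_span_range_iff_exists_fun R).mp (hg.symm ▸ Submodule.mem_top : t ∈ _)
      rw [← hc, map_sum]
      refine sum_mem fun i _ => ?_
      obtain ⟨k, hk⟩ := hR (c i)
      rw [Algebra.smul_def, map_mul, ← hk, ← Algebra.smul_def]
      exact Submodule.smul_mem _ k (Submodule.subset_span ⟨i, rfl⟩)
    · rintro _ ⟨i, rfl⟩
      exact ⟨g i, rfl⟩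
  have hA : Subalgebra.toSubmodule (Algebra.adjoin K (Set.range (algebraMap T L))) = W := by
    rw [Algebra.adjoin_eq_span]
    refine congrArg (Submodule.span K) (le_antisymm ?_ Submonoid.subset_closure)
    exact fun x hx => (Submonoid.closure_le (S := MonoidHom.mrange (algebraMap T L).toMonoidHom)).mpr le_rfl hx
  have hWfin : W.FG := hW ▸ Submodule.fg_span (Set.finite_range _)
  have hAfield : ∀ x ∈ Algebra.adjoin K (Set.range (algebraMap T L)), x⁻¹ ∈ Algebra.adjoin K (Set.range (algebraMap T L)) := by
    intro x hx
    haveI : Module.Finite K (Algebra.adjoin K (Set.range (algebraMap T L))) :=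
      Module.Finite.iff_fg.mpr (hA.symm ▸ hWfin)
    have hx' : IsIntegral K x :=
      (Algebra.IsIntegral.isIntegral (R := K) (⟨x, hx⟩ : Algebra.adjoin K (Set.range (algebraMap T L)))).map
        (Algebra.adjoin K (Set.range (algebraMap T L))).val
    exact Subalgebra.inv_mem_of_algebraic (A := Algebra.adjoin K (Set.range (algebraMap T L))) (x := ⟨x, hx⟩)
      hx'.isAlgebraic
  haveI : FiniteDimensional K L := by
    refine ⟨?_⟩
    have : W = ⊤ := by
      refine eq_top_iff.mpr fun x _ => ?_
      obtain ⟨a, b, hb, hab⟩ := IsFractionRing.div_surjective (A := T ⧸ q) x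
      obtain ⟨a, rfl⟩ := Ideal.Quotient.mk_surjective a
      obtain ⟨b, rfl⟩ := Ideal.Quotient.mk_surjective b
      rw [← hA, Subalgebra.mem_toSubmodule, ← hab, div_eq_mul_inv]
      exact mul_mem (Algebra.subset_adjoin ⟨a, rfl⟩) (hAfield _ (Algebra.subset_adjoin ⟨b, rfl⟩))
    exact this ▸ hWfin
  haveI : Module.Finite (B ⧸ p) (integralClosure (B ⧸ p) L) := hB.2 p L inferInstance
  haveI : Module.Finite B (integralClosure (B ⧸ p) L) := Module.Finite.trans (B ⧸ p) _
  haveI := hB.1
  let ψ : integralClosure B L →ₗ[B] integralClosure (B ⧸ p) L :=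
    { toFun := fun z => ⟨z.1, z.2.tower_top⟩
      map_add' := fun _ _ => rfl
      map_smul' := fun _ _ => rfl }
  exact Module.Finite.of_injective ψ fun x y h => Subtype.ext (congrArg Subtype.val h :)

/-- Over a Nagata ring, the integral closure in a reduced finite algebra over a localization is finite. -/
theorem finite_integralClosure_of_localization_finite {B : Type u} [CommRing B] (hB : CAlg.IsNagata B)
    (S : Submonoid B) (R : Type u) [CommRing R] [Algebra B R] [IsLocalization S R]
    (T : Type u) [CommRing T] [Algebra R T] [Module.Finite R T] [Algebra B T] [IsScalarTower B R T]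
    [IsReduced T] : Module.Finite B (integralClosure B T) := by
  haveI := hB.1
  haveI : IsNoetherianRing R := IsLocalization.isNoetherianRing S R hB.1
  haveI : IsNoetherianRing T := IsNoetherianRing.of_finite R T
  haveI : Finite (minimalPrimes T) := (minimalPrimes.finite_of_isNoetherianRing T).to_subtype
  haveI hq : ∀ q : minimalPrimes T, q.1.IsPrime := fun q => q.2.1.1
  haveI : ∀ q : minimalPrimes T, Module.Finite B (integralClosure B q.1.ResidueField) := fun q =>
    finite_integralClosure_residueField (R := R) hB S q.1
  let ψ : integralClosure B T →ₗ[B] (q : minimalPrimes T) → integralClosure B q.1.ResidueField :=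
    LinearMap.pi fun q =>
      { toFun := fun z => ⟨IsScalarTower.toAlgHom B T q.1.ResidueField z.1, z.2.map _⟩
        map_add' := fun x y => Subtype.ext (map_add (IsScalarTower.toAlgHom B T q.1.ResidueField) x.1 y.1)
        map_smul' := fun c x => Subtype.ext ((IsScalarTower.toAlgHom B T q.1.ResidueField).toLinearMap.map_smul c x.1) }
  refine Module.Finite.of_injective ψ fun x y h => Subtype.ext ?_
  rw [← sub_eq_zero]
  refine IsReduced.eq_zero _ ?_
  rw [← mem_nilradical, nilradical, ← Ideal.sInf_minimalPrimes, Ideal.mem_sInf]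
  intro q hq
  haveI : q.IsPrime := hq.1.1
  have := congrArg Subtype.val (congrFun h ⟨q, hq⟩)
  change algebraMap T q.ResidueField x.1 = algebraMap T q.ResidueField y.1 at this
  rw [← Ideal.algebraMap_residueField_eq_zero, map_sub, this, sub_self]

/-- Descent along a faithfully flat Nagata algebra. -/
theorem finite_integralClosure_of_isReduced_fibre {A : Type u} [CommRing A] [IsDomain A]
    (B : Type u) [CommRing B] [Algebra A B] [Module.FaithfullyFlat A B] (hB : CAlg.IsNagata B)
    (S : Submonoid B) (R : Type u) [CommRing R] [Algebra B R] [IsLocalization S R] [Algebra A R]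
    [IsScalarTower A B R] (hinj : Function.Injective (algebraMap B R))
    (hunit : ∀ a : A, a ≠ 0 → IsUnit (algebraMap A R a))
    (K' : Type u) [Field K'] [Algebra A K'] [Algebra (FractionRing A) K'] [IsScalarTower A (FractionRing A) K']
    [FiniteDimensional (FractionRing A) K'] [IsReduced (R ⊗[A] K')] :
    Module.Finite A (integralClosure A K') := by
  classical
  haveI : Module.Flat A K' := Module.Flat.trans A (FractionRing A) K'
  haveI : Module.Finite R (R ⊗[A] K') := by
    obtain ⟨n, g, hg⟩ := Module.Finite.exists_fin (R := FractionRing A) (M := K')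
    refine ⟨Submodule.fg_def.mpr ⟨Set.range fun i => (1 : R) ⊗ₜ[A] g i, Set.finite_range _, eq_top_iff.mpr fun x _ => ?_⟩⟩
    induction x using TensorProduct.induction_on with
    | zero => exact zero_mem _
    | add x y hx hy => exact add_mem (hx trivial) (hy trivial)
    | tmul r k =>
      obtain ⟨c, rfl⟩ := (Submodule.mem_span_range_iff_exists_fun (FractionRing A)).mp (hg.symm ▸ Submodule.mem_top : k ∈ _)
      rw [tmul_sum]
      refine sum_mem fun i _ => ?_
      obtain ⟨a, s, hs, hc⟩ := IsFractionRing.div_surjective (A := A) (c i)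
      have hs0 : s ≠ 0 := nonZeroDivisors.ne_zero hs
      obtain ⟨v, hv⟩ := hunit s hs0
      have h2 : s • c i = algebraMap A (FractionRing A) a := by
        rw [← hc, Algebra.smul_def, mul_div_cancel₀]
        exact IsFractionRing.to_map_ne_zero_of_mem_nonZeroDivisors hs
      have hmain : s • (c i • g i) = a • g i := by
        rw [← smul_assoc, h2, IsScalarTower.algebraMap_smul]
      have : r ⊗ₜ[A] (c i • g i) = (r * ↑v⁻¹ * algebraMap A R a) • ((1 : R) ⊗ₜ[A] g i) := by
        have h1 : r = s • (r * ↑v⁻¹) := by
          rw [Algebra.smul_def, ← hv, mul_left_comm, Units.mul_inv, mul_one]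
        conv_lhs => rw [h1, smul_tmul, hmain, ← smul_tmul]
        rw [smul_tmul', smul_eq_mul, mul_one, Algebra.smul_def, mul_comm]
      rw [this]
      exact Submodule.smul_mem _ _ (Submodule.subset_span ⟨i, rfl⟩)
  haveI := finite_integralClosure_of_localization_finite hB S R (R ⊗[A] K')
  let C := integralClosure A K'
  let ψ : B ⊗[A] C →ₐ[B] R ⊗[A] K' := Algebra.TensorProduct.map (Algebra.ofId B R) C.val
  have hψ : Function.Injective ψ := by
    have h1 : Function.Injective (LinearMap.lTensor B C.val.toLinearMap) :=
      Module.Flat.lTensor_preserves_injective_linearMap _ Subtype.val_injective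
    have h2 : Function.Injective (LinearMap.rTensor K' (IsScalarTower.toAlgHom A B R).toLinearMap) :=
      Module.Flat.rTensor_preserves_injective_linearMap _ hinj
    have h3 : (ψ : B ⊗[A] C → R ⊗[A] K') = LinearMap.rTensor K' (IsScalarTower.toAlgHom A B R).toLinearMap ∘
        LinearMap.lTensor B C.val.toLinearMap := by
      funext x
      induction x using TensorProduct.induction_on with
      | zero => simp
      | add x y hx hy => simp only [map_add, Function.comp_apply] at hx hy ⊢; rw [hx, hy]
      | tmul b c => rfl
    rw [h3]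
    exact h2.comp h1
  have hmem : ∀ x, IsIntegral B (ψ x) := by
    intro x
    induction x using TensorProduct.induction_on with
    | zero => rw [map_zero]; exact isIntegral_zero
    | add x y hx hy => rw [map_add]; exact hx.add hy
    | tmul b c =>
      have hbc : b ⊗ₜ[A] c = b • ((1 : B) ⊗ₜ[A] c) := by rw [smul_tmul', smul_eq_mul, mul_one]
      have h1 : IsIntegral A ((1 : R) ⊗ₜ[A] (c : K')) :=
        c.2.map (Algebra.TensorProduct.includeRight : K' →ₐ[A] R ⊗[A] K')
      rw [hbc, map_smul, show ψ ((1 : B) ⊗ₜ[A] c) = (1 : R) ⊗ₜ[A] (c : K') by simp [ψ]]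
      exact (h1.tower_top).smul b
  haveI := hB.1
  haveI : Module.Finite B (B ⊗[A] C) :=
    Module.Finite.of_injective (ψ.toLinearMap.codRestrict (Subalgebra.toSubmodule (integralClosure B (R ⊗[A] K'))) hmem)
      fun x y h => hψ (congrArg Subtype.val h :)
  exact Module.Finite.of_finite_tensorProduct_of_faithfullyFlat B

/-- Nonzero elements of a domain are units in the total fraction ring of a flat algebra. -/
theorem isUnit_algebraMap_of_flat {A : Type u} [CommRing A] [IsDomain A] (B : Type u) [CommRing B] [Algebra A B]
    [Module.Flat A B] (R : Type u) [CommRing R] [Algebra B R] [IsFractionRing B R] [Algebra A R]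
    [IsScalarTower A B R] (a : A) (ha : a ≠ 0) : IsUnit (algebraMap A R a) := by
  rw [IsScalarTower.algebraMap_apply A B R]
  refine IsLocalization.map_units R (⟨algebraMap A B a, ?_⟩ : nonZeroDivisors B)
  have h := IsSMulRegular.of_flat (S := B) (IsRegular.of_ne_zero ha).left.isSMulRegular
  exact mem_nonZeroDivisors_iff_right.mpr fun x hx => h (by simpa [mul_comm] using hx)

end Groth.Agent.AnUnram
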