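import Mathlib
import Groth.Prelude.Def_Found
import Groth.Agent.Lib.H2Alg.NormalAss

/-! # Nagata local domains are analytically unramified -/

set_option autoImplicit false
universe u

open TensorProduct IsLocalRing

namespace Groth.Agent.AnUnram

theorem isReduced_quotient_ker {A B : Type*} [CommRing A] [CommRing B] [IsReduced B] (f : A →+* B) :
    IsReduced (A ⧸ RingHom.ker f) :=
  isReduced_of_injective (RingHom.kerLift f) (RingHom.kerLift_injective f)

/-- The localisation at an associated prime of a principal ideal in a normal domain is a DVR. -/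
theorem isDVR_localization {S : Type u} [CommRing S] [IsDomain S] [IsNoetherianRing S] [IsIntegrallyClosed S]
    {x : S} (hx : x ≠ 0) (p : Ideal S) [p.IsPrime] (hp : IsAssociatedPrime p (S ⧸ Ideal.span {x})) :
    x ∈ p ∧ IsDiscreteValuationRing (Localization.AtPrime p) := by
  classical
  obtain ⟨hpp, y, hy⟩ := isAssociatedPrime_iff.mp hp
  haveI := hpp
  obtain ⟨y, rfl⟩ := Ideal.Quotient.mk_surjective y
  have hmem : ∀ t : S, t ∈ p ↔ x ∣ t * y := fun t => by
    rw [hy, Submodule.mem_colon_singleton, Submodule.mem_bot, Algebra.smul_def, Ideal.Quotient.algebraMap_eq,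
      ← map_mul, Ideal.Quotient.eq_zero_iff_dvd]
  have hxp : x ∈ p := (hmem x).mpr (dvd_mul_right x y)
  refine ⟨hxp, ?_⟩
  let A := Localization.AtPrime p
  haveI : IsNoetherianRing A := IsLocalization.isNoetherianRing p.primeCompl A inferInstance
  haveI : IsIntegrallyClosed A := isIntegrallyClosed_of_isLocalization A p.primeCompl p.primeCompl_le_nonZeroDivisors
  have hinj : Function.Injective (algebraMap S A) := IsLocalization.injective A p.primeCompl_le_nonZeroDivisors
  have hmax : maximalIdeal A = p.map (algebraMap S A) := (IsLocalization.AtPrime.map_eq_maximalIdeal p A).symm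
  have hdvr : IsDiscreteValuationRing A := by
    refine H2Alg.isDVR_of_dvd_mul_maximalIdeal (algebraMap S A x) (fun h => hx (hinj (h.trans (map_zero _).symm)))
      (algebraMap S A y) (fun hdvd => ?_) (by rw [hmax]; exact Ideal.mem_map_of_mem _ hxp) (fun z hz => ?_)
    · rw [← Ideal.mem_span_singleton, ← Set.image_singleton, ← Ideal.map_span,
        IsLocalization.algebraMap_mem_map_algebraMap_iff p.primeCompl A] at hdvd
      obtain ⟨m, hm, hmy⟩ := hdvd
      exact hm ((hmem m).mpr (Ideal.mem_span_singleton.mp hmy))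
    · obtain ⟨a, t, rfl⟩ := IsLocalization.exists_mk'_eq p.primeCompl z
      obtain ⟨c, hc⟩ := (hmem a).mp ((IsLocalization.AtPrime.mk'_mem_maximal_iff A p a t).mp hz)
      exact ⟨IsLocalization.mk' A c t, by rw [IsLocalization.mul_mk'_eq_mk'_of_mul, IsLocalization.mul_mk'_eq_mk'_of_mul,
        mul_comm y a, hc]⟩
  exact hdvr

/-- An associated prime of a principal ideal in a normal domain is locally principal. -/
theorem exists_local_generator {S : Type u} [CommRing S] [IsDomain S] [IsNoetherianRing S] [IsIntegrallyClosed S]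
    {x : S} (hx : x ≠ 0) (p : Ideal S) (hp : IsAssociatedPrime p (S ⧸ Ideal.span {x})) :
    x ∈ p ∧ ∃ (π : S) (s : S), π ≠ 0 ∧ s ∉ p ∧ (∀ a ∈ p, s * a ∈ Ideal.span {π}) ∧
      ∃ (k : ℕ) (u : S), u ∉ p ∧ u * π ^ k ∈ Ideal.span {x} := by
  classical
  haveI := hp.isPrime
  obtain ⟨hxp, hdvr⟩ := isDVR_localization hx p hp
  refine ⟨hxp, ?_⟩
  let A := Localization.AtPrime p
  have hinj : Function.Injective (algebraMap S A) := IsLocalization.injective A p.primeCompl_le_nonZeroDivisors
  have hmax : maximalIdeal A = p.map (algebraMap S A) := (IsLocalization.AtPrime.map_eq_maximalIdeal p A).symm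
  haveI : IsDiscreteValuationRing A := hdvr
  obtain ⟨ϖ, hϖ⟩ := IsDiscreteValuationRing.exists_irreducible A
  obtain ⟨π, t, hπt⟩ := IsLocalization.exists_mk'_eq p.primeCompl ϖ
  have hassoc : Associated ϖ (algebraMap S A π) := by
    refine ⟨(IsLocalization.map_units A t).unit, ?_⟩
    rw [IsUnit.unit_spec, ← hπt, IsLocalization.mk'_spec]
  have hspan : maximalIdeal A = (Ideal.span {π}).map (algebraMap S A) := by
    rw [hϖ.maximalIdeal_eq, Ideal.map_span, Set.image_singleton]
    exact Ideal.span_singleton_eq_span_singleton.mpr hassoc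
  have hπ0 : π ≠ 0 := fun h => hϖ.ne_zero (by rw [← hπt, h, IsLocalization.mk'_zero])
  obtain ⟨k, hk⟩ := IsDiscreteValuationRing.associated_pow_irreducible
    (x := algebraMap S A x) (fun h => hx (hinj (h.trans (map_zero _).symm))) hϖ
  have hkπ : algebraMap S A (π ^ k) ∈ (Ideal.span {x}).map (algebraMap S A) := by
    rw [Ideal.map_span, Set.image_singleton, Ideal.mem_span_singleton, map_pow]
    exact (hk.trans (hassoc.pow_pow)).dvd
  obtain ⟨u, hu, hux⟩ := (IsLocalization.algebraMap_mem_map_algebraMap_iff p.primeCompl A _ _).mp hkπ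
  obtain ⟨G, hG⟩ := IsNoetherian.noetherian p
  have hgen : ∀ a : G, ∃ s : S, s ∉ p ∧ s * (a : S) ∈ Ideal.span {π} := fun a => by
    have : algebraMap S A (a : S) ∈ (Ideal.span {π}).map (algebraMap S A) := by
      rw [← hspan, hmax]; exact Ideal.mem_map_of_mem _ (hG ▸ Submodule.subset_span a.2)
    exact (IsLocalization.algebraMap_mem_map_algebraMap_iff p.primeCompl A _ _).mp this
  choose s hs hsG using hgen
  refine ⟨π, ∏ a, s a, hπ0, fun h => ?_, fun a ha => ?_, k, u, hu, hux⟩
  · obtain ⟨i, -, hi⟩ := hp.isPrime.prod_mem_iff.mp h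
    exact hs i hi
  · rw [← hG] at ha
    induction ha using Submodule.span_induction with
    | mem a ha =>
      have := Ideal.mul_mem_left (Ideal.span {π}) (∏ b ∈ Finset.univ.erase (⟨a, ha⟩ : G), s b) (hsG ⟨a, ha⟩)
      rwa [← mul_assoc, Finset.prod_erase_mul _ _ (Finset.mem_univ _)] at this
    | zero => rw [mul_zero]; exact zero_mem _
    | add a b _ _ ha hb => rw [mul_add]; exact add_mem ha hb
    | smul c a _ ha => rw [smul_eq_mul, mul_left_comm]; exact Ideal.mul_mem_left _ _ ha

/-- Nilpotents of a flat algebra over a normal domain are divisible by `x` when the quotients at the associated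
primes of `x` are reduced. -/
theorem nilpotent_mem_span {S : Type u} [CommRing S] [IsDomain S] [IsNoetherianRing S]
    (A : Type u) [CommRing A] [Algebra S A] [Module.Flat S A] {x : S} (hx : x ≠ 0)
    (hloc : ∀ p : Ideal S, IsAssociatedPrime p (S ⧸ Ideal.span {x}) → ∃ (π : S) (s : S), π ≠ 0 ∧ s ∉ p ∧
      (∀ a ∈ p, s * a ∈ Ideal.span {π}) ∧ ∃ (k : ℕ) (u : S), u ∉ p ∧ u * π ^ k ∈ Ideal.span {x})
    (hred : ∀ p : Ideal S, IsAssociatedPrime p (S ⧸ Ideal.span {x}) → IsReduced (A ⧸ p.map (algebraMap S A)))
    {z : A} (hz : IsNilpotent z) : z ∈ (Ideal.span {x}).map (algebraMap S A) := by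
  classical
  let M := S ⧸ Ideal.span {x}
  have hmult : ∀ p : Ideal S, IsAssociatedPrime p M →
      ∃ m : S, m ∉ p ∧ m • z ∈ (Ideal.span {x}).map (algebraMap S A) := by
    intro p hp
    obtain ⟨π, s, hπ, hs, hsp, k, u, hu, hux⟩ := hloc p hp
    haveI := hp.1
    haveI := hred p hp
    have hreg : ∀ b : A, algebraMap S A π * b = 0 → b = 0 := fun b hb => by
      have h := IsSMulRegular.of_flat (S := A) (IsRegular.of_ne_zero hπ).left.isSMulRegular
      exact h (by simpa using hb)
    have key : ∀ j : ℕ, ∃ w : A, IsNilpotent w ∧ s ^ j • z = π ^ j • w := by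
      intro j
      induction j with
      | zero => exact ⟨z, hz, by simp⟩
      | succ j ih =>
        obtain ⟨w, hw, hwz⟩ := ih
        have hwp : w ∈ p.map (algebraMap S A) := by
          rw [← Ideal.Quotient.eq_zero_iff_mem]
          exact (hw.map (Ideal.Quotient.mk _)).eq_zero
        have h1 : algebraMap S A s * w ∈ Ideal.span {algebraMap S A π} := by
          have h2 := Ideal.mul_mem_mul (Ideal.mem_span_singleton_self (algebraMap S A s)) hwp
          rw [← Set.image_singleton, ← Ideal.map_span, ← Ideal.map_mul] at h2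
          rw [← Set.image_singleton, ← Ideal.map_span]
          refine Ideal.map_mono (Ideal.mul_le.mpr fun a ha b hb => ?_) h2
          obtain ⟨c, rfl⟩ := Ideal.mem_span_singleton'.mp ha
          rw [mul_assoc]
          exact Ideal.mul_mem_left _ c (hsp b hb)
        obtain ⟨w', hw'⟩ := Ideal.mem_span_singleton'.mp h1
        refine ⟨w', ?_, ?_⟩
        · obtain ⟨n, hn⟩ := (Commute.all (algebraMap S A s) w).isNilpotent_mul_left hw
          refine ⟨n, ?_⟩
          rw [← hw', mul_pow, mul_comm] at hn
          clear hw'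
          induction n generalizing w' with
          | zero => simpa using hn
          | succ n _ =>
            have : ∀ m : ℕ, ∀ b : A, algebraMap S A π ^ m * b = 0 → b = 0 := fun m => by
              induction m with
              | zero => intro b hb; simpa using hb
              | succ m ihm => intro b hb; exact hreg b (ihm _ (by rw [← mul_assoc, ← pow_succ]; exact hb))
            exact this _ _ hn
        · rw [pow_succ, mul_comm, mul_smul, hwz, smul_comm, Algebra.smul_def s, ← hw', pow_succ, mul_smul,
            Algebra.smul_def π, mul_comm w']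
    obtain ⟨w, -, hw⟩ := key k
    refine ⟨u * s ^ k, fun h => (hp.1.mem_or_mem h).elim hu fun h' => hs (hp.1.mem_of_pow_mem _ h'), ?_⟩
    rw [mul_smul, hw, ← mul_smul, Algebra.smul_def]
    exact Ideal.mul_mem_right _ _ (Ideal.mem_map_of_mem _ hux)
  -- the finite injection into localizations at associated primes
  haveI : Finite (associatedPrimes S M) := (associatedPrimes.finite S M).to_subtype
  haveI : Fintype (associatedPrimes S M) := Fintype.ofFinite _
  haveI : ∀ p : associatedPrimes S M, p.1.IsPrime := fun p => IsAssociatedPrime.isPrime p.2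
  let N : associatedPrimes S M → Type u := fun p => LocalizedModule p.1.primeCompl M
  let f : M →ₗ[S] ∀ p, N p := LinearMap.pi fun p => LocalizedModule.mkLinearMap p.1.primeCompl M
  have hf : Function.Injective f := by
    rw [injective_iff_map_eq_zero]
    intro m hm
    by_contra hm0
    obtain ⟨P, hP, hle⟩ := exists_le_isAssociatedPrime_of_isNoetherianRing S m hm0
    haveI := hP.1
    obtain ⟨c, hc⟩ := (IsLocalizedModule.eq_zero_iff P.primeCompl (LocalizedModule.mkLinearMap P.primeCompl M)).mp
      (congrFun hm ⟨P, hP⟩)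
    exact c.2 (hle (Submodule.mem_colon_singleton.mpr ((Submodule.mem_bot S).mpr hc)))
  have h0 : z ⊗ₜ[S] (Ideal.Quotient.mk (Ideal.span {x}) 1 : M) = 0 := by
    apply Module.Flat.lTensor_preserves_injective_linearMap (M := A) f hf
    rw [map_zero, LinearMap.lTensor_tmul]
    apply (TensorProduct.piRight S S A N).injective
    rw [map_zero, TensorProduct.piRight_apply, TensorProduct.piRightHom_tmul]
    funext p
    obtain ⟨m, hm, hmz⟩ := hmult p.1 p.2
    have h1 : (m • z) ⊗ₜ[S] (Ideal.Quotient.mk (Ideal.span {x}) 1 : M) = 0 := by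
      rw [Ideal.map_span, Set.image_singleton, Ideal.mem_span_singleton'] at hmz
      obtain ⟨c, hc⟩ := hmz
      have hxM : x • (Ideal.Quotient.mk (Ideal.span {x}) 1 : M) = 0 := by
        rw [Algebra.smul_def, Ideal.Quotient.algebraMap_eq, ← map_mul, mul_one, Ideal.Quotient.eq_zero_iff_mem]
        exact Ideal.mem_span_singleton_self x
      rw [← hc, mul_comm, ← Algebra.smul_def, TensorProduct.smul_tmul, hxM, TensorProduct.tmul_zero]
    obtain ⟨v, hv⟩ := IsLocalizedModule.map_units (LocalizedModule.mkLinearMap p.1.primeCompl M) (⟨m, hm⟩ : p.1.primeCompl)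
    have h2 : v.1 (f (Ideal.Quotient.mk (Ideal.span {x}) 1) p) = m • f (Ideal.Quotient.mk (Ideal.span {x}) 1) p := by
      rw [hv]; rfl
    have h3 : z ⊗ₜ[S] v.1 (f (Ideal.Quotient.mk (Ideal.span {x}) 1) p) = 0 := by
      have := congrArg (LinearMap.lTensor A ((LinearMap.proj p).comp f)) h1
      rw [map_zero, LinearMap.lTensor_tmul, TensorProduct.smul_tmul] at this
      rw [h2]; exact this
    have := congrArg (LinearMap.lTensor A (v⁻¹ : (Module.End S (N p))ˣ).1) h3
    rw [map_zero, LinearMap.lTensor_tmul, ← Module.End.mul_apply, Units.inv_mul] at this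
    exact this
  have h1 := congrArg (TensorProduct.tensorQuotEquivQuotSMul A (Ideal.span {x})) h0
  rw [map_zero, TensorProduct.tensorQuotEquivQuotSMul_tmul_mk, one_smul, Submodule.Quotient.mk_eq_zero,
    Ideal.smul_top_eq_map] at h1
  exact h1

/-- If a flat algebra over a normal domain is `x`-adically separated and reduced along `x`, it is reduced. -/
theorem isReduced_of_reduced_quotients {S : Type u} [CommRing S] [IsDomain S] [IsNoetherianRing S]
    (A : Type u) [CommRing A] [Algebra S A] [Module.Flat S A] {x : S} (hx : x ≠ 0)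
    (hloc : ∀ p : Ideal S, IsAssociatedPrime p (S ⧸ Ideal.span {x}) → ∃ (π : S) (s : S), π ≠ 0 ∧ s ∉ p ∧
      (∀ a ∈ p, s * a ∈ Ideal.span {π}) ∧ ∃ (k : ℕ) (u : S), u ∉ p ∧ u * π ^ k ∈ Ideal.span {x})
    (hred : ∀ p : Ideal S, IsAssociatedPrime p (S ⧸ Ideal.span {x}) → IsReduced (A ⧸ p.map (algebraMap S A)))
    (hsep : ∀ z : A, (∀ n : ℕ, ∃ w : A, z = x ^ n • w) → z = 0) : IsReduced A := by
  refine ⟨fun z hz => hsep z fun n => ?_⟩
  suffices h : ∃ w : A, IsNilpotent w ∧ z = x ^ n • w from ⟨h.choose, h.choose_spec.2⟩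
  induction n with
  | zero => exact ⟨z, hz, by simp⟩
  | succ n ih =>
    obtain ⟨w, hw, hzw⟩ := ih
    have h := nilpotent_mem_span A hx hloc hred hw
    rw [Ideal.map_span, Set.image_singleton, Ideal.mem_span_singleton'] at h
    obtain ⟨w', hw'⟩ := h
    refine ⟨w', ?_, ?_⟩
    · obtain ⟨m, hm⟩ := hw
      refine ⟨m, (IsSMulRegular.of_flat (S := A) ((IsRegular.of_ne_zero hx).left.isSMulRegular.pow m)) ?_⟩
      show algebraMap S A (x ^ m) • w' ^ m = algebraMap S A (x ^ m) • (0 : A)
      rw [smul_zero, smul_eq_mul, map_pow, ← mul_pow, mul_comm, hw', hm]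
    · rw [hzw, pow_succ, mul_smul, ← hw', Algebra.smul_def x, mul_comm]

/-- The inductive step on a normal finite domain. -/
theorem isReduced_tensor_step {R : Type u} [CommRing R] [IsLocalRing R] [IsNoetherianRing R]
    (B : Type u) [CommRing B] [IsLocalRing B] [IsNoetherianRing B] [Algebra R B] [Module.FaithfullyFlat R B]
    (hmax : maximalIdeal B = (maximalIdeal R).map (algebraMap R B))
    (hres : Function.Surjective ((residue B).comp (algebraMap R B)))
    (S : Type u) [CommRing S] [IsDomain S] [IsNoetherianRing S] [IsIntegrallyClosed S] [Algebra R S]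
    [Module.Finite R S] (q : Ideal R) [hq : q.IsPrime] (hker : RingHom.ker (algebraMap R S) = q)
    (ih : ∀ y : Ideal R, q < y → ∀ (S' : Type u) [CommRing S'] [IsDomain S'] [Algebra R S'],
      Module.Finite R S' → RingHom.ker (algebraMap R S') = y → IsReduced (S' ⊗[R] B)) :
    IsReduced (S ⊗[R] B) := by
  rcases eq_or_ne q (maximalIdeal R) with hqm | hqm
  · have hsurj : Function.Surjective (fun s : S => s ⊗ₜ[R] (1 : B)) := by
      intro w
      induction w using TensorProduct.induction_on with
      | zero => exact ⟨0, TensorProduct.zero_tmul _ _⟩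
      | add a b ha hb =>
        obtain ⟨s, rfl⟩ := ha; obtain ⟨t, rfl⟩ := hb
        exact ⟨s + t, TensorProduct.add_tmul _ _ _⟩
      | tmul s b =>
        obtain ⟨r, hr⟩ := hres (residue B b)
        have hmem : b - algebraMap R B r ∈ (maximalIdeal R • ⊤ : Submodule R B) := by
          rw [Ideal.smul_top_eq_map, Submodule.restrictScalars_mem, ← hmax, ← residue_eq_zero_iff, map_sub, ← hr]
          exact sub_self _
        refine ⟨r • s, ?_⟩
        have h0 : s ⊗ₜ[R] (b - algebraMap R B r) = 0 := by
          refine Submodule.smul_induction_on hmem (fun a ha c _ => ?_) fun a c ha hc => by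
            rw [TensorProduct.tmul_add, ha, hc, add_zero]
          rw [← TensorProduct.smul_tmul]
          rw [← hqm, ← hker, RingHom.mem_ker] at ha
          rw [Algebra.smul_def a s, ha, zero_mul, TensorProduct.zero_tmul]
        rw [TensorProduct.tmul_sub, sub_eq_zero] at h0
        show (r • s) ⊗ₜ[R] (1 : B) = s ⊗ₜ[R] b
        rw [TensorProduct.smul_tmul, h0, Algebra.algebraMap_eq_smul_one]
    have hinj : Function.Injective (Algebra.TensorProduct.includeLeft : S →ₐ[R] S ⊗[R] B) := fun a b h =>
      Module.FaithfullyFlat.tensorProduct_mk_injective (A := R) (B := B) S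
        (by simpa using congrArg (TensorProduct.comm R S B) h)
    have hbij : Function.Bijective (Algebra.TensorProduct.includeLeft : S →ₐ[R] S ⊗[R] B) :=
      ⟨hinj, fun w => hsurj w⟩
    exact isReduced_of_injective (AlgEquiv.ofBijective _ hbij).symm (AlgEquiv.injective _)
  · obtain ⟨r, hrm, hrq⟩ := SetLike.exists_of_lt (lt_of_le_of_ne (le_maximalIdeal hq.ne_top) hqm)
    have hx : algebraMap R S r ≠ 0 := fun h => hrq (hker ▸ RingHom.mem_ker.mpr h)
    refine isReduced_of_reduced_quotients (S ⊗[R] B) hx (fun p hp => (exists_local_generator hx p hp).2) (fun p hp => ?_) fun z hz => ?_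
    · haveI := hp.isPrime
      have hxp := (exists_local_generator hx p hp).1
      have hker' : RingHom.ker (algebraMap R (S ⧸ p)) = p.comap (algebraMap R S) := by
        rw [IsScalarTower.algebraMap_eq R S (S ⧸ p), ← RingHom.comap_ker]
        rw [Ideal.Quotient.algebraMap_eq, Ideal.mk_ker]
      have hlt : q < p.comap (algebraMap R S) := by
        refine lt_of_le_of_ne (fun a ha => by rw [← hker, RingHom.mem_ker] at ha; rw [Ideal.mem_comap, ha]; exact zero_mem _) fun h => hrq ?_
        rw [h]; exact hxp
      haveI := ih _ hlt (S ⧸ p) inferInstance hker'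
      let φ : S ⊗[R] B →ₐ[R] (S ⧸ p) ⊗[R] B :=
        Algebra.TensorProduct.map (Ideal.Quotient.mkₐ R p) (AlgHom.id R B)
      have hφ : RingHom.ker φ.toRingHom = p.map (algebraMap S (S ⊗[R] B)) := by
        refine (Algebra.TensorProduct.rTensor_ker (Ideal.Quotient.mkₐ R p)
          (Ideal.Quotient.mkₐ_surjective R p)).trans ?_
        show Ideal.map _ (RingHom.ker (Ideal.Quotient.mk p)) = _
        rw [Ideal.mk_ker]
        rfl
      rw [← hφ]
      exact isReduced_quotient_ker φ.toRingHom
    · have hmem : ∀ n : ℕ, TensorProduct.comm R S B z ∈ maximalIdeal B ^ n • (⊤ : Submodule B (B ⊗[R] S)) := by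
        intro n
        obtain ⟨w, rfl⟩ := hz n
        rw [← map_pow, IsScalarTower.algebraMap_smul, map_smul, ← IsScalarTower.algebraMap_smul B (r ^ n)]
        refine Submodule.smul_mem_smul ?_ trivial
        rw [map_pow, hmax]
        exact Ideal.pow_mem_pow (Ideal.mem_map_of_mem _ hrm) n
      have hbot : (⨅ n : ℕ, maximalIdeal B ^ n • (⊤ : Submodule B (B ⊗[R] S))) = ⊥ :=
        Ideal.iInf_pow_smul_eq_bot_of_isLocalRing _ (IsLocalRing.maximalIdeal.isMaximal B).ne_top
      have : TensorProduct.comm R S B z = 0 :=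
        (Submodule.mem_bot B).mp (hbot ▸ Submodule.mem_iInf _ |>.mpr hmem)
      exact (LinearEquiv.map_eq_zero_iff _).mp this

/-- Finite domains over a local ring with Japanese residue domains have reduced base change to a completion. -/
theorem isReduced_tensor_of_forall_isN2_above {R : Type u} [CommRing R] [IsLocalRing R] [IsNoetherianRing R]
    (q₀ : Ideal R) (hN : ∀ (q : Ideal R) [q.IsPrime], q₀ ≤ q → CAlg.IsN2 (R ⧸ q))
    (B : Type u) [CommRing B] [IsLocalRing B] [IsNoetherianRing B] [Algebra R B] [Module.FaithfullyFlat R B]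
    (hmax : maximalIdeal B = (maximalIdeal R).map (algebraMap R B))
    (hres : Function.Surjective ((residue B).comp (algebraMap R B)))
    (q : Ideal R) : q₀ ≤ q → ∀ (S : Type u) [CommRing S] [IsDomain S] [Algebra R S], Module.Finite R S →
      RingHom.ker (algebraMap R S) = q → IsReduced (S ⊗[R] B) := by
  induction q using WellFoundedGT.induction with
  | ind q ih =>
  intro hle S₀ _ _ _ hfin₀ hker₀
  haveI := hfin₀
  haveI hq : q.IsPrime := hker₀ ▸ RingHom.ker_isPrime _
  -- pass to the normalisation
  letI : Algebra (R ⧸ q) S₀ := (Ideal.Quotient.lift q (algebraMap R S₀) fun a ha => by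
    rw [← RingHom.mem_ker, hker₀]; exact ha).toAlgebra
  haveI : IsScalarTower R (R ⧸ q) S₀ := .of_algebraMap_eq fun _ => rfl
  haveI : Module.Finite (R ⧸ q) S₀ := Module.Finite.of_restrictScalars_finite R _ _
  haveI : FaithfulSMul (R ⧸ q) S₀ := (faithfulSMul_iff_algebraMap_injective _ _).mpr
    (RingHom.lift_injective_of_ker_le_ideal _ _ hker₀.le)
  let L := FractionRing S₀
  letI : Algebra (FractionRing (R ⧸ q)) L := FractionRing.liftAlgebra (R ⧸ q) L
  haveI : FiniteDimensional (FractionRing (R ⧸ q)) L := Module.Finite.of_isLocalization (R ⧸ q) S₀ (nonZeroDivisors (R ⧸ q))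
  haveI : Module.Finite (R ⧸ q) (integralClosure (R ⧸ q) L) := hN q hle L inferInstance
  haveI : IsIntegrallyClosed (integralClosure (R ⧸ q) L) :=
    integralClosure.isIntegrallyClosedOfFiniteExtension (FractionRing (R ⧸ q))
  let S := integralClosure (R ⧸ q) L
  haveI : IsNoetherianRing S := IsNoetherianRing.of_finite (R ⧸ q) S
  haveI : Module.Finite R S := Module.Finite.trans (R ⧸ q) S
  haveI : Algebra.IsIntegral (R ⧸ q) S₀ := Algebra.IsIntegral.of_finite _ _
  let ι : S₀ →ₐ[R] S :=
    ((IsScalarTower.toAlgHom (R ⧸ q) S₀ L).codRestrict S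
      fun a => (Algebra.IsIntegral.isIntegral a).map (IsScalarTower.toAlgHom (R ⧸ q) S₀ L)).restrictScalars R
  have hι : Function.Injective ι := fun a b h => IsFractionRing.injective S₀ L (congrArg Subtype.val h :)
  haveI : Module.Flat R B := inferInstance
  suffices IsReduced (S ⊗[R] B) from
    isReduced_of_injective (Algebra.TensorProduct.map ι (AlgHom.id R B))
      (Module.Flat.rTensor_preserves_injective_linearMap (M := B) ι.toLinearMap hι)
  have hker : RingHom.ker (algebraMap R S) = q := by
    refine Eq.trans ?_ hker₀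
    rw [← ι.comp_algebraMap, RingHom.ker_comp_of_injective]
    exact hι
  exact isReduced_tensor_step B hmax hres S q hker fun y hy => ih y hy (hle.trans hy.le)

/-- Finite domains over a Nagata local ring have reduced base change to a completion. -/
theorem isReduced_tensor_of_forall_isN2 {R : Type u} [CommRing R] [IsLocalRing R] [IsNoetherianRing R]
    (hN : ∀ (q : Ideal R) [q.IsPrime], CAlg.IsN2 (R ⧸ q))
    (B : Type u) [CommRing B] [IsLocalRing B] [IsNoetherianRing B] [Algebra R B] [Module.FaithfullyFlat R B]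
    (hmax : maximalIdeal B = (maximalIdeal R).map (algebraMap R B))
    (hres : Function.Surjective ((residue B).comp (algebraMap R B)))
    (q : Ideal R) : ∀ (S : Type u) [CommRing S] [IsDomain S] [Algebra R S], Module.Finite R S →
      RingHom.ker (algebraMap R S) = q → IsReduced (S ⊗[R] B) :=
  isReduced_tensor_of_forall_isN2_above ⊥ (fun q _ _ => hN q) B hmax hres q bot_le

end Groth.Agent.AnUnram
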