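import Mathlib.RingTheory.Bezout
import Mathlib.LinearAlgebra.FreeModule.Basic
import Mathlib.LinearAlgebra.Basis.Prod
import Mathlib.RingTheory.Finiteness.Basic
import Mathlib.Algebra.Module.Projective
import Mathlib.LinearAlgebra.Finsupp.LinearCombination
import Mathlib.LinearAlgebra.FreeModule.Finite.Basic

/-!
# Finite submodules of free modules over a Bézout domain
-/

set_option autoImplicit false

universe u v

namespace Groth.Agent.CAlgLow

variable {R : Type u} [CommRing R] [IsDomain R] [IsBezout R]

theorem free_of_injective_pi : ∀ (n : ℕ) (M : Type v) [AddCommGroup M] [Module R M] [Module.Finite R M]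
    (ι : M →ₗ[R] Fin n → R), Function.Injective ι → Module.Free R M := by
  intro n
  induction n with
  | zero =>
    intro M _ _ _ ι hι
    have : Subsingleton M := hι.subsingleton
    exact Module.Free.of_subsingleton R M
  | succ n ih =>
    intro M _ _ _ ι hι
    let φ : M →ₗ[R] R := (LinearMap.proj 0).comp ι
    let τ : M →ₗ[R] Fin n → R := (LinearMap.funLeft R R Fin.succ).comp ι
    have hinj : ∀ x, φ x = 0 → τ x = 0 → x = 0 := fun x h0 h1 => hι ((funext fun j => by
      rw [Pi.zero_apply]
      exact Fin.cases h0 (fun j => congrFun h1 j) j).trans (map_zero ι).symm)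
    by_cases hφ : φ = 0
    · exact ih M τ ((injective_iff_map_eq_zero τ).2 fun x hx => hinj x (by rw [hφ]; rfl) hx)
    obtain ⟨a, ha⟩ := (IsBezout.isPrincipal_of_FG (LinearMap.range φ) (Submodule.fg_range φ)).principal
    have ha0 : a ≠ 0 := fun h => hφ (LinearMap.range_eq_bot.1 (by rw [ha, h, Submodule.span_zero_singleton]))
    obtain ⟨m, hm⟩ : a ∈ LinearMap.range φ := ha.ge (Submodule.mem_span_singleton_self a)
    have hc : ∀ x, ∃ c, φ x = c * a := fun x => by
      obtain ⟨c, hc⟩ := Submodule.mem_span_singleton.1 (ha.le ⟨x, rfl⟩)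
      exact ⟨c, hc.symm⟩
    choose c hc using hc
    let c' : M →ₗ[R] R :=
      { toFun := c
        map_add' := fun x y => mul_right_cancel₀ ha0 (by rw [← hc, map_add, hc, hc, add_mul])
        map_smul' := fun r x => mul_right_cancel₀ ha0 (by
          rw [← hc, map_smul, hc, RingHom.id_apply, smul_eq_mul, smul_eq_mul, mul_assoc]) }
    let π : M →ₗ[R] M := LinearMap.id - (LinearMap.toSpanSingleton R M m).comp c'
    have hπφ : ∀ x, φ (π x) = 0 := fun x => by
      change φ (x - c x • m) = 0
      rw [map_sub, map_smul, hm, hc, smul_eq_mul, sub_self]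
    have : Module.Finite R (LinearMap.range π) := Module.Finite.range π
    have hfree : Module.Free R (LinearMap.range π) :=
      ih _ (τ.comp (LinearMap.range π).subtype) ((injective_iff_map_eq_zero _).2 fun x hx => by
        obtain ⟨_, y, rfl⟩ := x
        exact Subtype.ext (hinj _ (hπφ y) hx))
    have hcm : c m = 1 := mul_right_cancel₀ ha0 (by rw [← hc, hm, one_mul])
    let e : M ≃ₗ[R] LinearMap.range π × R :=
      LinearEquiv.ofLinearMap (π.rangeRestrict.prod c')
        ((LinearMap.range π).subtype.coprod (LinearMap.toSpanSingleton R M m))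
        (LinearMap.ext fun ⟨⟨_, y, rfl⟩, r⟩ => by
          have h0 : c (π y) = 0 := mul_right_cancel₀ ha0 (by rw [← hc, hπφ, zero_mul])
          have h1 : c (π y + r • m) = r := by
            rw [show c (π y + r • m) = c' (π y + r • m) from rfl, map_add, map_smul]
            change c (π y) + r • c m = r
            rw [h0, hcm, zero_add, smul_eq_mul, mul_one]
          refine Prod.ext (Subtype.ext ?_) h1
          change (π y + r • m) - c (π y + r • m) • m = π y
          rw [h1, add_sub_cancel_right])
        (LinearMap.ext fun x => sub_add_cancel x (c x • m))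
    exact Module.Free.of_equiv e.symm

theorem free_of_fg_submodule (F : Type v) [AddCommGroup F] [Module R F] [Module.Free R F] (N : Submodule R F)
    (hN : N.FG) : Module.Free R N := by
  classical
  have : Module.Finite R N := Module.Finite.iff_fg.2 hN
  let b := Module.Free.chooseBasis R F
  obtain ⟨s, hs⟩ := hN
  let t : Finset (Module.Free.ChooseBasisIndex R F) := s.biUnion fun x => (b.repr x).support
  let e : Fin t.card ≃ t := t.equivFin.symm
  let ι : N →ₗ[R] Fin t.card → R := LinearMap.pi fun j => (b.coord (e j).1).comp N.subtype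
  refine free_of_injective_pi t.card N ι ((injective_iff_map_eq_zero ι).2 fun x hx => ?_)
  have hsupp : ∀ y ∈ Submodule.span R (s : Set F), ∀ i ∉ t, b.repr y i = 0 := by
    intro y hy i hi
    induction hy using Submodule.span_induction with
    | mem z hz => exact Finsupp.notMem_support_iff.1 fun h => hi (Finset.mem_biUnion.2 ⟨z, hz, h⟩)
    | zero => simp
    | add _ _ _ _ h1 h2 => simp [h1, h2]
    | smul _ _ _ h => simp [h]
  refine Subtype.ext (b.repr.map_eq_zero_iff.1 (Finsupp.ext fun i => ?_))
  by_cases hi : i ∈ t
  · have := congrFun hx (e.symm ⟨i, hi⟩)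
    simpa [ι] using this
  · exact hsupp x (hs.ge x.2) i hi

end Groth.Agent.CAlgLow
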