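import Mathlib.Algebra.Module.FinitePresentation
import Mathlib.LinearAlgebra.Quotient.Basic
import Mathlib.RingTheory.Finiteness.Ideal

/-!
# Coherent modules
-/

set_option autoImplicit false

universe u v

namespace Groth.Agent.CAlgLow

variable {R : Type u} [CommRing R]

theorem coherent_extension {M₁ M₂ M₃ : Type v} [AddCommGroup M₁] [Module R M₁] [AddCommGroup M₂] [Module R M₂]
    [AddCommGroup M₃] [Module R M₃] (f : M₁ →ₗ[R] M₂) (g : M₂ →ₗ[R] M₃) (hf : Function.Injective f)
    (hfg : LinearMap.range f = LinearMap.ker g)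
    (h₁ : ∀ N : Submodule R M₁, N.FG → Module.FinitePresentation R N)
    (h₃ : ∀ N : Submodule R M₃, N.FG → Module.FinitePresentation R N)
    (N : Submodule R M₂) (hN : N.FG) : Module.FinitePresentation R N := by
  have : Module.Finite R N := Module.Finite.iff_fg.2 hN
  let gN : N →ₗ[R] M₃ := g.comp N.subtype
  have : Module.FinitePresentation R (LinearMap.range gN) := h₃ _ (Submodule.fg_range gN)
  have hK : (LinearMap.ker gN.rangeRestrict).FG := Module.FinitePresentation.fg_ker _ gN.surjective_rangeRestrict
  let P : Submodule R M₁ := Submodule.comap f N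
  have hmap : Submodule.map f P = Submodule.map N.subtype (LinearMap.ker gN.rangeRestrict) := by
    ext y
    constructor
    · rintro ⟨x, hx, rfl⟩
      exact ⟨⟨f x, hx⟩, Subtype.ext (hfg.le ⟨x, rfl⟩), rfl⟩
    · rintro ⟨⟨z, hz⟩, hz0, rfl⟩
      obtain ⟨x, rfl⟩ := hfg.ge (show z ∈ LinearMap.ker g from congrArg Subtype.val hz0)
      exact ⟨x, hz, rfl⟩
  have hP : P.FG := Submodule.fg_of_fg_map_injective f hf (hmap ▸ hK.map _)
  let j : P →ₗ[R] LinearMap.ker gN.rangeRestrict :=
    LinearMap.codRestrict _ (LinearMap.codRestrict N (f.comp P.subtype) fun x => x.2)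
      fun x => Subtype.ext (hfg.le ⟨x.1, rfl⟩)
  have hj : Function.Bijective j := by
    refine ⟨fun a b hab => Subtype.ext (hf (congrArg (fun t : LinearMap.ker gN.rangeRestrict => ((t : N) : M₂)) hab :)), fun ⟨⟨z, hz⟩, hz0⟩ => ?_⟩
    obtain ⟨x, rfl⟩ := hfg.ge (show z ∈ LinearMap.ker g from congrArg Subtype.val hz0)
    exact ⟨⟨x, hz⟩, rfl⟩
  have := h₁ P hP
  have : Module.FinitePresentation R (LinearMap.ker gN.rangeRestrict) :=
    Module.finitePresentation_of_surjective j hj.2 (by
      rw [LinearMap.ker_eq_bot.2 hj.1]; exact Submodule.fg_bot)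
  exact Module.finitePresentation_of_ker gN.rangeRestrict gN.surjective_rangeRestrict

theorem coherent_pi (hR : ∀ I : Ideal R, I.FG → Module.FinitePresentation R I) :
    ∀ (n : ℕ) (N : Submodule R (Fin n → R)), N.FG → Module.FinitePresentation R N := by
  intro n
  induction n with
  | zero =>
    intro N _
    have : Subsingleton N := inferInstance
    exact Module.finitePresentation_of_surjective (0 : (Fin 0 → R) →ₗ[R] N)
      (fun x => ⟨0, Subsingleton.elim _ _⟩)
      (by rw [LinearMap.ker_zero]; exact Module.Finite.fg_top)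
  | succ n ih =>
    refine coherent_extension
      (LinearMap.pi fun j : Fin (n + 1) => Fin.cases (motive := fun _ => (Fin n → R) →ₗ[R] R) 0 (fun j => LinearMap.proj j) j)
      (LinearMap.proj 0) (fun a b hab => funext fun j => (congrFun hab (Fin.succ j) :)) ?_ ih hR
    refine le_antisymm ?_ fun v hv => ⟨fun j => v j.succ, funext fun j => ?_⟩
    · rintro _ ⟨x, rfl⟩; rfl
    · refine Fin.cases ?_ (fun j => rfl) j
      exact (LinearMap.mem_ker.1 hv).symm

theorem coherent_of_finitePresentation (hR : ∀ I : Ideal R, I.FG → Module.FinitePresentation R I)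
    {M : Type u} [AddCommGroup M] [Module R M] [Module.FinitePresentation R M] (N : Submodule R M)
    (hN : N.FG) : Module.FinitePresentation R N := by
  obtain ⟨n, K, e, hK⟩ := Module.FinitePresentation.exists_fin R M
  let q : (Fin n → R) →ₗ[R] M := e.symm.toLinearMap.comp K.mkQ
  have hq : Function.Surjective q := e.symm.surjective.comp K.mkQ_surjective
  have hker : LinearMap.ker q = K := by
    rw [LinearMap.ker_comp, LinearEquiv.ker, Submodule.comap_bot, Submodule.ker_mkQ]
  let N' := N.comap q
  have hN' : N'.FG := by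
    refine Submodule.fg_of_fg_map_of_fg_inf_ker q ?_ ?_
    · rwa [Submodule.map_comap_eq_of_surjective hq]
    · rw [hker, inf_eq_right.2 (hker ▸ LinearMap.ker_le_comap q)]
      exact hK
  have := coherent_pi hR n N' hN'
  refine Module.finitePresentation_of_surjective (q.restrict (p := N') (q := N) fun x hx => hx)
    (fun ⟨y, hy⟩ => ?_) ?_
  · obtain ⟨x, rfl⟩ := hq y
    exact ⟨⟨x, hy⟩, rfl⟩
  · refine Submodule.fg_of_fg_map_injective N'.subtype N'.injective_subtype ?_
    rw [show Submodule.map N'.subtype (LinearMap.ker (q.restrict (p := N') (q := N) fun x hx => hx)) = K from ?_]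
    · exact hK
    · ext x
      constructor
      · rintro ⟨z, hz, rfl⟩
        exact hker.le (congrArg Subtype.val hz)
      · intro hx
        have h0 : q x = 0 := hker.ge hx
        exact ⟨⟨x, show q x ∈ N by rw [h0]; exact zero_mem _⟩, Subtype.ext h0, rfl⟩

end Groth.Agent.CAlgLow
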