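import Mathlib.Algebra.Module.FinitePresentation
import Mathlib.Algebra.Category.ModuleCat.FilteredColimits
import Mathlib.CategoryTheory.Limits.Types.Filtered
import Mathlib.Algebra.Category.ModuleCat.Colimits

/-!
# Modules compact for filtered colimits
-/

set_option autoImplicit false

universe u

open CategoryTheory Limits

namespace Groth.Agent.CAlgLow

variable {R : Type u} [CommRing R] {N : Type u} [AddCommGroup N] [Module R N]

/-- Finitely generated submodules of a submodule. -/
abbrev FgSub (V : Submodule R N) : Type u := {K : Submodule R N // K.FG ∧ K ≤ V}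

instance (V : Submodule R N) : Nonempty (FgSub V) := ⟨⟨⊥, Submodule.fg_bot, bot_le⟩⟩
instance (V : Submodule R N) : IsDirected (FgSub V) (· ≤ ·) :=
  ⟨fun a b => ⟨⟨a.1 ⊔ b.1, a.2.1.sup b.2.1, sup_le a.2.2 b.2.2⟩,
    (le_sup_left : a.1 ≤ a.1 ⊔ b.1), (le_sup_right : b.1 ≤ a.1 ⊔ b.1)⟩⟩

/-- The diagram of quotients. -/
def quotDiag (V : Submodule R N) : FgSub V ⥤ ModuleCat.{u} R where
  obj K := ModuleCat.of R (N ⧸ K.1)
  map {K L} h := ModuleCat.ofHom (Submodule.factor (leOfHom h))
  map_id K := by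
    apply ModuleCat.hom_ext
    apply Submodule.linearMap_qext
    rfl
  map_comp {K L P} h h' := by
    apply ModuleCat.hom_ext
    apply Submodule.linearMap_qext
    rfl

theorem quotDiag_ι_mk (V : Submodule R N) (K : FgSub V) (x : N) (hx : x ∈ V) :
    (colimit.ι (quotDiag V) K).hom (Submodule.Quotient.mk x) = 0 := by
  let L : FgSub V := ⟨K.1 ⊔ Submodule.span R {x}, K.2.1.sup (Submodule.fg_span_singleton _),
    sup_le K.2.2 ((Submodule.span_singleton_le_iff_mem _ _).2 hx)⟩
  have h : K ≤ L := (le_sup_left : K.1 ≤ L.1)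
  have e := colimit.w (quotDiag V) (homOfLE h)
  rw [← e, ModuleCat.hom_comp, LinearMap.comp_apply]
  have : ((quotDiag V).map (homOfLE h)).hom (Submodule.Quotient.mk x) = 0 :=
    (Submodule.Quotient.mk_eq_zero _).2 (Submodule.mem_sup_right (Submodule.mem_span_singleton_self _))
  rw [this, map_zero]

theorem finite_of_injective_post
    (h : ∀ (J : Type u) [SmallCategory J] [IsFiltered J] (F : J ⥤ ModuleCat.{u} R),
      Function.Injective (colimit.post F (coyoneda.obj (Opposite.op (ModuleCat.of R N))))) : Module.Finite R N := by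
  let F := quotDiag (⊤ : Submodule R N)
  let G := coyoneda.obj (Opposite.op (ModuleCat.of R N))
  let K₀ : FgSub (⊤ : Submodule R N) := ⟨⊥, Submodule.fg_bot, bot_le⟩
  let q : ModuleCat.of R N ⟶ F.obj K₀ := ModuleCat.ofHom (Submodule.mkQ _)
  have heq : colimit.ι (F ⋙ G) K₀ q = colimit.ι (F ⋙ G) K₀ (0 : ModuleCat.of R N ⟶ F.obj K₀) := by
    apply h _ F
    rw [← types_comp_apply (colimit.ι (F ⋙ G) K₀) (colimit.post F G),
      ← types_comp_apply (colimit.ι (F ⋙ G) K₀) (colimit.post F G), colimit.ι_post]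
    change q ≫ colimit.ι F K₀ = 0 ≫ colimit.ι F K₀
    apply ModuleCat.hom_ext
    refine LinearMap.ext fun x => ?_
    simp only [zero_comp]
    exact quotDiag_ι_mk (⊤ : Submodule R N) K₀ x Submodule.mem_top
  obtain ⟨L, f, g, hfg⟩ := (Types.FilteredColimit.colimit_eq_iff (F := F ⋙ G)).1 heq
  have hL : L.1 = ⊤ := eq_top_iff.2 fun x _ => by
    have hfg' : q ≫ F.map f = (0 : ModuleCat.of R N ⟶ F.obj K₀) ≫ F.map g := hfg
    rw [zero_comp] at hfg'
    have e := LinearMap.congr_fun (congrArg ModuleCat.Hom.hom hfg') x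
    exact (Submodule.Quotient.mk_eq_zero _).1 e
  exact ⟨hL ▸ L.2.1⟩

theorem finitePresentation_of_bijective_post
    (h : ∀ (J : Type u) [SmallCategory J] [IsFiltered J] (F : J ⥤ ModuleCat.{u} R),
      Function.Bijective (colimit.post F (coyoneda.obj (Opposite.op (ModuleCat.of R N))))) :
    Module.FinitePresentation R N := by
  have : Module.Finite R N := finite_of_injective_post fun J _ _ F => (h J F).1
  obtain ⟨n, π, hπ⟩ := Module.Finite.exists_fin' R N
  let F := quotDiag (LinearMap.ker π)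
  let G := coyoneda.obj (Opposite.op (ModuleCat.of R N))
  let c : Cocone F :=
    { pt := ModuleCat.of R N
      ι :=
        { app := fun K => ModuleCat.ofHom (Submodule.liftQ _ π K.2.2)
          naturality := fun K L f => by
            apply ModuleCat.hom_ext
            apply Submodule.linearMap_qext
            rfl } }
  let d := colimit.desc F c
  let K₀ : FgSub (LinearMap.ker π) := ⟨⊥, Submodule.fg_bot, bot_le⟩
  let ψ₀ : (Fin n → R) →ₗ[R] (colimit F : ModuleCat R) := (colimit.ι F K₀).hom ∘ₗ Submodule.mkQ _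
  have hker : LinearMap.ker π ≤ LinearMap.ker ψ₀ := fun x hx => quotDiag_ι_mk _ K₀ x hx
  let e := π.quotKerEquivOfSurjective hπ
  let ψ : ModuleCat.of R N ⟶ colimit F :=
    ModuleCat.ofHom ((LinearMap.ker π).liftQ ψ₀ hker ∘ₗ e.symm.toLinearMap)
  obtain ⟨y, hy⟩ := (h _ F).2 ψ
  obtain ⟨L, l, rfl⟩ := Types.jointly_surjective' y
  rw [← types_comp_apply (colimit.ι (F ⋙ G) L) (colimit.post F G), colimit.ι_post] at hy
  let p : (Fin n → R) ⧸ L.1 →ₗ[R] N := Submodule.liftQ _ π L.2.2
  let lm : N →ₗ[R] (Fin n → R) ⧸ L.1 := (l : ModuleCat.of R N ⟶ F.obj L).hom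
  have hpl : p ∘ₗ lm = LinearMap.id := by
    refine LinearMap.ext fun x => ?_
    obtain ⟨v, rfl⟩ := hπ x
    have hy' : (l : ModuleCat.of R N ⟶ F.obj L) ≫ colimit.ι F L = ψ := hy
    have h0 : ((l : ModuleCat.of R N ⟶ F.obj L) ≫ colimit.ι F L) ≫ colimit.desc F c = ψ ≫ colimit.desc F c := by
      rw [hy']
    rw [Category.assoc, colimit.ι_desc] at h0
    refine (LinearMap.congr_fun (congrArg ModuleCat.Hom.hom h0) (π v)).trans ?_
    change (colimit.desc F c).hom ((LinearMap.ker π).liftQ ψ₀ hker (e.symm (π v))) = π v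
    rw [show e.symm (π v) = Submodule.Quotient.mk v from e.symm_apply_eq.2 rfl, Submodule.liftQ_apply]
    change (colimit.ι F K₀ ≫ colimit.desc F c).hom (Submodule.Quotient.mk v) = π v
    rw [colimit.ι_desc]
    rfl
  have : Module.FinitePresentation R ((Fin n → R) ⧸ L.1) :=
    Module.finitePresentation_of_surjective _ (Submodule.mkQ_surjective _) (by rw [Submodule.ker_mkQ]; exact L.2.1)
  have hp : Function.Surjective p := fun x => ⟨_, LinearMap.congr_fun hpl x⟩
  refine Module.finitePresentation_of_surjective p hp ?_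
  have : LinearMap.ker p = LinearMap.range (LinearMap.id - lm ∘ₗ p) := by
    refine le_antisymm ?_ ?_
    · intro x hx
      refine ⟨x, ?_⟩
      rw [LinearMap.sub_apply, LinearMap.comp_apply, LinearMap.mem_ker.1 hx, map_zero]
      exact sub_zero x
    · rintro _ ⟨x, rfl⟩
      rw [LinearMap.mem_ker, LinearMap.sub_apply, map_sub, LinearMap.comp_apply]
      exact sub_eq_zero.2 (LinearMap.congr_fun hpl (p x)).symm
  rw [this]
  exact Submodule.fg_range _

end Groth.Agent.CAlgLow
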