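import Groth.Agent.Lib.CAlgLow.Dominate
import Mathlib.RingTheory.Flat.EquationalCriterion
import Mathlib.Algebra.Category.ModuleCat.Basic

/-!
# Countably generated Mittag-Leffler modules

A countably generated Mittag-Leffler module is the union of a sequence of finitely presented modules
in which every transition map factors through the composite with the next one.  When the module is
flat the sequence can be taken free, and the module is then projective.
-/

set_option autoImplicit false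

universe u

open TensorProduct

namespace Groth.Agent.CAlgLow

variable {R : Type u} [CommRing R] {M : Type u} [AddCommGroup M] [Module R M]

/-- A sequence presenting a countably generated Mittag-Leffler module. -/
structure MLSeq (R : Type u) [CommRing R] (M : Type u) [AddCommGroup M] [Module R M] where
  /-- the finitely presented modules -/
  G : ℕ → ModuleCat.{u} R
  fp : ∀ t, Module.FinitePresentation R (G t)
  /-- the maps to `M` -/
  f : ∀ t, G t →ₗ[R] M
  /-- the transition maps -/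
  u : ∀ t, G t →ₗ[R] G (t + 1)
  comm : ∀ t, f (t + 1) ∘ₗ u t = f t
  /-- the backward maps -/
  h : ∀ t, G (t + 1 + 1) →ₗ[R] G (t + 1)
  hu : ∀ t, h t ∘ₗ (u (t + 1) ∘ₗ u t) = u t
  surj : ∀ m, ∃ t x, f t x = m
  ker : ∀ t x, f t x = 0 → u t x = 0

/-- One step of the sequence. -/
theorem exists_step (hM : CAlg.IsMittagLeffler R M) (G : ModuleCat.{u} R) [Module.FinitePresentation R G]
    (f : G →ₗ[R] M) (m : M) :
    ∃ (G' : ModuleCat.{u} R) (_ : Module.FinitePresentation R G') (f' : G' →ₗ[R] M) (v : G →ₗ[R] G'),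
      f' ∘ₗ v = f ∧ (∃ y, f' y = m) ∧ (Module.Flat R M → Module.Projective R G') ∧
      ∀ (N : Type u) [AddCommGroup N] [Module R N],
        LinearMap.ker (f.rTensor N) ≤ LinearMap.ker (v.rTensor N) := by
  classical
  obtain ⟨Q, _, _, hQ, g, hg⟩ := exists_dominate hM f
  have : Module.FinitePresentation R (Q ⧸ LinearMap.range g) :=
    Module.finitePresentation_of_surjective _ (Submodule.mkQ_surjective _)
      (by rw [Submodule.ker_mkQ, LinearMap.range_eq_map]; exact Module.Finite.fg_top.map _)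
  obtain ⟨h, hh⟩ := (dominates_iff_factors g f).1 fun N _ _ => (hg N).ge
  let h₁ : Q × R →ₗ[R] M := h.coprod (LinearMap.toSpanSingleton R M m)
  have : Module.FinitePresentation R (Q × R) := by
    haveI : Module.FinitePresentation R (LinearMap.ker (LinearMap.fst R Q R)) :=
      Module.finitePresentation_of_surjective
        ((LinearMap.inr R Q R).codRestrict (LinearMap.ker (LinearMap.fst R Q R)) fun r => rfl)
        (fun x => ⟨x.1.2, Subtype.ext (Prod.ext x.2.symm rfl)⟩)
        (by
          rw [LinearMap.ker_codRestrict, LinearMap.ker_eq_bot.2 LinearMap.inr_injective]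
          exact Submodule.fg_bot)
    exact Module.finitePresentation_of_ker (LinearMap.fst R Q R) LinearMap.fst_surjective
  have hm : h₁ (0, 1) = m := by simp [h₁]
  have hh₁ : h₁ ∘ₗ (LinearMap.inl R Q R ∘ₗ g) = f := by
    rw [← LinearMap.comp_assoc, LinearMap.coprod_inl, ← hh]
  have hk : ∀ (N : Type u) [AddCommGroup N] [Module R N],
      LinearMap.ker (f.rTensor N) ≤ LinearMap.ker ((LinearMap.inl R Q R ∘ₗ g).rTensor N) := fun N _ _ x hx => by
    rw [hg, LinearMap.mem_ker] at hx
    rw [LinearMap.mem_ker, LinearMap.rTensor_comp_apply, hx, map_zero]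
  by_cases hF : Module.Flat R M
  · obtain ⟨k, a, y, hay⟩ := Module.Flat.exists_factorization_of_finitePresentation h₁
    refine ⟨ModuleCat.of R (Fin k →₀ R), inferInstanceAs (Module.FinitePresentation R (Fin k →₀ R)), y,
      a ∘ₗ (LinearMap.inl R Q R ∘ₗ g), ?_, ⟨a (0, 1), ?_⟩, fun _ => inferInstanceAs (Module.Projective R (Fin k →₀ R)),
      fun N _ _ x hx => ?_⟩
    · rw [← LinearMap.comp_assoc, ← hay, hh₁]
    · rw [← LinearMap.comp_apply, ← hay, hm]
    · rw [LinearMap.mem_ker, LinearMap.rTensor_comp_apply, LinearMap.mem_ker.1 (hk N hx), map_zero]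
  · exact ⟨ModuleCat.of R (Q × R), inferInstanceAs (Module.FinitePresentation R (Q × R)), h₁,
      LinearMap.inl R Q R ∘ₗ g, hh₁, ⟨(0, 1), hm⟩, fun hF' => absurd hF' hF, hk⟩

/-- A stage of the construction. -/
structure MLStage (R : Type u) [CommRing R] (M : Type u) [AddCommGroup M] [Module R M] where
  /-- the module -/
  G : ModuleCat.{u} R
  fp : Module.FinitePresentation R G
  /-- the map -/
  f : G →ₗ[R] M
  proj : Module.Flat R M → Module.Projective R G

/-- A countably generated Mittag-Leffler module has a presenting sequence starting at any given map. -/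
theorem exists_seq (hM : CAlg.IsMittagLeffler R M) (hc : CAlg.IsCountablyGenerated R M) {n : ℕ}
    (f₀ : (Fin n → R) →ₗ[R] M) :
    ∃ (S : MLSeq R M), (Module.Flat R M → ∀ t, Module.Projective R (S.G t)) ∧
      ∃ e : (Fin n → R) →ₗ[R] S.G 0, S.f 0 ∘ₗ e = f₀ := by
  classical
  obtain ⟨s, hs, htop⟩ := hc
  obtain ⟨m, hm⟩ := (hs.insert (0 : M)).exists_eq_range (Set.insert_nonempty _ _)
  have hstep := fun (t : ℕ) (P : MLStage R M) => by
    haveI := P.fp
    exact exists_step hM P.G P.f (m t)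
  choose G' fp' f' v hv hm' hp' hk' using hstep
  let P : ℕ → MLStage R M := fun t => Nat.rec ⟨ModuleCat.of R (Fin n → R),
    inferInstanceAs (Module.FinitePresentation R (Fin n → R)), f₀,
    fun _ => inferInstanceAs (Module.Projective R (Fin n → R))⟩
    (fun t Q => ⟨G' t Q, fp' t Q, f' t Q, hp' t Q⟩) t
  let u : ∀ t, (P t).G →ₗ[R] (P (t + 1)).G := fun t => v t (P t)
  have hc' : ∀ t, (P (t + 1)).f ∘ₗ u t = (P t).f := fun t => hv t (P t)
  have hfac : ∀ t, ∃ h : (P (t + 1 + 1)).G →ₗ[R] (P (t + 1)).G, h ∘ₗ (u (t + 1) ∘ₗ u t) = u t := by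
    intro t
    haveI := (P t).fp
    haveI := (P (t + 1)).fp
    haveI := (P (t + 1 + 1)).fp
    haveI : Module.FinitePresentation R ((P (t + 1 + 1)).G ⧸ LinearMap.range (u (t + 1) ∘ₗ u t)) :=
      Module.finitePresentation_of_surjective _ (Submodule.mkQ_surjective _)
        (by rw [Submodule.ker_mkQ, LinearMap.range_eq_map]; exact Module.Finite.fg_top.map _)
    obtain ⟨h, hh⟩ := (dominates_iff_factors (u (t + 1) ∘ₗ u t) (u t)).1 fun N _ _ x hx => by
      refine hk' t (P t) N ?_
      rw [LinearMap.mem_ker] at hx ⊢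
      rw [← hc' t, ← hc' (t + 1), LinearMap.comp_assoc, LinearMap.rTensor_comp_apply, hx, map_zero]
    exact ⟨h, hh.symm⟩
  choose h hh using hfac
  refine ⟨⟨fun t => (P t).G, fun t => (P t).fp, fun t => (P t).f, u, hc', h, hh, ?_, fun t x hx => ?_⟩,
    fun hF t => (P t).proj hF, LinearMap.id, LinearMap.comp_id _⟩
  · have hpush : ∀ a b, a ≤ b → ∀ x, ∃ x', (P b).f x' = (P a).f x := by
      intro a b hab
      induction b, hab using Nat.le_induction with
      | base => exact fun x => ⟨x, rfl⟩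
      | succ b hab ih =>
        intro x
        obtain ⟨x', hx'⟩ := ih x
        exact ⟨u b x', by rw [← LinearMap.comp_apply, hc', hx']⟩
    intro y
    refine Submodule.span_induction ?_ ⟨0, 0, map_zero _⟩ ?_ ?_ (htop ▸ Submodule.mem_top : y ∈ Submodule.span R s)
    · intro z hz
      obtain ⟨t, rfl⟩ : ∃ t, m t = z := by
        have : z ∈ Set.range m := hm ▸ Set.mem_insert_of_mem _ hz
        exact this
      obtain ⟨x, hx⟩ := hm' t (P t)
      exact ⟨t + 1, x, hx⟩
    · rintro a b - - ⟨t, x, rfl⟩ ⟨t', x', rfl⟩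
      obtain ⟨y₁, hy₁⟩ := hpush t (max t t') (le_max_left _ _) x
      obtain ⟨y₂, hy₂⟩ := hpush t' (max t t') (le_max_right _ _) x'
      exact ⟨max t t', y₁ + y₂, by rw [map_add, hy₁, hy₂]⟩
    · rintro c a - ⟨t, x, rfl⟩
      exact ⟨t, c • x, map_smul _ _ _⟩
  · have h1 : x ⊗ₜ[R] (1 : R) ∈ LinearMap.ker ((P t).f.rTensor R) := by
      rw [LinearMap.mem_ker, LinearMap.rTensor_tmul, hx, zero_tmul]
    have h2 := LinearMap.mem_ker.1 (hk' t (P t) R h1)
    rw [LinearMap.rTensor_tmul] at h2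
    have h3 := congrArg (TensorProduct.rid R _) h2
    rw [TensorProduct.rid_tmul, one_smul, map_zero] at h3
    exact h3

namespace MLSeq

variable (S : MLSeq R M)

/-- A compatible family of maps out of the sequence descends to `M`. -/
theorem exists_desc {N : Type u} [AddCommGroup N] [Module R N] (ψ : ∀ t, S.G t →ₗ[R] N)
    (hψ : ∀ t, ψ (t + 1) ∘ₗ S.u t = ψ t) : ∃ b : M →ₗ[R] N, ∀ t x, b (S.f t x) = ψ t x := by
  have hpush : ∀ a c, a ≤ c → ∀ x, ∃ x', S.f c x' = S.f a x ∧ ψ c x' = ψ a x := by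
    intro a c hac
    induction c, hac using Nat.le_induction with
    | base => exact fun x => ⟨x, rfl, rfl⟩
    | succ c hac ih =>
      intro x
      obtain ⟨x', h1, h2⟩ := ih x
      exact ⟨S.u c x', by rw [← LinearMap.comp_apply, S.comm, h1], by rw [← LinearMap.comp_apply, hψ, h2]⟩
  have hkey : ∀ t t' x x', S.f t x = S.f t' x' → ψ t x = ψ t' x' := by
    intro t t' x x' he
    obtain ⟨y, hy1, hy2⟩ := hpush t (max t t') (le_max_left _ _) x
    obtain ⟨y', hy1', hy2'⟩ := hpush t' (max t t') (le_max_right _ _) x'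
    rw [← hy2, ← hy2', ← sub_eq_zero, ← map_sub, ← hψ, LinearMap.comp_apply,
      S.ker _ (y - y') (by rw [map_sub, hy1, hy1', he, sub_self]), map_zero]
  choose T X hX using S.surj
  refine ⟨{ toFun := fun m => ψ (T m) (X m), map_add' := fun a c => ?_, map_smul' := fun r a => ?_ },
    fun t x => hkey _ _ _ _ (hX _)⟩
  · obtain ⟨y, hy1, hy2⟩ := hpush (T a) (max (T a) (T c)) (le_max_left _ _) (X a)
    obtain ⟨y', hy1', hy2'⟩ := hpush (T c) (max (T a) (T c)) (le_max_right _ _) (X c)
    rw [← hy2, ← hy2', ← map_add]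
    exact hkey _ _ _ _ (by rw [hX, map_add, hy1, hy1', hX, hX])
  · rw [RingHom.id_apply, ← map_smul]
    exact hkey _ _ _ _ (by rw [hX, map_smul, hX])

theorem exists_endo : ∃ b : M →ₗ[R] S.G 1, ∀ x, S.f 1 (b (S.f 0 x)) = S.f 0 x := by
  let χ : ∀ t, S.G (t + 1) →ₗ[R] S.G 1 := fun t => Nat.rec LinearMap.id (fun t p => p ∘ₗ S.h t) t
  obtain ⟨b, hb⟩ := S.exists_desc (fun t => χ t ∘ₗ S.u t) fun t => by
    show (χ t ∘ₗ S.h t ∘ₗ S.u (t + 1)) ∘ₗ S.u t = χ t ∘ₗ S.u t
    rw [LinearMap.comp_assoc, LinearMap.comp_assoc, S.hu]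
  refine ⟨b, fun x => ?_⟩
  rw [hb]
  show S.f 1 (S.u 0 x) = _
  rw [← LinearMap.comp_apply, S.comm]

theorem exists_section_of_projective (hS : ∀ t, Module.Projective R (S.G t)) {A : Type u} [AddCommGroup A]
    [Module R A] (p : A →ₗ[R] M) (hp : Function.Surjective p) : ∃ σ : M →ₗ[R] A, p ∘ₗ σ = LinearMap.id := by
  have hl : ∀ t, ∃ l : S.G t →ₗ[R] A, p ∘ₗ l = S.f t := fun t => by
    haveI := hS t
    exact Module.projective_lifting_property p (S.f t) hp
  choose l hl using hl
  let Lift : ℕ → Type u := fun t => {σ : S.G (t + 1) →ₗ[R] A // p ∘ₗ σ = S.f (t + 1)}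
  have hnext : ∀ t (σ : Lift t), p ∘ₗ (l (t + 1 + 1) + (σ.1 - l (t + 1 + 1) ∘ₗ S.u (t + 1)) ∘ₗ S.h t) =
      S.f (t + 1 + 1) := by
    intro t σ
    rw [LinearMap.comp_add, hl, ← LinearMap.comp_assoc, LinearMap.comp_sub, σ.2, ← LinearMap.comp_assoc, hl,
      S.comm, sub_self, LinearMap.zero_comp, add_zero]
  let σ' : ∀ t, Lift t := fun t => Nat.rec ⟨l 1, hl 1⟩ (fun t σ => ⟨_, hnext t σ⟩) t
  obtain ⟨σ, hσ⟩ := S.exists_desc (fun t => (σ' t).1 ∘ₗ S.u t) fun t => by
    show ((l (t + 1 + 1) + ((σ' t).1 - l (t + 1 + 1) ∘ₗ S.u (t + 1)) ∘ₗ S.h t) ∘ₗ S.u (t + 1)) ∘ₗ S.u t = _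
    rw [LinearMap.comp_assoc, LinearMap.add_comp, LinearMap.comp_assoc, S.hu, LinearMap.sub_comp,
      LinearMap.comp_assoc, add_sub_cancel]
  refine ⟨σ, LinearMap.ext fun m => ?_⟩
  obtain ⟨t, x, rfl⟩ := S.surj m
  rw [LinearMap.comp_apply, hσ, LinearMap.id_apply, LinearMap.comp_apply, ← LinearMap.comp_apply p, (σ' t).2,
    ← LinearMap.comp_apply, S.comm]

end MLSeq

/-- A countably generated flat Mittag-Leffler module is projective. -/
theorem projective_of_flat_mittagLeffler_countablyGenerated (hM : CAlg.IsMittagLeffler R M) [Module.Flat R M]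
    (hc : CAlg.IsCountablyGenerated R M) : Module.Projective R M := by
  obtain ⟨S, hS, -⟩ := exists_seq hM hc (0 : (Fin 0 → R) →ₗ[R] M)
  obtain ⟨σ, hσ⟩ := S.exists_section_of_projective (hS inferInstance) (Finsupp.linearCombination R (id : M → M))
    (Finsupp.linearCombination_id_surjective R M)
  exact Module.Projective.of_split σ _ hσ

end Groth.Agent.CAlgLow
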