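import Mathlib

/-!
# Descent of smoothness and étaleness to a stage of an algebraically filtered colimit

The colimit is only described elementwise: every element comes from a stage and an element that
dies in the limit dies under some map of stages over the limit.
-/

universe u

open TensorProduct Pointwise

namespace Groth.Agent.CAlgLow.Descent

variable {Q : Type u} [CommRing Q] {R : Type u} [CommRing R] [Algebra Q R] {ι : Type u}
  {G : ι → Type u} [∀ i, CommRing (G i)] [∀ i, Algebra Q (G i)]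

/-- Maps of stages over the limit. -/
def Hom (ρ : ∀ i, G i →ₐ[Q] R) (i k : ι) : Type u := {ψ : G i →ₐ[Q] G k // (ρ k).comp ψ = ρ i}

/-- An elementwise filtered colimit of algebras. -/
structure IsColim (ρ : ∀ i, G i →ₐ[Q] R) : Prop where
  nonempty : Nonempty ι
  lift : ∀ r : R, ∃ i x, ρ i x = r
  dir : ∀ i j, ∃ k, Nonempty (Hom ρ i k) ∧ Nonempty (Hom ρ j k)
  kill : ∀ i (x : G i), ρ i x = 0 → ∃ k, ∃ ψ : Hom ρ i k, ψ.1 x = 0

variable {ρ : ∀ i, G i →ₐ[Q] R}

theorem Hom.apply {i k : ι} (ψ : Hom ρ i k) (x : G i) : ρ k (ψ.1 x) = ρ i x :=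
  DFunLike.congr_fun ψ.2 x

/-- Composition of maps of stages. -/
def Hom.comp {i j k : ι} (φ : Hom ρ j k) (ψ : Hom ρ i j) : Hom ρ i k :=
  ⟨φ.1.comp ψ.1, by rw [← AlgHom.comp_assoc, φ.2, ψ.2]⟩

/-- The identity of a stage. -/
def Hom.refl (ρ : ∀ i, G i →ₐ[Q] R) (i : ι) : Hom ρ i i := ⟨AlgHom.id Q (G i), by simp⟩

theorem IsColim.kill_finset (h : IsColim ρ) {i : ι} (s : Finset (G i)) (hs : ∀ x ∈ s, ρ i x = 0) :
    ∃ k, ∃ ψ : Hom ρ i k, ∀ x ∈ s, ψ.1 x = 0 := by
  classical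
  induction s using Finset.induction_on with
  | empty => exact ⟨i, Hom.refl ρ i, fun x hx => absurd hx (Finset.notMem_empty x)⟩
  | insert a s _ ih =>
    obtain ⟨k, ψ, hψ⟩ := ih fun x hx => hs x (Finset.mem_insert_of_mem hx)
    obtain ⟨l, φ, hφ⟩ := h.kill k (ψ.1 a) (by rw [ψ.apply]; exact hs a (Finset.mem_insert_self _ _))
    refine ⟨l, φ.comp ψ, fun x hx => ?_⟩
    show φ.1 (ψ.1 x) = 0
    rcases Finset.mem_insert.1 hx with rfl | hx
    · exact hφ
    · rw [hψ x hx, map_zero]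

/-- An element of `M ⊗ G i` dying in `M ⊗ R` dies at a stage. -/
theorem IsColim.kill_tensor (h : IsColim ρ) (M : Type u) [AddCommGroup M] [Module Q M] {i : ι}
    (x : M ⊗[Q] G i) (hx : (ρ i).toLinearMap.lTensor M x = 0) :
    ∃ k, ∃ ψ : Hom ρ i k, ψ.1.toLinearMap.lTensor M x = 0 := by
  classical
  let q : (M →₀ Q) →ₗ[Q] M := Finsupp.linearCombination Q id
  have hq : Function.Surjective q := fun m => ⟨Finsupp.single m 1, by simp [q]⟩
  obtain ⟨z, rfl⟩ := LinearMap.rTensor_surjective (G i) hq x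
  have hz : q.rTensor R ((ρ i).toLinearMap.lTensor _ z) = 0 := by
    rw [← hx, ← LinearMap.comp_apply, ← LinearMap.comp_apply, LinearMap.rTensor_comp_lTensor,
      LinearMap.lTensor_comp_rTensor]
  have hex : Function.Exact (LinearMap.ker q).subtype q := LinearMap.exact_subtype_ker_map q
  have hexR := @rTensor_exact Q (LinearMap.ker q) (M →₀ Q) M _ _ _ _ _ _ _ (LinearMap.ker q).subtype q R _ _ hex hq
  obtain ⟨w, hw⟩ := (hexR _).1 hz
  have hlift : ∀ w : LinearMap.ker q ⊗[Q] R, ∃ j v, (ρ j).toLinearMap.lTensor _ v = w := by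
    intro w
    induction w using TensorProduct.induction_on with
    | zero => obtain ⟨i₀⟩ := h.nonempty; exact ⟨i₀, 0, map_zero _⟩
    | tmul a r => obtain ⟨j, y, rfl⟩ := h.lift r; exact ⟨j, a ⊗ₜ y, rfl⟩
    | add a b ha hb =>
      obtain ⟨j, v, rfl⟩ := ha
      obtain ⟨j', v', rfl⟩ := hb
      obtain ⟨l, ⟨φ⟩, ⟨φ'⟩⟩ := h.dir j j'
      refine ⟨l, φ.1.toLinearMap.lTensor _ v + φ'.1.toLinearMap.lTensor _ v', ?_⟩
      rw [map_add, ← LinearMap.lTensor_comp_apply, ← LinearMap.lTensor_comp_apply]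
      congr <;> exact LinearMap.ext (Hom.apply _)
  obtain ⟨j, v, rfl⟩ := hlift w
  obtain ⟨l, ⟨φ⟩, ⟨φ'⟩⟩ := h.dir i j
  let d : (M →₀ Q) ⊗[Q] G l := φ.1.toLinearMap.lTensor _ z -
    (LinearMap.ker q).subtype.rTensor (G l) (φ'.1.toLinearMap.lTensor _ v)
  have hd : (ρ l).toLinearMap.lTensor _ d = 0 := by
    simp only [d, map_sub]
    rw [← LinearMap.lTensor_comp_apply, ← LinearMap.comp_apply (f := (ρ l).toLinearMap.lTensor (M →₀ Q)),
      LinearMap.lTensor_comp_rTensor, ← LinearMap.rTensor_comp_lTensor, LinearMap.comp_apply,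
      ← LinearMap.lTensor_comp_apply]
    rw [show (ρ l).toLinearMap ∘ₗ φ.1.toLinearMap = (ρ i).toLinearMap from LinearMap.ext φ.apply,
      show (ρ l).toLinearMap ∘ₗ φ'.1.toLinearMap = (ρ j).toLinearMap from LinearMap.ext φ'.apply,
      hw, sub_self]
  let c := TensorProduct.finsuppScalarLeft Q (G l) M d
  have hnat : ∀ (N N' : Type u) [AddCommGroup N] [Module Q N] [AddCommGroup N'] [Module Q N']
      (f : N →ₗ[Q] N') (t : (M →₀ Q) ⊗[Q] N) (m : M),
      TensorProduct.finsuppScalarLeft Q N' M (f.lTensor _ t) m =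
        f (TensorProduct.finsuppScalarLeft Q N M t m) := by
    intro N N' _ _ _ _ f t m
    induction t using TensorProduct.induction_on with
    | zero => simp
    | tmul a b => simp [TensorProduct.finsuppScalarLeft_apply_tmul_apply]
    | add a b ha hb => simp [ha, hb]
  have hc0 : ∀ m, ρ l (c m) = 0 := fun m => by
    have := hnat _ _ (ρ l).toLinearMap d m
    rw [hd, map_zero] at this
    exact this.symm
  obtain ⟨k, χ, hχ⟩ := h.kill_finset (c.support.image c) fun y hy => by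
    obtain ⟨m, -, rfl⟩ := Finset.mem_image.1 hy
    exact hc0 m
  refine ⟨k, χ.comp φ, ?_⟩
  have hd0 : χ.1.toLinearMap.lTensor _ d = 0 := by
    refine (TensorProduct.finsuppScalarLeft Q (G k) M).injective (Finsupp.ext fun m => ?_)
    rw [hnat, map_zero, Finsupp.zero_apply]
    by_cases hm : m ∈ c.support
    · exact hχ _ (Finset.mem_image_of_mem _ hm)
    · show χ.1 (c m) = 0
      rw [Finsupp.notMem_support_iff.1 hm, map_zero]
  have hd1 := congrArg (q.rTensor (G k)) hd0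
  simp only [d, map_sub, map_zero, sub_eq_zero] at hd1
  show (χ.1.toLinearMap ∘ₗ φ.1.toLinearMap).lTensor M (q.rTensor (G i) z) = 0
  rw [← LinearMap.comp_apply, LinearMap.lTensor_comp_rTensor, ← LinearMap.rTensor_comp_lTensor,
    LinearMap.comp_apply, LinearMap.lTensor_comp_apply, hd1, ← LinearMap.comp_apply (f := χ.1.toLinearMap.lTensor _),
    LinearMap.lTensor_comp_rTensor, ← LinearMap.rTensor_comp_lTensor, LinearMap.comp_apply,
    ← LinearMap.rTensor_comp_apply, LinearMap.comp_ker_subtype, LinearMap.rTensor_zero,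
    LinearMap.zero_apply]

/-- Base change of an elementwise filtered colimit. -/
theorem IsColim.baseChange (h : IsColim ρ) (B : Type u) [CommRing B] [Algebra Q B] :
    IsColim (fun i => Algebra.TensorProduct.map (AlgHom.id B B) (ρ i)) where
  nonempty := h.nonempty
  lift z := by
    induction z using TensorProduct.induction_on with
    | zero => obtain ⟨i₀⟩ := h.nonempty; exact ⟨i₀, 0, map_zero _⟩
    | tmul b r => obtain ⟨j, y, rfl⟩ := h.lift r; exact ⟨j, b ⊗ₜ y, by simp⟩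
    | add a b ha hb =>
      obtain ⟨j, v, rfl⟩ := ha
      obtain ⟨j', v', rfl⟩ := hb
      obtain ⟨l, ⟨φ⟩, ⟨φ'⟩⟩ := h.dir j j'
      refine ⟨l, Algebra.TensorProduct.map (AlgHom.id B B) φ.1 v +
        Algebra.TensorProduct.map (AlgHom.id B B) φ'.1 v', ?_⟩
      rw [map_add, ← AlgHom.comp_apply, ← AlgHom.comp_apply, ← Algebra.TensorProduct.map_comp,
        ← Algebra.TensorProduct.map_comp, φ.2, φ'.2]
      rfl
  dir i j := by
    obtain ⟨k, ⟨φ⟩, ⟨φ'⟩⟩ := h.dir i j
    exact ⟨k, ⟨⟨Algebra.TensorProduct.map (AlgHom.id B B) φ.1, by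
        rw [← Algebra.TensorProduct.map_comp, φ.2]; rfl⟩⟩,
      ⟨⟨Algebra.TensorProduct.map (AlgHom.id B B) φ'.1, by
        rw [← Algebra.TensorProduct.map_comp, φ'.2]; rfl⟩⟩⟩
  kill i x hx := by
    obtain ⟨k, φ, hφ⟩ := h.kill_tensor B x hx
    exact ⟨k, ⟨Algebra.TensorProduct.map (AlgHom.id B B) φ.1, by
      rw [← Algebra.TensorProduct.map_comp, φ.2]; rfl⟩, hφ⟩

section Poly

variable {σ : Type*}

theorem mapAlgHom_comp' {S₁ S₂ S₃ : Type u} [CommRing S₁] [CommRing S₂] [CommRing S₃] [Algebra Q S₁]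
    [Algebra Q S₂] [Algebra Q S₃] (f : S₂ →ₐ[Q] S₃) (g : S₁ →ₐ[Q] S₂) :
    (MvPolynomial.mapAlgHom f).comp (MvPolynomial.mapAlgHom g : MvPolynomial σ S₁ →ₐ[Q] MvPolynomial σ S₂) =
      MvPolynomial.mapAlgHom (f.comp g) :=
  AlgHom.ext fun x => by
    simp only [AlgHom.comp_apply, MvPolynomial.mapAlgHom_apply, MvPolynomial.map_map]
    rfl

theorem IsColim.lift_poly (h : IsColim ρ) {κ : Type*} (s : Finset κ) (f : κ → MvPolynomial σ R) :
    ∃ i, ∃ g : κ → MvPolynomial σ (G i), ∀ a ∈ s, MvPolynomial.mapAlgHom (ρ i) (g a) = f a := by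
  classical
  have one : ∀ p : MvPolynomial σ R, ∃ i q, MvPolynomial.mapAlgHom (ρ i) q = p := by
    intro p
    induction p using MvPolynomial.induction_on' with
    | monomial d r =>
      obtain ⟨i, x, rfl⟩ := h.lift r
      exact ⟨i, MvPolynomial.monomial d x, by simp [MvPolynomial.mapAlgHom_apply, MvPolynomial.map_monomial]⟩
    | add p q hp hq =>
      obtain ⟨i, a, rfl⟩ := hp
      obtain ⟨j, b, rfl⟩ := hq
      obtain ⟨l, ⟨φ⟩, ⟨φ'⟩⟩ := h.dir i j
      refine ⟨l, MvPolynomial.mapAlgHom φ.1 a + MvPolynomial.mapAlgHom φ'.1 b, ?_⟩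
      rw [map_add, ← AlgHom.comp_apply, ← AlgHom.comp_apply, mapAlgHom_comp',
        mapAlgHom_comp', φ.2, φ'.2]
  induction s using Finset.induction_on with
  | empty => obtain ⟨i₀⟩ := h.nonempty; exact ⟨i₀, fun _ => 0, by simp⟩
  | insert a s ha ih =>
    obtain ⟨i, g, hg⟩ := ih
    obtain ⟨j, q, hq⟩ := one (f a)
    obtain ⟨l, ⟨φ⟩, ⟨φ'⟩⟩ := h.dir i j
    refine ⟨l, fun b => if b = a then MvPolynomial.mapAlgHom φ'.1 q else MvPolynomial.mapAlgHom φ.1 (g b),
      fun b hb => ?_⟩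
    rcases Finset.mem_insert.1 hb with rfl | hb
    · dsimp only; rw [if_pos rfl, ← AlgHom.comp_apply, mapAlgHom_comp', φ'.2, hq]
    · dsimp only; rw [if_neg (fun e => ha (by rwa [e] at hb)), ← AlgHom.comp_apply, mapAlgHom_comp',
        φ.2, hg b hb]

theorem IsColim.kill_poly (h : IsColim ρ) {κ : Type*} (s : Finset κ) {i : ι}
    (g : κ → MvPolynomial σ (G i)) (hg : ∀ a ∈ s, MvPolynomial.mapAlgHom (ρ i) (g a) = 0) :
    ∃ k, ∃ ψ : Hom ρ i k, ∀ a ∈ s, MvPolynomial.mapAlgHom ψ.1 (g a) = 0 := by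
  classical
  obtain ⟨k, ψ, hψ⟩ := h.kill_finset (s.biUnion fun a => (g a).support.image fun d => (g a).coeff d)
    fun x hx => by
      obtain ⟨a, ha, hx⟩ := Finset.mem_biUnion.1 hx
      obtain ⟨d, -, rfl⟩ := Finset.mem_image.1 hx
      have := congrArg (MvPolynomial.coeff d) (hg a ha)
      simpa [MvPolynomial.mapAlgHom_apply, MvPolynomial.coeff_map] using this
  refine ⟨k, ψ, fun a ha => MvPolynomial.ext _ _ fun d => ?_⟩
  by_cases hd : d ∈ (g a).support
  · simpa [MvPolynomial.mapAlgHom_apply, MvPolynomial.coeff_map] using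
      hψ _ (Finset.mem_biUnion.2 ⟨a, ha, Finset.mem_image_of_mem _ hd⟩)
  · simp [MvPolynomial.mapAlgHom_apply, MvPolynomial.coeff_map, MvPolynomial.notMem_support_iff.1 hd]

end Poly

section Split

variable {n m : ℕ}

/-- The relations over an algebra. -/
noncomputable def rels (S : Type u) [CommRing S] [Algebra Q S] (r : Fin m → MvPolynomial (Fin n) Q)
    (j : Fin m) : MvPolynomial (Fin n) S :=
  MvPolynomial.map (algebraMap Q S) (r j)

/-- The equations of a section of `S[X]/I² → S[X]/I`. -/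
def HasSplit (S : Type u) [CommRing S] [Algebra Q S] (r : Fin m → MvPolynomial (Fin n) Q) : Prop :=
  ∃ p : Fin n → MvPolynomial (Fin n) S,
    (∀ j, MvPolynomial.aeval p (r j) ∈ Ideal.span (Set.range (rels S r)) ^ 2) ∧
    ∀ a, p a - MvPolynomial.X a ∈ Ideal.span (Set.range (rels S r))

theorem mapAlgHom_rels {S T : Type u} [CommRing S] [CommRing T] [Algebra Q S] [Algebra Q T]
    (f : S →ₐ[Q] T) (r : Fin m → MvPolynomial (Fin n) Q) (j : Fin m) :
    MvPolynomial.mapAlgHom f (rels S r j) = rels T r j := by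
  show MvPolynomial.map f.toRingHom _ = _
  rw [rels, rels, MvPolynomial.map_map, AlgHom.toRingHom_eq_coe, f.comp_algebraMap]

theorem IsColim.hasSplit (h : IsColim ρ) (r : Fin m → MvPolynomial (Fin n) Q) (hR : HasSplit R r) :
    ∃ i, HasSplit (G i) r := by
  classical
  obtain ⟨p, hp1, hp2⟩ := hR
  have h2 : ∀ j, ∃ c : Fin m × Fin m → MvPolynomial (Fin n) R,
      ∑ kl, c kl * (rels R r kl.1 * rels R r kl.2) = MvPolynomial.aeval p (r j) := by
    intro j
    have hj := hp1 j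
    have hle : Ideal.span (Set.range (rels R r)) ^ 2 ≤
        Ideal.span (Set.range fun kl : Fin m × Fin m => rels R r kl.1 * rels R r kl.2) := by
      rw [pow_two, Ideal.span_mul_span, Ideal.span_le]
      rintro z hz
      replace hz := Set.mem_mul.1 hz
      obtain ⟨_, ⟨k, rfl⟩, _, ⟨l, rfl⟩, rfl⟩ := hz
      exact Ideal.subset_span ⟨(k, l), rfl⟩
    replace hj := hle hj
    obtain ⟨c, hc⟩ := Submodule.mem_span_range_iff_exists_fun _ |>.1 hj
    exact ⟨c, hc⟩
  have h1 : ∀ a, ∃ c : Fin m → MvPolynomial (Fin n) R,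
      ∑ k, c k * rels R r k = p a - MvPolynomial.X a := fun a => by
    obtain ⟨c, hc⟩ := Submodule.mem_span_range_iff_exists_fun _ |>.1 (hp2 a)
    exact ⟨c, hc⟩
  choose c hc using h2
  choose e he using h1
  obtain ⟨i, g, hg⟩ := h.lift_poly (Finset.univ : Finset (Fin n ⊕ (Fin m × Fin m × Fin m) ⊕ (Fin n × Fin m)))
    (Sum.elim p (Sum.elim (fun x => c x.1 (x.2.1, x.2.2)) fun x => e x.1 x.2))
  let p' : Fin n → MvPolynomial (Fin n) (G i) := fun a => g (Sum.inl a)
  let c' : Fin m → Fin m × Fin m → MvPolynomial (Fin n) (G i) := fun j kl => g (Sum.inr (Sum.inl (j, kl.1, kl.2)))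
  let e' : Fin n → Fin m → MvPolynomial (Fin n) (G i) := fun a k => g (Sum.inr (Sum.inr (a, k)))
  have hp' : ∀ a, MvPolynomial.mapAlgHom (ρ i) (p' a) = p a := fun a => hg _ (Finset.mem_univ _)
  have hc' : ∀ j kl, MvPolynomial.mapAlgHom (ρ i) (c' j kl) = c j kl := fun j kl => hg _ (Finset.mem_univ _)
  have he' : ∀ a k, MvPolynomial.mapAlgHom (ρ i) (e' a k) = e a k := fun a k => hg _ (Finset.mem_univ _)
  let d : Fin m ⊕ Fin n → MvPolynomial (Fin n) (G i) := Sum.elim
    (fun j => ∑ kl, c' j kl * (rels (G i) r kl.1 * rels (G i) r kl.2) - MvPolynomial.aeval p' (r j))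
    (fun a => ∑ k, e' a k * rels (G i) r k - (p' a - MvPolynomial.X a))
  have hd : ∀ x ∈ Finset.univ, MvPolynomial.mapAlgHom (ρ i) (d x) = 0 := by
    rintro (j | a) -
    · simp only [d, Sum.elim_inl, map_sub, map_sum, map_mul, mapAlgHom_rels, hc', sub_eq_zero, hc,
        MvPolynomial.comp_aeval_apply]
      congr 2
      exact funext fun a => (hp' a).symm
    · simp only [d, Sum.elim_inr, map_sub, map_sum, map_mul, mapAlgHom_rels, he', hp', sub_eq_zero, he]
      simp [MvPolynomial.mapAlgHom_apply]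
  obtain ⟨k, ψ, hψ⟩ := h.kill_poly Finset.univ d hd
  refine ⟨k, fun a => MvPolynomial.mapAlgHom ψ.1 (p' a), fun j => ?_, fun a => ?_⟩
  · have h0 := hψ (Sum.inl j) (Finset.mem_univ _)
    simp only [d, Sum.elim_inl, map_sub, map_sum, map_mul, mapAlgHom_rels, sub_eq_zero,
      MvPolynomial.comp_aeval_apply] at h0
    rw [← h0, pow_two]
    exact Ideal.sum_mem _ fun kl _ => Ideal.mul_mem_left _ _
      (Ideal.mul_mem_mul (Ideal.subset_span ⟨_, rfl⟩) (Ideal.subset_span ⟨_, rfl⟩))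
  · have h0 := hψ (Sum.inr a) (Finset.mem_univ _)
    simp only [d, Sum.elim_inr, map_sub, map_sum, map_mul, mapAlgHom_rels, sub_eq_zero] at h0
    have hX : MvPolynomial.mapAlgHom ψ.1 (MvPolynomial.X a : MvPolynomial (Fin n) (G i)) = MvPolynomial.X a := by
      simp [MvPolynomial.mapAlgHom_apply]
    rw [hX] at h0
    rw [← h0]
    exact Ideal.sum_mem _ fun k _ => Ideal.mul_mem_left _ _ (Ideal.subset_span ⟨_, rfl⟩)

end Split

end Groth.Agent.CAlgLow.Descent
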