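import Groth.Agent.Lib.CAlgLow.DescentSmooth
import Mathlib

/-!
# Finiteness, surjectivity and bijectivity descend to a stage
-/

set_option autoImplicit false

universe u

open scoped TensorProduct

namespace Groth.Agent.CAlgLow.Descent

attribute [local instance] Algebra.TensorProduct.rightAlgebra

variable {Q : Type u} [CommRing Q] {R : Type u} [CommRing R] [Algebra Q R] {ι : Type u}
  {G : ι → Type u} [∀ i, CommRing (G i)] [∀ i, Algebra Q (G i)] {ρ : ∀ i, G i →ₐ[Q] R}
  {C : Type u} [CommRing C] [Algebra Q C]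

/-- The base change of a map of stages. -/
noncomputable abbrev bc (C : Type u) [CommRing C] [Algebra Q C] {S T : Type u} [CommRing S] [CommRing T]
    [Algebra Q S] [Algebra Q T] (f : S →ₐ[Q] T) : S ⊗[Q] C →ₐ[Q] T ⊗[Q] C :=
  Algebra.TensorProduct.map f (AlgHom.id Q C)

theorem bc_tmul {S T : Type u} [CommRing S] [CommRing T] [Algebra Q S] [Algebra Q T] (f : S →ₐ[Q] T)
    (s : S) (c : C) : bc C f (s ⊗ₜ[Q] c) = f s ⊗ₜ[Q] c := rfl

theorem IsColim.kill_bc (h : IsColim ρ) {i : ι} (x : G i ⊗[Q] C) (hx : bc C (ρ i) x = 0) :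
    ∃ k, ∃ ψ : Hom ρ i k, bc C ψ.1 x = 0 := by
  have hnat : ∀ (S T : Type u) [CommRing S] [CommRing T] [Algebra Q S] [Algebra Q T] (f : S →ₐ[Q] T)
      (y : S ⊗[Q] C), (TensorProduct.comm Q T C) (bc C f y) =
        f.toLinearMap.lTensor C (TensorProduct.comm Q S C y) := by
    intro S T _ _ _ _ f y
    induction y using TensorProduct.induction_on with
    | zero => simp
    | tmul a b => simp [bc]
    | add a b ha hb => simp only [map_add, ha, hb]
  obtain ⟨k, ψ, hψ⟩ := h.kill_tensor C (TensorProduct.comm Q (G i) C x) (by rw [← hnat, hx, map_zero])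
  refine ⟨k, ψ, (TensorProduct.comm Q (G k) C).injective ?_⟩
  rw [hnat, hψ, map_zero]

theorem IsColim.kill_bc_finset (h : IsColim ρ) {κ : Type*} (s : Finset κ) {i : ι}
    (x : κ → G i ⊗[Q] C) (hx : ∀ a ∈ s, bc C (ρ i) (x a) = 0) :
    ∃ k, ∃ ψ : Hom ρ i k, ∀ a ∈ s, bc C ψ.1 (x a) = 0 := by
  classical
  induction s using Finset.induction_on with
  | empty => exact ⟨i, Hom.refl ρ i, by simp⟩
  | insert a s _ ih =>
    obtain ⟨k, ψ, hk⟩ := ih fun b hb => hx b (Finset.mem_insert_of_mem hb)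
    obtain ⟨l, φ, hl⟩ := h.kill_bc (bc C ψ.1 (x a)) (by
      rw [← AlgHom.comp_apply, ← Algebra.TensorProduct.map_comp, ψ.2]
      exact hx a (Finset.mem_insert_self a s))
    refine ⟨l, φ.comp ψ, fun b hb => ?_⟩
    have hcomp : bc C (φ.comp ψ).1 (x b) = bc C φ.1 (bc C ψ.1 (x b)) := by
      rw [← AlgHom.comp_apply, ← Algebra.TensorProduct.map_comp]
      rfl
    rw [hcomp]
    rcases Finset.mem_insert.1 hb with rfl | hb
    · exact hl
    · rw [hk b hb, map_zero]

theorem IsColim.lift_finset (h : IsColim ρ) {κ : Type*} (s : Finset κ) (r : κ → R) :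
    ∃ i, ∃ x : κ → G i, ∀ a ∈ s, ρ i (x a) = r a := by
  classical
  induction s using Finset.induction_on with
  | empty => obtain ⟨i⟩ := h.nonempty; exact ⟨i, fun _ => 0, by simp⟩
  | insert a s has ih =>
    obtain ⟨i, x, hx⟩ := ih
    obtain ⟨j, y, hy⟩ := h.lift (r a)
    obtain ⟨k, ⟨φ⟩, ⟨φ'⟩⟩ := h.dir i j
    refine ⟨k, fun b => if b = a then φ'.1 y else φ.1 (x b), fun b hb => ?_⟩
    rcases Finset.mem_insert.1 hb with rfl | hb
    · simp [φ'.apply, hy]
    · show ρ k (if b = a then φ'.1 y else φ.1 (x b)) = r b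
      rw [if_neg (fun e => has (e ▸ hb) : ¬ b = a), φ.apply, hx b hb]

theorem adjoin_one_tmul_eq_top (S : Type u) [CommRing S] [Algebra Q S] (s : Set C)
    (hs : Algebra.adjoin Q s = ⊤) :
    Algebra.adjoin S ((fun c => (1 : S) ⊗ₜ[Q] c) '' s) = ⊤ := by
  refine eq_top_iff.2 fun z _ => ?_
  induction z using TensorProduct.induction_on with
  | zero => exact zero_mem _
  | tmul a c =>
    have hc : c ∈ Algebra.adjoin Q s := hs ▸ trivial
    have h1 : (Algebra.TensorProduct.includeRight : C →ₐ[Q] S ⊗[Q] C) c ∈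
        (Algebra.adjoin Q s).map Algebra.TensorProduct.includeRight := ⟨c, hc, rfl⟩
    rw [AlgHom.map_adjoin] at h1
    have h2 : (1 : S) ⊗ₜ[Q] c ∈ Algebra.adjoin S ((fun c => (1 : S) ⊗ₜ[Q] c) '' s) :=
      Algebra.adjoin_le (S := (Algebra.adjoin S ((fun c => (1 : S) ⊗ₜ[Q] c) '' s)).restrictScalars Q)
        Algebra.subset_adjoin h1
    have h3 := Subalgebra.smul_mem _ h2 a
    rwa [TensorProduct.smul_tmul', smul_eq_mul, mul_one] at h3
  | add x y hx hy => exact add_mem (hx trivial) (hy trivial)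

/-- Surjectivity of a base change descends to a stage. -/
theorem IsColim.exists_surjective (h : IsColim ρ) [Algebra.FiniteType Q C]
    (hR : Function.Surjective (algebraMap R (R ⊗[Q] C))) :
    ∃ i, Function.Surjective (algebraMap (G i) (G i ⊗[Q] C)) := by
  classical
  obtain ⟨s, hs⟩ := (inferInstance : Algebra.FiniteType Q C).out
  choose r hr using fun c : C => hR (1 ⊗ₜ[Q] c)
  obtain ⟨i, x, hx⟩ := h.lift_finset s r
  obtain ⟨k, ψ, hk⟩ := h.kill_bc_finset s (fun c => x c ⊗ₜ[Q] (1 : C) - 1 ⊗ₜ[Q] c) fun c hc => by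
    rw [map_sub, bc_tmul, bc_tmul, hx c hc, map_one, sub_eq_zero]
    exact hr c
  refine ⟨k, ?_⟩
  have : Algebra.adjoin (G k) ((fun c => (1 : G k) ⊗ₜ[Q] c) '' (s : Set C)) ≤ ⊥ := by
    refine Algebra.adjoin_le ?_
    rintro _ ⟨c, hc, rfl⟩
    refine Algebra.mem_bot.2 ⟨ψ.1 (x c), ?_⟩
    have := hk c hc
    rw [map_sub, bc_tmul, bc_tmul, map_one, sub_eq_zero] at this
    exact this
  rw [adjoin_one_tmul_eq_top (G k) _ hs] at this
  intro z
  obtain ⟨w, hw⟩ := Algebra.mem_bot.1 (this (show z ∈ (⊤ : Subalgebra (G k) (G k ⊗[Q] C)) from trivial))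
  exact ⟨w, hw⟩

/-- Finiteness of a base change descends to a stage. -/
theorem IsColim.exists_finite (h : IsColim ρ) [Algebra.FiniteType Q C]
    (hR : Module.Finite R (R ⊗[Q] C)) : ∃ i, Module.Finite (G i) (G i ⊗[Q] C) := by
  classical
  obtain ⟨s, hs⟩ := (inferInstance : Algebra.FiniteType Q C).out
  choose P hPm hP0 using fun c : C => (Algebra.IsIntegral.isIntegral (R := R) (1 ⊗ₜ[Q] c : R ⊗[Q] C))
  let T : Finset (C × ℕ) := s.biUnion fun c => (Finset.range (P c).natDegree).image fun n => (c, n)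
  obtain ⟨i, x, hx⟩ := h.lift_finset T fun a => (P a.1).coeff a.2
  let E : C → G i ⊗[Q] C := fun c => (1 ⊗ₜ[Q] c) ^ (P c).natDegree +
    ∑ n ∈ Finset.range (P c).natDegree, algebraMap (G i) (G i ⊗[Q] C) (x (c, n)) * (1 ⊗ₜ[Q] c) ^ n
  obtain ⟨k, ψ, hk⟩ := h.kill_bc_finset s E fun c hc => by
    have h1 : ((P c).map (algebraMap R (R ⊗[Q] C))).eval (1 ⊗ₜ[Q] c) = 0 := by
      rw [Polynomial.eval_map]; exact hP0 c
    rw [(hPm c).as_sum, Polynomial.map_add, Polynomial.map_pow, Polynomial.map_X, Polynomial.eval_add,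
      Polynomial.eval_pow, Polynomial.eval_X, Polynomial.map_sum, Polynomial.eval_finsetSum] at h1
    simp only [E, map_add, map_pow, map_sum, map_mul]
    rw [bc_tmul, map_one]
    refine Eq.trans ?_ h1
    refine congrArg _ (Finset.sum_congr rfl fun n hn => ?_)
    rw [Polynomial.map_mul, Polynomial.map_pow, Polynomial.map_X, Polynomial.map_C, Polynomial.eval_mul,
      Polynomial.eval_C, Polynomial.eval_pow, Polynomial.eval_X]
    congr 1
    rw [Algebra.TensorProduct.algebraMap_apply, Algebra.TensorProduct.algebraMap_apply, bc_tmul]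
    rw [Algebra.algebraMap_self_apply, hx (c, n) (Finset.mem_biUnion.2 ⟨c, hc, Finset.mem_image.2 ⟨n, hn, rfl⟩⟩)]
    rfl
  refine ⟨k, ?_⟩
  have hint : Algebra.IsIntegral (G k) (G k ⊗[Q] C) := by
    refine ⟨fun z => ?_⟩
    have hle : Algebra.adjoin (G k) ((fun c => (1 : G k) ⊗ₜ[Q] c) '' (s : Set C)) ≤
        integralClosure (G k) (G k ⊗[Q] C) := by
      refine Algebra.adjoin_le ?_
      rintro _ ⟨c, hc, rfl⟩
      rcases subsingleton_or_nontrivial (G k) with hG | hG
      · exact ⟨1, Polynomial.monic_one, by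
          haveI := Module.subsingleton (G k) (G k ⊗[Q] C)
          exact Subsingleton.elim _ _⟩
      let N := (P c).natDegree
      have hdeg : (∑ n ∈ Finset.range N, Polynomial.C (ψ.1 (x (c, n))) * Polynomial.X ^ n).degree < (N : WithBot ℕ) :=
        lt_of_le_of_lt (Polynomial.degree_sum_le _ _) ((Finset.sup_lt_iff (WithBot.bot_lt_coe N)).2 fun n hn =>
          lt_of_le_of_lt (Polynomial.degree_C_mul_X_pow_le n _) (WithBot.coe_lt_coe.2 (Finset.mem_range.1 hn)))
      refine ⟨_, Polynomial.monic_X_pow_add hdeg, ?_⟩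
      refine Eq.trans ?_ (hk c hc)
      simp only [E, map_add, map_pow, map_sum, map_mul, Polynomial.eval₂_add, Polynomial.eval₂_X_pow,
        Polynomial.eval₂_finsetSum, Polynomial.eval₂_mul, Polynomial.eval₂_C]
      rw [bc_tmul, map_one]
      refine congrArg _ (Finset.sum_congr rfl fun n _ => ?_)
      rw [Algebra.TensorProduct.algebraMap_apply, Algebra.TensorProduct.algebraMap_apply, bc_tmul]
      simp
    rw [adjoin_one_tmul_eq_top (G k) _ hs] at hle
    exact hle (show z ∈ (⊤ : Subalgebra (G k) (G k ⊗[Q] C)) from trivial)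
  exact Algebra.IsIntegral.finite

/-- Bijectivity of a base change descends to a stage. -/
theorem IsColim.exists_bijective (h : IsColim ρ) [Algebra.FinitePresentation Q C]
    (hR : Function.Bijective (algebraMap R (R ⊗[Q] C))) :
    ∃ i, Function.Bijective (algebraMap (G i) (G i ⊗[Q] C)) := by
  classical
  haveI : Algebra.FiniteType Q C := inferInstance
  obtain ⟨i, hi⟩ := h.exists_surjective (C := C) hR.2
  obtain ⟨s, hs⟩ : (RingHom.ker (algebraMap (G i) (G i ⊗[Q] C))).FG :=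
    Algebra.FinitePresentation.ker_fG_of_surjective (Algebra.ofId (G i) (G i ⊗[Q] C)) hi
  obtain ⟨k, ψ, hk⟩ := h.kill_finset s fun x hxs => hR.1 (by
    rw [map_zero, Algebra.TensorProduct.algebraMap_apply, Algebra.algebraMap_self_apply]
    have hx0 : algebraMap (G i) (G i ⊗[Q] C) x = 0 :=
      RingHom.mem_ker.1 (hs ▸ Submodule.subset_span hxs)
    rw [Algebra.TensorProduct.algebraMap_apply, Algebra.algebraMap_self_apply] at hx0
    have := congrArg (bc C (ρ i)) hx0
    rwa [map_zero, bc_tmul] at this)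
  refine ⟨k, ?_, ?_⟩
  · have hker : RingHom.ker (algebraMap (G i) (G i ⊗[Q] C)) ≤ RingHom.ker ψ.1.toRingHom := by
      rw [← hs, Ideal.span_le]
      exact fun x hx => hk x hx
    let θ : G i ⊗[Q] C →+* G k := RingHom.liftOfSurjective (algebraMap (G i) (G i ⊗[Q] C)) hi ⟨ψ.1.toRingHom, hker⟩
    have hθ : ∀ a, θ (algebraMap (G i) (G i ⊗[Q] C) a) = ψ.1 a :=
      RingHom.liftOfRightInverse_comp_apply _ _ (Function.rightInverse_surjInv hi) ⟨ψ.1.toRingHom, hker⟩
    let χ : C →ₐ[Q] G k :=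
      { θ.comp (Algebra.TensorProduct.includeRight : C →ₐ[Q] G i ⊗[Q] C).toRingHom with
        commutes' := fun q => by
          show θ ((Algebra.TensorProduct.includeRight : C →ₐ[Q] G i ⊗[Q] C) (algebraMap Q C q)) = _
          rw [AlgHom.commutes, IsScalarTower.algebraMap_apply Q (G i) (G i ⊗[Q] C), hθ, AlgHom.commutes] }
    let r : G k ⊗[Q] C →ₐ[Q] G k := Algebra.TensorProduct.lift (AlgHom.id Q (G k)) χ fun _ _ => Commute.all _ _
    intro a b hab
    have := congrArg r hab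
    simpa [r, Algebra.TensorProduct.algebraMap_apply] using this
  · intro z
    induction z using TensorProduct.induction_on with
    | zero => exact ⟨0, map_zero _⟩
    | tmul a c =>
      obtain ⟨b, hb⟩ := hi (1 ⊗ₜ[Q] c)
      refine ⟨a * ψ.1 b, ?_⟩
      rw [Algebra.TensorProduct.algebraMap_apply, Algebra.algebraMap_self_apply] at hb ⊢
      have := congrArg (bc C ψ.1) hb
      rw [bc_tmul, bc_tmul, map_one] at this
      rw [show (a * ψ.1 b) ⊗ₜ[Q] (1 : C) = (a ⊗ₜ[Q] (1 : C)) * (ψ.1 b ⊗ₜ[Q] 1) by simp, this]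
      simp
    | add x y hx hy =>
      obtain ⟨p, hp⟩ := hx
      obtain ⟨q, hq⟩ := hy
      exact ⟨p + q, by rw [map_add, hp, hq]⟩

/-- Unramifiedness of a base change descends to a stage for algebras of finite type. -/
theorem IsColim.exists_unramified (h : IsColim ρ) [Algebra.FiniteType Q C]
    (hR : Algebra.Unramified R (R ⊗[Q] C)) : ∃ i, Algebra.Unramified (G i) (G i ⊗[Q] C) := by
  classical
  haveI : Subsingleton (Ω[(R ⊗[Q] C)⁄R]) := Algebra.formallyUnramified_iff R _ |>.1 hR.formallyUnramified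
  haveI : Subsingleton (R ⊗[Q] Ω[C⁄Q]) :=
    (KaehlerDifferential.tensorKaehlerEquivBase Q R C (R ⊗[Q] C)).toEquiv.subsingleton
  obtain ⟨s, hs⟩ := (inferInstance : Module.Finite C (Ω[C⁄Q])).fg_top
  obtain ⟨i₀⟩ := h.nonempty
  have hk : ∀ t : Finset (Ω[C⁄Q]), ∃ i, ∀ g ∈ t, g ⊗ₜ[Q] (1 : G i) = 0 := by
    intro t
    induction t using Finset.induction_on with
    | empty => exact ⟨i₀, fun g hg => absurd hg (Finset.notMem_empty g)⟩
    | insert a t _ ih =>
      obtain ⟨i, hi⟩ := ih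
      obtain ⟨k, ψ, hψ⟩ := h.kill_tensor (Ω[C⁄Q]) (a ⊗ₜ[Q] (1 : G i))
        ((TensorProduct.comm Q (Ω[C⁄Q]) R).injective (Subsingleton.elim _ _))
      refine ⟨k, fun g hg => ?_⟩
      rcases Finset.mem_insert.1 hg with rfl | hg
      · simpa using hψ
      · simpa using congrArg (ψ.1.toLinearMap.lTensor (Ω[C⁄Q])) (hi g hg)
  obtain ⟨i, hi⟩ := hk s
  haveI : Subsingleton (G i ⊗[Q] Ω[C⁄Q]) := subsingleton_tensor_of_span (C := C) (s : Set (Ω[C⁄Q])) hs hi
  exact ⟨i, ⟨(Algebra.formallyUnramified_iff (G i) _).2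
    (KaehlerDifferential.tensorKaehlerEquivBase Q (G i) C (G i ⊗[Q] C)).toEquiv.symm.subsingleton, inferInstance⟩⟩

/-- An elementwise filtered colimit from a directed system. -/
theorem IsColim.of_system [Preorder ι] [IsDirected ι (· ≤ ·)] [Nonempty ι]
    (f : ∀ i j, i ≤ j → (G i →ₐ[Q] G j)) (hg : ∀ i j (h : i ≤ j), (ρ j).comp (f i j h) = ρ i)
    (hsurj : ∀ a : R, ∃ i, ∃ x : G i, ρ i x = a)
    (hker : ∀ i (x : G i), ρ i x = 0 → ∃ j, ∃ h : i ≤ j, f i j h x = 0) : IsColim ρ where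
  nonempty := inferInstance
  lift := hsurj
  dir i j := by
    obtain ⟨k, hik, hjk⟩ := exists_ge_ge i j
    exact ⟨k, ⟨⟨f i k hik, hg i k hik⟩⟩, ⟨⟨f j k hjk, hg j k hjk⟩⟩⟩
  kill i x hx := by
    obtain ⟨j, hij, h0⟩ := hker i x hx
    exact ⟨j, ⟨f i j hij, hg i j hij⟩, h0⟩

end Groth.Agent.CAlgLow.Descent
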