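import Groth.Agent.Lib.CAlgLow.Descent

/-!
# Smoothness and étaleness descend to a stage
-/

universe u

open TensorProduct

namespace Groth.Agent.CAlgLow.Descent

variable {Q : Type u} [CommRing Q] {R : Type u} [CommRing R] [Algebra Q R] {ι : Type u}
  {G : ι → Type u} [∀ i, CommRing (G i)] [∀ i, Algebra Q (G i)] {ρ : ∀ i, G i →ₐ[Q] R}
  {C : Type u} [CommRing C] [Algebra Q C] {n m : ℕ}

theorem HasSplit.map {S T : Type u} [CommRing S] [CommRing T] [Algebra Q S] [Algebra Q T]
    (f : S →ₐ[Q] T) {r : Fin m → MvPolynomial (Fin n) Q} (h : HasSplit S r) : HasSplit T r := by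
  obtain ⟨p, h1, h2⟩ := h
  have hI : (Ideal.span (Set.range (rels S r))).map (MvPolynomial.mapAlgHom f) ≤
      Ideal.span (Set.range (rels T r)) := by
    rw [Ideal.map_span, Ideal.span_le]
    rintro _ ⟨_, ⟨j, rfl⟩, rfl⟩
    rw [mapAlgHom_rels]
    exact Ideal.subset_span ⟨j, rfl⟩
  refine ⟨fun a => MvPolynomial.mapAlgHom f (p a), fun j => ?_, fun a => ?_⟩
  · have := Ideal.mem_map_of_mem (MvPolynomial.mapAlgHom f) (h1 j)
    rw [Ideal.map_pow, MvPolynomial.comp_aeval_apply] at this
    exact Ideal.pow_right_mono hI 2 this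
  · have := hI (Ideal.mem_map_of_mem (MvPolynomial.mapAlgHom f) (h2 a))
    simpa [MvPolynomial.mapAlgHom_apply] using this

/-- Smoothness of the base change in terms of the equations. -/
theorem smooth_iff_hasSplit (P : Algebra.Presentation Q C (Fin n) (Fin m)) (S : Type u) [CommRing S]
    [Algebra Q S] : Algebra.Smooth S (S ⊗[Q] C) ↔ HasSplit S P.relation := by
  let v : Fin n → S ⊗[Q] C := (P.baseChange S).val
  let f : MvPolynomial (Fin n) S →ₐ[S] S ⊗[Q] C := MvPolynomial.aeval v
  have hker : RingHom.ker f = Ideal.span (Set.range (rels S P.relation)) :=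
    (P.span_range_relation_eq_ker_baseChange S).symm
  have hf : Function.Surjective f := fun x => by
    obtain ⟨y, hy⟩ := (P.baseChange S).algebraMap_surjective x
    exact ⟨y, hy⟩
  constructor
  · intro hs
    obtain ⟨σ, hσ⟩ := (Algebra.FormallySmooth.iff_split_surjection f hf).1 inferInstance
    choose p hp using fun a => Ideal.Quotient.mk_surjective (σ (v a))
    refine ⟨p, fun j => ?_, fun a => ?_⟩
    · have hdiag : (Ideal.Quotient.mkₐ S _).comp (MvPolynomial.aeval p) = σ.comp f :=
        MvPolynomial.algHom_ext fun a => by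
          rw [AlgHom.comp_apply, AlgHom.comp_apply, MvPolynomial.aeval_X, MvPolynomial.aeval_X]
          exact hp a
      have hrel : f (rels S P.relation j) = 0 :=
        RingHom.mem_ker.1 (hker ▸ Ideal.subset_span ⟨j, rfl⟩)
      have h0 := AlgHom.congr_fun hdiag (rels S P.relation j)
      rw [AlgHom.comp_apply, AlgHom.comp_apply, hrel, map_zero] at h0
      have h1 := Ideal.Quotient.eq_zero_iff_mem.1 h0
      rw [rels, MvPolynomial.aeval_map_algebraMap] at h1
      rwa [← hker]
    · have h0 := AlgHom.congr_fun hσ (v a)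
      rw [AlgHom.comp_apply, ← hp a, AlgHom.kerSquareLift_mk, AlgHom.id_apply] at h0
      rw [← hker, RingHom.mem_ker, map_sub, h0]
      simp [f]
  · rintro ⟨p, h1, h2⟩
    let π := (Ideal.Quotient.mkₐ S ((RingHom.ker f.toRingHom) ^ 2)).comp (MvPolynomial.aeval p)
    have hle : RingHom.ker f ≤ RingHom.ker π := by
      rw [hker, Ideal.span_le]
      rintro _ ⟨j, rfl⟩
      refine Ideal.Quotient.eq_zero_iff_mem.2 ?_
      have e : MvPolynomial.aeval p (rels S P.relation j) = MvPolynomial.aeval p (P.relation j) :=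
        MvPolynomial.aeval_map_algebraMap S p _
      show MvPolynomial.aeval p (rels S P.relation j) ∈ RingHom.ker f ^ 2
      rw [e, hker]
      exact h1 j
    let e := Ideal.quotientKerAlgEquivOfSurjective hf
    let g := (Ideal.Quotient.liftₐ (RingHom.ker f) π fun x hx => hle hx).comp e.symm.toAlgHom
    haveI : Algebra.FinitePresentation S (S ⊗[Q] C) :=
      Algebra.FinitePresentation.of_surjective hf (hker ▸ Submodule.fg_span (Set.finite_range _))
    refine ⟨Algebra.FormallySmooth.of_split f g ((AlgHom.cancel_right hf).1 (MvPolynomial.algHom_ext fun a => ?_)), inferInstance⟩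
    have he : e.symm (f (MvPolynomial.X a)) = Ideal.Quotient.mk _ (MvPolynomial.X a) := by
      rw [AlgEquiv.symm_apply_eq]; rfl
    simp only [AlgHom.comp_apply, AlgHom.id_apply, g]
    rw [show e.symm.toAlgHom (f (MvPolynomial.X a)) = _ from he, Ideal.Quotient.liftₐ_apply, Ideal.Quotient.lift_mk]
    show f.kerSquareLift (π (MvPolynomial.X a)) = _
    have h3 := h2 a
    rw [← hker, RingHom.mem_ker, map_sub, sub_eq_zero] at h3
    simp only [π, AlgHom.comp_apply, MvPolynomial.aeval_X]
    exact h3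

/-- Smoothness of a base change descends to a stage. -/
theorem IsColim.exists_smooth (h : IsColim ρ) [Algebra.FinitePresentation Q C]
    (hR : Algebra.Smooth R (R ⊗[Q] C)) :
    ∃ i, ∀ k, Hom ρ i k → Algebra.Smooth (G k) (G k ⊗[Q] C) := by
  obtain ⟨n, m, ⟨P⟩⟩ : ∃ n m, Nonempty (Algebra.Presentation Q C (Fin n) (Fin m)) :=
    ⟨_, _, ⟨Algebra.Presentation.ofFinitePresentation Q C⟩⟩
  obtain ⟨i, hi⟩ := h.hasSplit P.relation ((smooth_iff_hasSplit P R).1 hR)
  exact ⟨i, fun k ψ => (smooth_iff_hasSplit P (G k)).2 (hi.map ψ.1)⟩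

theorem subsingleton_tensor_of_span {M S : Type u} [AddCommGroup M] [Module Q M] [Module C M]
    [IsScalarTower Q C M] [CommRing S] [Algebra Q S] (s : Set M) (hs : Submodule.span C s = ⊤)
    (h : ∀ g ∈ s, g ⊗ₜ[Q] (1 : S) = 0) : Subsingleton (S ⊗[Q] M) := by
  have key : ∀ g : M, g ⊗ₜ[Q] (1 : S) = 0 := by
    intro g
    have hg : g ∈ Submodule.span C s := hs ▸ Submodule.mem_top
    induction hg using Submodule.span_induction with
    | mem g hg => exact h g hg
    | zero => rw [zero_tmul]
    | add a b _ _ ha hb => rw [add_tmul, ha, hb, add_zero]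
    | smul c a _ ha =>
      have := congrArg (((LinearMap.lsmul C M c).restrictScalars Q).rTensor S) ha
      simpa using this
  refine subsingleton_of_forall_eq 0 fun x => ?_
  induction x using TensorProduct.induction_on with
  | zero => rfl
  | tmul s g =>
    have := congrArg (fun z => TensorProduct.comm Q M S ((LinearMap.mulRight Q s).lTensor M z)) (key g)
    simpa using this
  | add a b ha hb => rw [ha, hb, add_zero]

attribute [local instance] Algebra.TensorProduct.rightAlgebra in
/-- Unramifiedness of a base change descends to a stage. -/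
theorem IsColim.exists_formallyUnramified (h : IsColim ρ) [Algebra.FinitePresentation Q C]
    (hR : Algebra.FormallyUnramified R (R ⊗[Q] C)) :
    ∃ i, ∀ k, Hom ρ i k → Algebra.FormallyUnramified (G k) (G k ⊗[Q] C) := by
  classical
  haveI : Subsingleton (Ω[(R ⊗[Q] C)⁄R]) := Algebra.formallyUnramified_iff R _ |>.1 hR
  haveI : Subsingleton (R ⊗[Q] Ω[C⁄Q]) :=
    (KaehlerDifferential.tensorKaehlerEquivBase Q R C (R ⊗[Q] C)).toEquiv.subsingleton
  obtain ⟨s, hs⟩ := (inferInstance : Module.Finite C (Ω[C⁄Q])).fg_top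
  obtain ⟨i₀⟩ := h.nonempty
  have hk : ∀ t : Finset (Ω[C⁄Q]), ∃ i, ∀ g ∈ t, g ⊗ₜ[Q] (1 : G i) = 0 := by
    intro t
    induction t using Finset.induction_on with
    | empty => exact ⟨i₀, fun g hg => absurd hg (Finset.notMem_empty g)⟩
    | insert a t _ ih =>
      obtain ⟨i, hi⟩ := ih
      obtain ⟨k, ψ, hψ⟩ := h.kill_tensor (Ω[C⁄Q]) (a ⊗ₜ[Q] (1 : G i))
        ((TensorProduct.comm Q (Ω[C⁄Q]) R).injective (Subsingleton.elim _ _))
      refine ⟨k, fun g hg => ?_⟩
      rcases Finset.mem_insert.1 hg with rfl | hg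
      · simpa using hψ
      · simpa using congrArg (ψ.1.toLinearMap.lTensor (Ω[C⁄Q])) (hi g hg)
  obtain ⟨i, hi⟩ := hk s
  refine ⟨i, fun k ψ => (Algebra.formallyUnramified_iff (G k) _).2 ?_⟩
  haveI : Subsingleton (G k ⊗[Q] Ω[C⁄Q]) :=
    subsingleton_tensor_of_span (C := C) (s : Set (Ω[C⁄Q])) hs fun g hg => by
      simpa using congrArg (ψ.1.toLinearMap.lTensor (Ω[C⁄Q])) (hi g hg)
  exact (KaehlerDifferential.tensorKaehlerEquivBase Q (G k) C (G k ⊗[Q] C)).toEquiv.symm.subsingleton

/-- Étaleness of a base change descends to a stage. -/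
theorem IsColim.exists_etale (h : IsColim ρ) [Algebra.FinitePresentation Q C]
    (hR : Algebra.Etale R (R ⊗[Q] C)) : ∃ i, Algebra.Etale (G i) (G i ⊗[Q] C) := by
  obtain ⟨hu, hs⟩ := Algebra.Etale.iff_formallyUnramified_and_smooth.1 hR
  obtain ⟨i, hi⟩ := h.exists_smooth hs
  obtain ⟨j, hj⟩ := h.exists_formallyUnramified hu
  obtain ⟨k, ⟨φ⟩, ⟨φ'⟩⟩ := h.dir i j
  exact ⟨k, Algebra.Etale.iff_formallyUnramified_and_smooth.2 ⟨hj k φ', hi k φ⟩⟩

end Groth.Agent.CAlgLow.Descent
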