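import Groth.Agent.Lib.CAlgLow.FactorFP
import Mathlib.LinearAlgebra.TensorProduct.Associator
import Mathlib.Algebra.Module.FinitePresentation

/-!
# Mittag-Leffler modules and domination
-/

set_option autoImplicit false

universe u

open TensorProduct

namespace Groth.Agent.CAlgLow

variable {R : Type u} [CommRing R]

theorem finitePresentation_tensor (A B : Type u) [AddCommGroup A] [Module R A] [AddCommGroup B] [Module R B]
    [Module.FinitePresentation R A] [Module.FinitePresentation R B] :
    Module.FinitePresentation R (A ⊗[R] B) := by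
  obtain ⟨n, K, e, hK⟩ := Module.FinitePresentation.exists_fin R A
  have : Module.Finite R K := .of_fg hK
  have : Module.FinitePresentation R ((Fin n → R) ⊗[R] B) :=
    Module.FinitePresentation.of_equiv (piScalarRight R R B (Fin n)).symm |>.of_equiv (TensorProduct.comm R B _)
  let q : (Fin n → R) →ₗ[R] A := e.symm.toLinearMap ∘ₗ K.mkQ
  have hq : Function.Surjective q := e.symm.surjective.comp K.mkQ_surjective
  have hex : Function.Exact K.subtype q :=
    (LinearMap.exact_iff).2 (by simp [q, LinearMap.ker_comp])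
  refine Module.finitePresentation_of_surjective (q.rTensor B) (LinearMap.rTensor_surjective B hq) ?_
  rw [LinearMap.exact_iff.1 (rTensor_exact B hex hq), LinearMap.range_eq_map]
  exact Module.Finite.fg_top.map _

theorem exists_fin_preimage {M X : Type u} [AddCommGroup M] [Module R M] [AddCommGroup X] [Module R X]
    (z : M ⊗[R] X) : ∃ (n : ℕ) (f : (Fin n → R) →ₗ[R] M) (y : (Fin n → R) ⊗[R] X), f.rTensor X y = z := by
  classical
  obtain ⟨S, rfl⟩ := TensorProduct.exists_finset z
  refine ⟨S.card, Fintype.linearCombination R (fun i => (S.equivFin.symm i).1.1),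
    ∑ i, Pi.single i 1 ⊗ₜ (S.equivFin.symm i).1.2, ?_⟩
  rw [map_sum, ← Finset.sum_coe_sort S]
  exact Fintype.sum_equiv S.equivFin.symm _ _ fun i => by simp [Fintype.linearCombination_apply_single]

theorem isMittagLeffler_of_dominate {M : Type u} [AddCommGroup M] [Module R M]
    (h : ∀ (n : ℕ) (f : (Fin n → R) →ₗ[R] M),
        ∃ (Q : Type u) (_ : AddCommGroup Q) (_ : Module R Q) (_ : Module.FinitePresentation R Q)
          (g : (Fin n → R) →ₗ[R] Q),
          ∀ (N : Type u) [AddCommGroup N] [Module R N],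
            LinearMap.ker (f.rTensor N) = LinearMap.ker (g.rTensor N)) : CAlg.IsMittagLeffler R M := by
  intro ι Q _ _
  rw [injective_iff_map_eq_zero]
  intro x hx
  obtain ⟨n, f, y, rfl⟩ := exists_fin_preimage x
  obtain ⟨Q', _, _, _, g, hg⟩ := h n f
  have hgy : g.rTensor (∀ i, Q i) y = 0 := by
    refine (piRightHom_bijective (R := R) (M := Q') (Q := Q)).1 ((funext fun i => ?_).trans (map_zero _).symm)
    rw [piRightHom_rTensor, Pi.zero_apply, ← LinearMap.mem_ker, ← hg, LinearMap.mem_ker,
      ← piRightHom_rTensor, hx, Pi.zero_apply]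
  exact LinearMap.mem_ker.1 ((hg _).ge (LinearMap.mem_ker.2 hgy))

theorem exists_factor_family {M : Type u} [AddCommGroup M] [Module R M] (hM : CAlg.IsMittagLeffler R M)
    {P : Type u} [AddCommGroup P] [Module R P] [Module.FinitePresentation R P] (f : P →ₗ[R] M)
    {I : Type u} {N : I → Type u} [∀ i, AddCommGroup (N i)] [∀ i, Module R (N i)]
    (x : ∀ i, P ⊗[R] N i) (hx : ∀ i, f.rTensor (N i) (x i) = 0) :
    ∃ (P' : Type u) (_ : AddCommGroup P') (_ : Module R P') (_ : Module.FinitePresentation R P')
      (f' : P →ₗ[R] P') (h : P' →ₗ[R] M), f = h ∘ₗ f' ∧ ∀ i, f'.rTensor (N i) (x i) = 0 := by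
  obtain ⟨z, hz⟩ := piRightHom_surjective (R := R) (M := P) (Q := N) x
  have hfz : f.rTensor (∀ i, N i) z = 0 := by
    refine hM I N ((funext fun i => ?_).trans (map_zero _).symm)
    rw [piRightHom_rTensor, hz, hx, Pi.zero_apply]
  obtain ⟨P', _, _, hP', f', h, hfh, hf'z⟩ := exists_factor f z hfz
  exact ⟨P', inferInstance, inferInstance, hP', f', h, hfh, fun i => by
    rw [← hz, ← piRightHom_rTensor, hf'z, map_zero, Pi.zero_apply]⟩

theorem exists_dominate {M : Type u} [AddCommGroup M] [Module R M] (hM : CAlg.IsMittagLeffler R M)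
    {P : Type u} [AddCommGroup P] [Module R P] [Module.FinitePresentation R P] (f : P →ₗ[R] M) :
    ∃ (Q : Type u) (_ : AddCommGroup Q) (_ : Module R Q) (_ : Module.FinitePresentation R Q) (g : P →ₗ[R] Q),
      ∀ (N : Type u) [AddCommGroup N] [Module R N],
        LinearMap.ker (f.rTensor N) = LinearMap.ker (g.rTensor N) := by
  obtain ⟨P', _, _, hP', f', h, hfh, hvan⟩ := exists_factor_family hM f
    (I := Σ (n : ℕ) (K : Submodule R (Fin n → R)), {x : P ⊗[R] ((Fin n → R) ⧸ K) // f.rTensor _ x = 0})
    (N := fun i => (Fin i.1 → R) ⧸ i.2.1) (fun i => i.2.2.1) (fun i => i.2.2.2)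
  refine ⟨P', inferInstance, inferInstance, hP', f', fun L _ _ => le_antisymm ?_ fun x hx => ?_⟩
  · refine (dominates_iff_finitePresentation f f').2 (fun X _ _ _ x hx => ?_) L
    obtain ⟨n, K, e, -⟩ := Module.FinitePresentation.exists_fin R X
    rw [LinearMap.mem_ker] at hx ⊢
    have hx' : f.rTensor _ (e.toLinearMap.lTensor P x) = 0 := by
      rw [← LinearMap.comp_apply, LinearMap.rTensor_comp_lTensor, ← LinearMap.lTensor_comp_rTensor,
        LinearMap.comp_apply, hx, map_zero]
    have h0 : f'.rTensor ((Fin n → R) ⧸ K) (e.toLinearMap.lTensor P x) = 0 :=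
      hvan ⟨n, K, e.toLinearMap.lTensor P x, hx'⟩
    have h1 : e.toLinearMap.lTensor P' (f'.rTensor X x) = 0 := by
      rw [← LinearMap.comp_apply, LinearMap.lTensor_comp_rTensor, ← LinearMap.rTensor_comp_lTensor,
        LinearMap.comp_apply]
      exact h0
    exact (LinearEquiv.map_eq_zero_iff (LinearEquiv.lTensor P' e)).1 h1
  · rw [LinearMap.mem_ker] at hx ⊢
    rw [hfh, LinearMap.rTensor_comp_apply, hx, map_zero]

/-- Tensor products of Mittag-Leffler modules. -/
theorem isMittagLeffler_tensor {M N : Type u} [AddCommGroup M] [Module R M] [AddCommGroup N] [Module R N]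
    (hM : CAlg.IsMittagLeffler R M) (hN : CAlg.IsMittagLeffler R N) : CAlg.IsMittagLeffler R (M ⊗[R] N) := by
  intro ι Q _ _
  rw [injective_iff_map_eq_zero]
  intro x hx
  obtain ⟨n, f, y₁, hy₁⟩ := exists_fin_preimage (TensorProduct.assoc R M N (∀ i, Q i) x)
  obtain ⟨m, f', y₂, hy₂⟩ := exists_fin_preimage (TensorProduct.leftComm R (Fin n → R) N (∀ i, Q i) y₁)
  let y : ((Fin n → R) ⊗[R] (Fin m → R)) ⊗[R] (∀ i, Q i) :=
    (TensorProduct.assoc R _ _ _).symm (TensorProduct.leftComm R (Fin m → R) (Fin n → R) (∀ i, Q i) y₂)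
  have hy : (TensorProduct.map f f').rTensor (∀ i, Q i) y = x := by
    have key : ∀ w : (Fin m → R) ⊗[R] ((Fin n → R) ⊗[R] (∀ i, Q i)),
        TensorProduct.assoc R M N (∀ i, Q i) ((TensorProduct.map f f').rTensor (∀ i, Q i)
          ((TensorProduct.assoc R _ _ _).symm (TensorProduct.leftComm R (Fin m → R) (Fin n → R) (∀ i, Q i) w))) =
        f.rTensor _ ((TensorProduct.leftComm R (Fin n → R) N (∀ i, Q i)).symm (f'.rTensor _ w)) := by
      intro w
      induction w with
      | zero => simp
      | add a b ha hb => simp only [map_add, ha, hb]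
      | tmul a w =>
        induction w with
        | zero => simp
        | add c d hc hd => simp only [tmul_add, map_add, hc, hd]
        | tmul b q => simp
    apply (TensorProduct.assoc R M N (∀ i, Q i)).injective
    rw [key, hy₂, LinearEquiv.symm_apply_apply, hy₁]
  obtain ⟨A, _, _, _, g, hg⟩ := exists_dominate hM f
  obtain ⟨B, _, _, _, g', hg'⟩ := exists_dominate hN f'
  have hiff : ∀ (L : Type u) [AddCommGroup L] [Module R L] (w : ((Fin n → R) ⊗[R] (Fin m → R)) ⊗[R] L),
      (TensorProduct.map f f').rTensor L w = 0 ↔ (TensorProduct.map g g').rTensor L w = 0 := by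
    intro L _ _ w
    have step1 : ∀ {A₀ B₀ : Type u} [AddCommGroup A₀] [Module R A₀] [AddCommGroup B₀] [Module R B₀]
        (a : (Fin n → R) →ₗ[R] A₀) (b : (Fin m → R) →ₗ[R] B₀),
        ((TensorProduct.map a b).rTensor L w = 0 ↔
          b.rTensor (A₀ ⊗[R] L) (TensorProduct.leftComm R A₀ (Fin m → R) L
            (a.rTensor ((Fin m → R) ⊗[R] L) (TensorProduct.assoc R _ _ L w))) = 0) ∧
        ((TensorProduct.map a b).rTensor L w = 0 ↔
          a.rTensor (B₀ ⊗[R] L) ((b.rTensor L).lTensor (Fin n → R) (TensorProduct.assoc R _ _ L w)) = 0) := by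
      intro A₀ B₀ _ _ _ _ a b
      have e1 : ∀ v : ((Fin n → R) ⊗[R] (Fin m → R)) ⊗[R] L,
          TensorProduct.leftComm R A₀ B₀ L (TensorProduct.assoc R A₀ B₀ L ((TensorProduct.map a b).rTensor L v)) =
          b.rTensor (A₀ ⊗[R] L) (TensorProduct.leftComm R A₀ (Fin m → R) L
            (a.rTensor ((Fin m → R) ⊗[R] L) (TensorProduct.assoc R _ _ L v))) := by
        intro v
        induction v with
        | zero => simp
        | add c d hc hd => simp only [map_add, hc, hd]
        | tmul c l =>
          induction c with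
          | zero => simp
          | add c d hc hd => simp only [add_tmul, map_add, hc, hd]
          | tmul p q => simp
      have e2 : ∀ v : ((Fin n → R) ⊗[R] (Fin m → R)) ⊗[R] L,
          TensorProduct.assoc R A₀ B₀ L ((TensorProduct.map a b).rTensor L v) =
          a.rTensor (B₀ ⊗[R] L) ((b.rTensor L).lTensor (Fin n → R) (TensorProduct.assoc R _ _ L v)) := by
        intro v
        induction v with
        | zero => simp
        | add c d hc hd => simp only [map_add, hc, hd]
        | tmul c l =>
          induction c with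
          | zero => simp
          | add c d hc hd => simp only [add_tmul, map_add, hc, hd]
          | tmul p q => simp
      exact ⟨by rw [← e1, LinearEquiv.map_eq_zero_iff, LinearEquiv.map_eq_zero_iff],
        by rw [← e2, LinearEquiv.map_eq_zero_iff]⟩
    have hd : ∀ {X : Type u} [AddCommGroup X] [Module R X] (v : (Fin m → R) ⊗[R] X),
        f'.rTensor X v = 0 ↔ g'.rTensor X v = 0 := fun {X} _ _ v => by
      rw [← LinearMap.mem_ker, hg', LinearMap.mem_ker]
    have hd' : ∀ {X : Type u} [AddCommGroup X] [Module R X] (v : (Fin n → R) ⊗[R] X),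
        f.rTensor X v = 0 ↔ g.rTensor X v = 0 := fun {X} _ _ v => by
      rw [← LinearMap.mem_ker, hg, LinearMap.mem_ker]
    rw [(step1 f f').1, hd, ← (step1 f g').1, (step1 f g').2, hd', ← (step1 g g').2]
  have : Module.FinitePresentation R (A ⊗[R] B) := finitePresentation_tensor A B
  have h0 : (TensorProduct.map g g').rTensor (∀ i, Q i) y = 0 := by
    refine (piRightHom_bijective (R := R) (M := A ⊗[R] B) (Q := Q)).1 ((funext fun i => ?_).trans (map_zero _).symm)
    rw [piRightHom_rTensor, Pi.zero_apply, ← hiff, ← piRightHom_rTensor, hy, hx, Pi.zero_apply]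
  rw [← hy]
  exact (hiff _ y).2 h0

end Groth.Agent.CAlgLow
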