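import Groth.Agent.Lib.CAlgLow.Dominate
import Mathlib.RingTheory.Flat.FaithfullyFlat.Basic
import Mathlib.LinearAlgebra.TensorProduct.Tower
import Mathlib.LinearAlgebra.TensorProduct.Pi
import Mathlib.RingTheory.TensorProduct.Finite

/-!
# Mittag-Leffler modules descend along faithfully flat ring maps
-/

set_option autoImplicit false

universe u

open TensorProduct

namespace Groth.Agent.CAlgLow

variable {R : Type u} [CommRing R] {S : Type u} [CommRing S] [Algebra R S]

/-- Finitely many elements of `S ⊗ P` killed in `S ⊗ M` die in a finitely presented factorisation. -/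
theorem exists_factor_baseChange {P M : Type u} [AddCommGroup P] [Module R P] [Module.FinitePresentation R P]
    [AddCommGroup M] [Module R M] (f : P →ₗ[R] M) {κ : Type u} [Finite κ] (d : κ → S ⊗[R] P)
    (hd : ∀ k, f.baseChange S (d k) = 0) :
    ∃ (P' : Type u) (_ : AddCommGroup P') (_ : Module R P') (_ : Module.FinitePresentation R P')
      (f' : P →ₗ[R] P') (h : P' →ₗ[R] M), f = h ∘ₗ f' ∧ ∀ k, f'.baseChange S (d k) = 0 := by
  classical
  obtain ⟨z, hz⟩ := piRightHom_surjective (R := R) (M := P) (Q := fun _ : κ => S)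
    (fun k => TensorProduct.comm R S P (d k))
  have hcomm : ∀ {X : Type u} [AddCommGroup X] [Module R X] (f₀ : P →ₗ[R] X) (w : S ⊗[R] P),
      f₀.rTensor S (TensorProduct.comm R S P w) = TensorProduct.comm R S X (f₀.baseChange S w) := by
    intro X _ _ f₀ w
    induction w with
    | zero => simp
    | add a b ha hb => simp [ha, hb]
    | tmul a b => rfl
  have hfz : f.rTensor (κ → S) z = 0 := by
    have : Fintype κ := Fintype.ofFinite κ
    apply (TensorProduct.piRight R R M (fun _ : κ => S)).injective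
    rw [map_zero]
    funext k
    rw [TensorProduct.piRight_apply, piRightHom_rTensor, hz, hcomm, hd, map_zero, Pi.zero_apply]
  obtain ⟨P', _, _, hP', f', h, hfh, hf'z⟩ := exists_factor f z hfz
  refine ⟨P', inferInstance, inferInstance, hP', f', h, hfh, fun k => ?_⟩
  apply (TensorProduct.comm R S P').injective
  rw [← hcomm, ← congrFun hz k, ← piRightHom_rTensor (R := R) (Q := fun _ : κ => S), hf'z, map_zero, Pi.zero_apply, map_zero]

theorem distribBaseChange_natural {A B N : Type u} [AddCommGroup A] [Module R A] [AddCommGroup B] [Module R B]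
    [AddCommGroup N] [Module R N] (φ : A →ₗ[R] B) (w : S ⊗[R] (A ⊗[R] N)) :
    TensorProduct.AlgebraTensorModule.distribBaseChange R S B N ((φ.rTensor N).baseChange S w) =
      (φ.baseChange S).rTensor (S ⊗[R] N) (TensorProduct.AlgebraTensorModule.distribBaseChange R S A N w) := by
  induction w with
  | zero => simp
  | add a b ha hb => simp only [map_add, ha, hb]
  | tmul s x =>
    induction x with
    | zero => simp
    | add a b ha hb => simp only [TensorProduct.tmul_add, map_add, ha, hb]
    | tmul a b => rfl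

theorem baseChange_rTensor_eq_zero_iff {A B N : Type u} [AddCommGroup A] [Module R A] [AddCommGroup B] [Module R B]
    [AddCommGroup N] [Module R N] (φ : A →ₗ[R] B) [Module.FaithfullyFlat R S] (x : A ⊗[R] N) :
    φ.rTensor N x = 0 ↔ (φ.baseChange S).rTensor (S ⊗[R] N)
      (TensorProduct.AlgebraTensorModule.distribBaseChange R S A N (1 ⊗ₜ x)) = 0 := by
  rw [← distribBaseChange_natural, LinearMap.baseChange_tmul, LinearEquiv.map_eq_zero_iff]
  exact ⟨fun h => by rw [h, tmul_zero],
    fun h => Module.FaithfullyFlat.tensorProduct_mk_injective (A := R) (B := S) (B ⊗[R] N) (h.trans (tmul_zero _ _).symm)⟩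

/-- Mittag-Leffler modules descend along faithfully flat ring maps. -/
theorem isMittagLeffler_of_faithfullyFlat [Module.FaithfullyFlat R S] {M : Type u} [AddCommGroup M] [Module R M]
    (hM : CAlg.IsMittagLeffler S (S ⊗[R] M)) : CAlg.IsMittagLeffler R M := by
  classical
  refine isMittagLeffler_of_dominate fun n f => ?_
  have : Module.FinitePresentation S (S ⊗[R] (Fin n → R)) := inferInstance
  obtain ⟨Q, _, _, hQ, g, hg⟩ := exists_dominate hM (f.baseChange S)
  have : Module.FinitePresentation S (Q ⧸ LinearMap.range g) :=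
    Module.finitePresentation_of_surjective _ (Submodule.mkQ_surjective _)
      (by rw [Submodule.ker_mkQ, LinearMap.range_eq_map]; exact Module.Finite.fg_top.map _)
  obtain ⟨h, hh⟩ := (dominates_iff_factors g (f.baseChange S)).1 fun N _ _ => (hg N).ge
  obtain ⟨m, K, e, T, hT⟩ := Module.FinitePresentation.exists_fin S Q
  let π : (Fin m → S) →ₗ[S] Q := e.symm.toLinearMap ∘ₗ K.mkQ
  have hπ : Function.Surjective π := e.symm.surjective.comp K.mkQ_surjective
  -- finitely many elements of `M` carry the images of the generators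
  choose u hu using fun a : Fin m => TensorProduct.exists_finset (h (π (Pi.single a 1)))
  let s : Finset M := Finset.univ.biUnion fun a => (u a).image Prod.snd
  let f₁ : ((Fin n → R) × (s → R)) →ₗ[R] M := f.coprod (Fintype.linearCombination R fun i : s => i.1)
  have hlift : ∀ a, ∃ w, f₁.baseChange S w = h (π (Pi.single a 1)) := fun a => by
    show h (π (Pi.single a 1)) ∈ LinearMap.range (f₁.baseChange S)
    rw [hu a]
    refine sum_mem fun i hi => ?_
    have hi' : i.2 ∈ s := Finset.mem_biUnion.2 ⟨a, Finset.mem_univ _, Finset.mem_image_of_mem _ hi⟩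
    exact ⟨i.1 ⊗ₜ (0, Pi.single ⟨i.2, hi'⟩ 1), by simp [f₁, Fintype.linearCombination_apply_single]⟩
  choose w hw using hlift
  let ψ : (Fin m → S) →ₗ[S] S ⊗[R] ((Fin n → R) × (s → R)) := (Pi.basisFun S (Fin m)).constr S w
  have hψ : ∀ v, f₁.baseChange S (ψ v) = h (π v) := fun v => by
    refine DFunLike.congr_fun (?_ : f₁.baseChange S ∘ₗ ψ = h ∘ₗ π) v
    refine (Pi.basisFun S (Fin m)).ext fun a => ?_
    rw [LinearMap.comp_apply, LinearMap.comp_apply, Module.Basis.constr_basis, hw, Pi.basisFun_apply]
  choose v hv using fun a : Fin n => hπ (g (1 ⊗ₜ Pi.single a 1))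
  obtain ⟨P', _, _, hP', f₂, h₂, hfac, hkill⟩ := exists_factor_baseChange (S := S) f₁
    (Sum.elim (fun t : T => ψ t.1)
      (fun a : ULift.{u} (Fin n) => ψ (v a.down) - 1 ⊗ₜ (Pi.single a.down 1, 0))) (by
    rintro (t | a)
    · have ht : K.mkQ t.1 = 0 := (Submodule.Quotient.mk_eq_zero K).2 (hT ▸ Submodule.subset_span t.2)
      simp only [Sum.elim_inl, hψ]
      rw [show π t.1 = e.symm (K.mkQ t.1) from rfl, ht, map_zero, map_zero]
    · simp only [Sum.elim_inr, map_sub, hψ, hv, LinearMap.baseChange_tmul]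
      rw [← LinearMap.comp_apply, ← hh]
      simp [f₁])
  have hK : K ≤ LinearMap.ker (f₂.baseChange S ∘ₗ ψ) := by
    rw [← hT, Submodule.span_le]
    exact fun t ht => hkill (Sum.inl ⟨t, ht⟩)
  let h₂' : Q →ₗ[S] S ⊗[R] P' := K.liftQ _ hK ∘ₗ e.toLinearMap
  let f' : (Fin n → R) →ₗ[R] P' := f₂ ∘ₗ LinearMap.inl R _ _
  have hg' : f'.baseChange S = h₂' ∘ₗ g := by
    refine ((Pi.basisFun R (Fin n)).baseChange S).ext fun a => ?_
    rw [Module.Basis.baseChange_apply, Pi.basisFun_apply, LinearMap.comp_apply, ← hv a]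
    have h0 := hkill (Sum.inr ⟨a⟩)
    simp only [Sum.elim_inr, map_sub, sub_eq_zero, LinearMap.baseChange_tmul] at h0
    simp only [h₂', LinearMap.comp_apply, LinearEquiv.coe_coe, π, e.apply_symm_apply, Submodule.mkQ_apply,
      Submodule.liftQ_apply, h0, LinearMap.baseChange_tmul]
    rfl
  refine ⟨P', inferInstance, inferInstance, hP', f', fun N _ _ => le_antisymm (fun x hx => ?_) fun x hx => ?_⟩
  · rw [LinearMap.mem_ker, baseChange_rTensor_eq_zero_iff (S := S)] at hx ⊢
    rw [← LinearMap.mem_ker, hg, LinearMap.mem_ker] at hx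
    rw [hg', LinearMap.rTensor_comp_apply, hx, map_zero]
  · rw [LinearMap.mem_ker] at hx ⊢
    have e : f = h₂ ∘ₗ f' := by
      show f = h₂ ∘ₗ (f₂ ∘ₗ LinearMap.inl R _ _)
      rw [← LinearMap.comp_assoc, ← hfac]
      exact (LinearMap.coprod_inl _ _).symm
    rw [e, LinearMap.rTensor_comp_apply, hx, map_zero]

end Groth.Agent.CAlgLow
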