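import Mathlib.Algebra.Colimit.Module
import Mathlib.Algebra.Module.FinitePresentation
import Mathlib.LinearAlgebra.Finsupp.Supported

/-!
# Every module is a directed colimit of finitely presented modules
-/

set_option autoImplicit false

universe u

namespace Groth.Agent.CAlgLow

variable (R : Type u) [CommRing R] (M : Type u) [AddCommGroup M] [Module R M]

/-- A finite set of generators with a finitely generated module of relations. -/
structure Pres where
  s : Finset M
  K : Submodule R (M →₀ R)
  fg : K.FG
  supp : K ≤ Finsupp.supported R R (s : Set M)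
  rel : K ≤ LinearMap.ker (Finsupp.linearCombination R (id : M → M))

namespace Pres

variable {R M}

instance : Preorder (Pres R M) where
  le a b := a.s ⊆ b.s ∧ a.K ≤ b.K
  le_refl a := ⟨subset_rfl, le_rfl⟩
  le_trans a b c h h' := ⟨h.1.trans h'.1, h.2.trans h'.2⟩

instance : Nonempty (Pres R M) := ⟨⟨∅, ⊥, Submodule.fg_bot, bot_le, bot_le⟩⟩

instance : IsDirected (Pres R M) (· ≤ ·) := ⟨fun a b => by
  classical
  exact ⟨⟨a.s ∪ b.s, a.K ⊔ b.K, a.fg.sup b.fg,
    sup_le (a.supp.trans (Finsupp.supported_mono (Finset.coe_subset.2 Finset.subset_union_left)))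
      (b.supp.trans (Finsupp.supported_mono (Finset.coe_subset.2 Finset.subset_union_right))),
    sup_le a.rel b.rel⟩,
    ⟨Finset.subset_union_left, le_sup_left⟩, ⟨Finset.subset_union_right, le_sup_right⟩⟩⟩

noncomputable instance addCommGroupSupported (t : Set M) : AddCommGroup (Finsupp.supported R R t) :=
  Submodule.addCommGroup _

/-- The module of a presentation. -/
abbrev G (a : Pres R M) : Type u :=
  (Finsupp.supported R R (a.s : Set M)) ⧸ a.K.comap (Finsupp.supported R R (a.s : Set M)).subtype

/-- The transition maps. -/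
noncomputable def f (a b : Pres R M) (h : a ≤ b) : G a →ₗ[R] G b :=
  Submodule.mapQ _ _ (Submodule.inclusion (Finsupp.supported_mono (Finset.coe_subset.2 h.1))) (fun _ hx => h.2 hx)

instance : DirectedSystem (G (R := R) (M := M)) fun a b h => f a b h where
  map_self a x := by
    obtain ⟨y, rfl⟩ := Submodule.mkQ_surjective _ x
    rfl
  map_map _ _ _ _ _ x := by
    obtain ⟨y, rfl⟩ := Submodule.mkQ_surjective _ x
    rfl

/-- The map to the module. -/
noncomputable def π (a : Pres R M) : G a →ₗ[R] M :=
  Submodule.liftQ _ (Finsupp.linearCombination R (id : M → M) ∘ₗ (Finsupp.supported R R (a.s : Set M)).subtype)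
    fun _ hx => a.rel hx

theorem finitePresentation (a : Pres R M) : Module.FinitePresentation R (G a) := by
  classical
  have e := Finsupp.supportedEquivFinsupp (R := R) (M := R) (a.s : Set M)
  have : Module.Free R (Finsupp.supported R R (a.s : Set M)) := Module.Free.of_equiv e.symm
  have : Module.Finite R (Finsupp.supported R R (a.s : Set M)) := Module.Finite.equiv e.symm
  have : Module.FinitePresentation R (Finsupp.supported R R (a.s : Set M)) :=
    Module.finitePresentation_of_projective R _
  refine Module.finitePresentation_of_surjective (Submodule.mkQ _) (Submodule.mkQ_surjective _) ?_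
  rw [Submodule.ker_mkQ]
  refine Submodule.fg_of_fg_map_injective _ (Submodule.injective_subtype _) ?_
  rw [Submodule.map_comap_eq, Submodule.range_subtype, inf_eq_right.2 a.supp]
  exact a.fg

theorem exists_linearEquiv [DecidableEq (Pres R M)] :
    Nonempty (Module.DirectLimit (G (R := R) (M := M)) f ≃ₗ[R] M) := by
  classical
  let φ := Module.DirectLimit.lift R (Pres R M) G f π (fun a b h x => by
    obtain ⟨y, rfl⟩ := Submodule.mkQ_surjective _ x; rfl)
  refine ⟨LinearEquiv.ofBijective φ ⟨?_, fun m => ?_⟩⟩
  · rw [injective_iff_map_eq_zero]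
    intro z hz
    obtain ⟨a, x, rfl⟩ := Module.DirectLimit.exists_of z
    obtain ⟨y, rfl⟩ := Submodule.mkQ_surjective _ x
    have hy : Finsupp.linearCombination R (id : M → M) y.1 = 0 := by
      simpa [φ, π] using hz
    let b : Pres R M := ⟨a.s, a.K ⊔ Submodule.span R {y.1}, a.fg.sup (Submodule.fg_span_singleton _),
      sup_le a.supp ((Submodule.span_singleton_le_iff_mem _ _).2 y.2),
      sup_le a.rel ((Submodule.span_singleton_le_iff_mem _ _).2 hy)⟩
    have hab : a ≤ b := ⟨subset_rfl, le_sup_left⟩
    rw [← Module.DirectLimit.of_f (hij := hab)]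
    have : f a b hab (Submodule.mkQ _ y) = 0 :=
      (Submodule.Quotient.mk_eq_zero _).2 (Submodule.mem_sup_right (Submodule.mem_span_singleton_self _))
    rw [this, map_zero]
  · let a : Pres R M := ⟨{m}, ⊥, Submodule.fg_bot, bot_le, bot_le⟩
    refine ⟨Module.DirectLimit.of R (Pres R M) G f a (Submodule.mkQ _ ⟨Finsupp.single m 1,
      Finsupp.single_mem_supported R 1 (Finset.mem_coe.2 (Finset.mem_singleton_self m))⟩), ?_⟩
    simp only [φ, Module.DirectLimit.lift_of]
    exact (Finsupp.linearCombination_single (R := R) (v := (id : M → M)) 1 m).trans (one_smul R m)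

end Pres

end Groth.Agent.CAlgLow
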