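import Groth.Agent.Lib.CAlgLow.UI
import Mathlib.Algebra.Module.FinitePresentation
import Mathlib.LinearAlgebra.TensorProduct.Finiteness

/-!
# Factoring through finitely presented modules
-/

set_option autoImplicit false

universe u

open TensorProduct

namespace Groth.Agent.CAlgLow

variable {R : Type u} [CommRing R]

theorem exists_fg_mem_range {K Q : Type u} [AddCommGroup K] [Module R K] [AddCommGroup Q] [Module R Q]
    (z : K ⊗[R] Q) : ∃ K₀ : Submodule R K, K₀.FG ∧ z ∈ LinearMap.range (K₀.subtype.rTensor Q) := by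
  classical
  obtain ⟨S, rfl⟩ := TensorProduct.exists_finset z
  refine ⟨Submodule.span R ((S.image Prod.fst : Finset K) : Set K), ⟨_, rfl⟩, sum_mem fun i hi => ?_⟩
  exact ⟨⟨i.1, Submodule.subset_span (Finset.mem_image_of_mem _ hi)⟩ ⊗ₜ i.2, rfl⟩

/-- An element killed by `f ⊗ Q` is killed by some factorisation of `f` through a finitely presented module. -/
theorem exists_factor {P M Q : Type u} [AddCommGroup P] [Module R P] [Module.FinitePresentation R P]
    [AddCommGroup M] [Module R M] [AddCommGroup Q] [Module R Q] (f : P →ₗ[R] M) (x : P ⊗[R] Q)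
    (hx : f.rTensor Q x = 0) :
    ∃ (P' : Type u) (_ : AddCommGroup P') (_ : Module R P') (_ : Module.FinitePresentation R P')
      (f' : P →ₗ[R] P') (h : P' →ₗ[R] M), f = h ∘ₗ f' ∧ f'.rTensor Q x = 0 := by
  classical
  let g : P × (M →₀ R) →ₗ[R] M := f.coprod (Finsupp.linearCombination R id)
  have hg : Function.Surjective g := fun m => ⟨(0, Finsupp.single m 1), by simp [g]⟩
  have hi : g.rTensor Q ((LinearMap.inl R P (M →₀ R)).rTensor Q x) = 0 := by
    rw [← LinearMap.rTensor_comp_apply, show g.comp (LinearMap.inl R P (M →₀ R)) = f from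
      LinearMap.coprod_inl _ _, hx]
  obtain ⟨z, hz⟩ := (rTensor_exact (M := ↥(LinearMap.ker g)) Q (LinearMap.exact_subtype_ker_map g) hg _).1 hi
  obtain ⟨K₀, hK₀, z₀, rfl⟩ := exists_fg_mem_range (R := R) (K := ↥(LinearMap.ker g)) (Q := Q) z
  obtain ⟨T, hT⟩ := hK₀
  let s : Finset M := T.biUnion fun k => (k : P × (M →₀ R)).2.support
  let r : P × (M →₀ R) →ₗ[R] P × (s → R) :=
    LinearMap.prodMap LinearMap.id (LinearMap.pi fun i : s => Finsupp.lapply i.1)
  let g' : P × (s → R) →ₗ[R] M := f.coprod (Fintype.linearCombination R (fun i : s => i.1))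
  have hgr : ∀ k ∈ T, g' (r k.1) = g k.1 := by
    intro k hk
    have hsupp : (k : P × (M →₀ R)).2.support ⊆ s := fun i hi => Finset.mem_biUnion.2 ⟨k, hk, hi⟩
    change f (k : P × (M →₀ R)).1 + _ = f (k : P × (M →₀ R)).1 + _
    congr 1
    simp only [LinearMap.comp_apply, LinearMap.snd_apply]
    rw [Finsupp.linearCombination_apply, Finsupp.sum_of_support_subset _ hsupp _ (by simp),
      Fintype.linearCombination_apply, ← Finset.sum_coe_sort s]
    rfl
  let K' : Submodule R (P × (s → R)) := K₀.map (r.comp (LinearMap.ker g).subtype)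
  have hK' : K' ≤ LinearMap.ker g' := by
    rw [Submodule.map_le_iff_le_comap, ← hT, Submodule.span_le]
    intro k hk
    exact (hgr k hk).trans k.2
  have : Module.FinitePresentation R ((P × (s → R)) ⧸ K') :=
    Module.finitePresentation_of_surjective K'.mkQ K'.mkQ_surjective
      (by rw [Submodule.ker_mkQ]; exact Submodule.FG.map _ ⟨T, hT⟩)
  refine ⟨_, inferInstance, inferInstance, this, K'.mkQ ∘ₗ LinearMap.inl R P (s → R), K'.liftQ g' hK',
    LinearMap.ext fun p => by simp [g'], ?_⟩
  have e : (LinearMap.inl R P (s → R)).rTensor Q x =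
      (r.comp ((LinearMap.ker g).subtype.comp K₀.subtype)).rTensor Q z₀ := by
    rw [LinearMap.rTensor_comp_apply, LinearMap.rTensor_comp_apply, hz, ← LinearMap.rTensor_comp_apply]
    congr 2
  rw [LinearMap.rTensor_comp_apply, e, ← LinearMap.rTensor_comp_apply,
    show K'.mkQ ∘ₗ (r.comp ((LinearMap.ker g).subtype.comp K₀.subtype)) = 0 from
      LinearMap.ext fun k => (Submodule.Quotient.mk_eq_zero K').2 ⟨k.1, k.2, rfl⟩,
    LinearMap.rTensor_zero, LinearMap.zero_apply]

/-- A universally injective map with finitely presented cokernel splits. -/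
theorem exists_section {M₁ M₂ M₃ : Type u} [AddCommGroup M₁] [Module R M₁] [AddCommGroup M₂] [Module R M₂]
    [AddCommGroup M₃] [Module R M₃] [Module.FinitePresentation R M₃] (f : M₁ →ₗ[R] M₂) (g : M₂ →ₗ[R] M₃)
    (hexact : Function.Exact f g) (hg : Function.Surjective g) (hf : CAlgX.UniversallyInjective R f) :
    ∃ s : M₃ →ₗ[R] M₂, g.comp s = LinearMap.id := by
  classical
  obtain ⟨n, K, e, hK⟩ := Module.FinitePresentation.exists_fin R M₃
  obtain ⟨m, a, ha⟩ := Submodule.fg_iff_exists_fin_generating_family.1 hK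
  let π : (Fin n → R) →ₗ[R] M₃ := e.symm.toLinearMap.comp K.mkQ
  obtain ⟨ψ, hψ⟩ := Module.projective_lifting_property g π hg
  have hπa : ∀ j, g (ψ (a j)) = 0 := fun j => by
    rw [← LinearMap.comp_apply, hψ]
    change e.symm (K.mkQ (a j)) = 0
    rw [Submodule.mkQ_apply, (Submodule.Quotient.mk_eq_zero K).2 (ha.le (Submodule.subset_span ⟨j, rfl⟩)), map_zero]
  choose x hx using fun j => (hexact (ψ (a j))).1 (hπa j)
  let At : (Fin n → R) →ₗ[R] (Fin m → R) := LinearMap.pi fun j => Fintype.linearCombination R (a j)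
  let E : Fin m → (Fin m → R) := fun j => Pi.single j 1
  let q := (LinearMap.range At).mkQ
  have hbas : ∀ k, ψ (Pi.single k 1) ⊗ₜ[R] (∑ j, a j k • q (E j)) = 0 := by
    intro k
    have : (∑ j, a j k • E j) = At (Pi.single k 1) := by
      funext j
      simp [E, At, Fintype.linearCombination_apply, Pi.single_apply]
    simp only [← map_smul, ← map_sum, this]
    rw [show q (At (Pi.single k 1)) = 0 from (Submodule.Quotient.mk_eq_zero _).2 ⟨_, rfl⟩, tmul_zero]
  have hw : (∑ j, x j ⊗ₜ[R] q (E j)) = 0 := by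
    refine hf _ ?_
    rw [map_zero, map_sum]
    have h1 : ∀ j, ψ (a j) = ∑ k, a j k • ψ (Pi.single k 1) := fun j => by
      conv_lhs => rw [← (Pi.basisFun R (Fin n)).sum_repr (a j)]
      simp [map_sum]
    simp only [LinearMap.rTensor_tmul, hx, h1, sum_tmul, smul_tmul]
    rw [Finset.sum_comm]
    exact Finset.sum_eq_zero fun k _ => by rw [← tmul_sum, hbas]
  have hw' : q.lTensor M₁ (∑ j, x j ⊗ₜ[R] E j) = 0 := by
    rw [map_sum]; exact hw
  obtain ⟨z, hz⟩ := (lTensor_exact M₁ (LinearMap.exact_map_mkQ_range At) (Submodule.mkQ_surjective _) _).1 hw'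
  obtain ⟨c, hc⟩ := exists_sum_tmul (fun k => Pi.single (M := fun _ : Fin n => R) k 1)
    ((congrArg (Submodule.span R) (congrArg Set.range (funext fun k => (Pi.basisFun_apply R (Fin n) k).symm))).trans
      (Pi.basisFun R (Fin n)).span_eq)
    (TensorProduct.comm R M₁ (Fin n → R) z)
  have hxc : ∀ j, x j = ∑ k, a j k • c k := by
    intro j
    have h2 := congrArg ((TensorProduct.rid R M₁).toLinearMap ∘ₗ LinearMap.lTensor M₁ (LinearMap.proj j)) hz
    rw [show z = (TensorProduct.comm R M₁ (Fin n → R)).symm (∑ k, Pi.single k 1 ⊗ₜ c k) from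
      ((TensorProduct.comm R M₁ (Fin n → R)).eq_symm_apply).2 hc] at h2
    simpa [E, At, Fintype.linearCombination_apply, Pi.single_apply] using h2.symm
  let ψ' : (Fin n → R) →ₗ[R] M₂ := ψ - f.comp (Fintype.linearCombination R c)
  have hK0 : K ≤ LinearMap.ker ψ' := by
    rw [← ha, Submodule.span_le]
    rintro _ ⟨j, rfl⟩
    change ψ (a j) - f (Fintype.linearCombination R c (a j)) = 0
    rw [Fintype.linearCombination_apply, ← hxc, hx, sub_self]
  refine ⟨(K.liftQ ψ' hK0).comp e.toLinearMap, LinearMap.ext fun y => ?_⟩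
  obtain ⟨v, hv⟩ := K.mkQ_surjective (e y)
  change g ((K.liftQ ψ' hK0) (e y)) = y
  rw [← hv, Submodule.mkQ_apply, Submodule.liftQ_apply]
  change g (ψ v - f _) = y
  rw [map_sub, hexact.apply_apply_eq_zero, sub_zero, ← LinearMap.comp_apply, hψ]
  change e.symm (K.mkQ v) = y
  rw [hv, e.symm_apply_apply]

theorem dominates_iff_finitePresentation {M N M' : Type u}
    [AddCommGroup M] [Module R M] [AddCommGroup N] [Module R N] [AddCommGroup M'] [Module R M']
    (f : M →ₗ[R] N) (g : M →ₗ[R] M') :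
    (∀ (Q : Type u) [AddCommGroup Q] [Module R Q], LinearMap.ker (f.rTensor Q) ≤ LinearMap.ker (g.rTensor Q)) ↔
      ∀ (Q : Type u) [AddCommGroup Q] [Module R Q], Module.FinitePresentation R Q →
        LinearMap.ker (f.rTensor Q) ≤ LinearMap.ker (g.rTensor Q) := by
  refine ⟨fun h Q _ _ _ => h Q, fun h Q _ _ x hx => ?_⟩
  classical
  rw [LinearMap.mem_ker] at hx ⊢
  obtain ⟨S, rfl⟩ := TensorProduct.exists_finset x
  let p : (S → R) →ₗ[R] Q := Fintype.linearCombination R fun i : S => i.1.2
  let x' : M ⊗[R] (S → R) := ∑ i : S, i.1.1 ⊗ₜ Pi.single i 1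
  have hp : p.lTensor M x' = ∑ i ∈ S, i.1 ⊗ₜ[R] i.2 := by
    rw [← Finset.sum_coe_sort S, map_sum]
    exact Finset.sum_congr rfl fun i _ => by simp [p, Fintype.linearCombination_apply_single]
  let y : (S → R) ⊗[R] N := TensorProduct.comm R N (S → R) (f.rTensor (S → R) x')
  have hy : p.rTensor N y = 0 := by
    have hcomm : ∀ w, p.rTensor N (TensorProduct.comm R N (S → R) w) = TensorProduct.comm R N Q (p.lTensor N w) := by
      intro w
      induction w with
      | zero => simp
      | add a b ha hb => simp [ha, hb]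
      | tmul a b => rfl
    rw [hcomm, ← LinearMap.comp_apply, LinearMap.lTensor_comp_rTensor, ← LinearMap.rTensor_comp_lTensor,
      LinearMap.comp_apply, hp, hx, map_zero]
  obtain ⟨Q', _, _, hQ', p', h', hph, hy'⟩ := exists_factor p y hy
  have hfx : f.rTensor Q' (p'.lTensor M x') = 0 := by
    have hcomm : ∀ w, p'.rTensor N (TensorProduct.comm R N (S → R) w) = TensorProduct.comm R N Q' (p'.lTensor N w) := by
      intro w
      induction w with
      | zero => simp
      | add a b ha hb => simp [ha, hb]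
      | tmul a b => rfl
    rw [hcomm, LinearEquiv.map_eq_zero_iff, ← LinearMap.comp_apply, LinearMap.lTensor_comp_rTensor] at hy'
    rwa [← LinearMap.comp_apply, LinearMap.rTensor_comp_lTensor]
  have hgx : g.rTensor Q' (p'.lTensor M x') = 0 := h Q' hQ' hfx
  rw [← hp, hph, LinearMap.lTensor_comp_apply, ← LinearMap.comp_apply, LinearMap.rTensor_comp_lTensor,
    ← LinearMap.lTensor_comp_rTensor, LinearMap.comp_apply, hgx, map_zero]

theorem dominates_iff_factors {M N M' : Type u}
    [AddCommGroup M] [Module R M] [AddCommGroup N] [Module R N] [AddCommGroup M'] [Module R M']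
    (f : M →ₗ[R] N) (g : M →ₗ[R] M') [Module.FinitePresentation R (N ⧸ LinearMap.range f)] :
    (∀ (Q : Type u) [AddCommGroup Q] [Module R Q], LinearMap.ker (f.rTensor Q) ≤ LinearMap.ker (g.rTensor Q)) ↔
      ∃ h : N →ₗ[R] M', g = h ∘ₗ f := by
  refine ⟨fun h => ?_, ?_⟩
  · rw [dominates_iff_ui] at h
    let W := LinearMap.range (g.prod (-f))
    let i := W.mkQ ∘ₗ LinearMap.inl R M' N
    let π : ((M' × N) ⧸ W) →ₗ[R] N ⧸ LinearMap.range f :=
      W.liftQ ((LinearMap.range f).mkQ ∘ₗ LinearMap.snd R M' N) (by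
        rintro _ ⟨m, rfl⟩
        exact (Submodule.Quotient.mk_eq_zero _).2 (neg_mem ⟨m, rfl⟩))
    have hπ : Function.Surjective π := fun q => by
      obtain ⟨v, rfl⟩ := Submodule.mkQ_surjective _ q
      exact ⟨W.mkQ (0, v), rfl⟩
    have hex : Function.Exact i π := by
      intro q
      obtain ⟨⟨a, v⟩, rfl⟩ := W.mkQ_surjective q
      constructor
      · intro hq
        obtain ⟨m, hm⟩ := (Submodule.Quotient.mk_eq_zero (LinearMap.range f)).1 hq
        have hm : f m = v := hm
        refine ⟨a + g m, (Submodule.Quotient.eq W).2 ⟨m, ?_⟩⟩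
        simp [← hm]
      · rintro ⟨b, hb⟩
        rw [← hb]
        change Submodule.Quotient.mk (0 : N) = 0
        rfl
    obtain ⟨s, hs⟩ := exists_section i π hex hπ h
    have hinj : Function.Injective i := fun a b hab => by
      have h1 := h R (a₁ := a ⊗ₜ[R] (1 : R)) (a₂ := b ⊗ₜ[R] 1) (by simp only [LinearMap.rTensor_tmul]; exact congrArg (· ⊗ₜ[R] (1:R)) hab)
      simpa using congrArg (TensorProduct.rid R M') h1
    let j : N →ₗ[R] ((M' × N) ⧸ W) := W.mkQ ∘ₗ LinearMap.inr R M' N
    let d : N →ₗ[R] ((M' × N) ⧸ W) := j - s ∘ₗ (π ∘ₗ j)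
    have hd : ∀ v, d v ∈ LinearMap.range i := fun v => by
      refine (hex (d v)).1 ?_
      change π (j v - s (π (j v))) = 0
      rw [map_sub, ← LinearMap.comp_apply π s, hs, LinearMap.id_apply, sub_self]
    let ei := LinearEquiv.ofInjective i hinj
    refine ⟨ei.symm.toLinearMap.comp (LinearMap.codRestrict _ d hd), LinearMap.ext fun m => ?_⟩
    apply ei.injective
    rw [LinearMap.comp_apply, LinearMap.comp_apply, LinearEquiv.coe_coe, LinearEquiv.apply_symm_apply]
    refine Subtype.ext ?_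
    change i (g m) = j (f m) - s (π (j (f m)))
    have h0 : π (j (f m)) = 0 := (Submodule.Quotient.mk_eq_zero _).2 ⟨m, rfl⟩
    rw [h0, map_zero, sub_zero]
    exact (Submodule.Quotient.eq W).2 ⟨m, by simp⟩
  · rintro ⟨h, rfl⟩ Q _ _ x hx
    rw [LinearMap.mem_ker] at hx ⊢
    rw [LinearMap.rTensor_comp_apply, hx, map_zero]

end Groth.Agent.CAlgLow
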