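import Mathlib.RingTheory.Flat.Basic
import Mathlib.Algebra.Module.Torsion.Basic
import Mathlib.RingTheory.Flat.Stability
import Mathlib.RingTheory.Flat.Tensor
import Mathlib.LinearAlgebra.TensorProduct.Quotient
import Mathlib.LinearAlgebra.TensorProduct.RightExactness
import Mathlib.RingTheory.Filtration
import Mathlib.LinearAlgebra.Dual.Lemmas
import Mathlib.RingTheory.Ideal.GoingUp
import Mathlib.LinearAlgebra.DirectSum.Finsupp
import Mathlib.RingTheory.Localization.FractionRing
import Mathlib.RingTheory.Localization.Integer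
import Mathlib.RingTheory.Localization.Integral

/-!
# Descent of flatness along finite injective maps of Noetherian rings (Ferrand)
-/

set_option autoImplicit false

universe u

open TensorProduct

namespace Groth.Agent.CAlgLow.Ferrand

variable {R : Type u} [CommRing R] (M : Type u) [AddCommGroup M] [Module R M]

theorem inj_of_flat {T : Type u} [CommRing T] [Algebra R T] (hT : Module.Flat T (T ⊗[R] M))
    {A B : Type u} [AddCommGroup A] [Module R A] [Module T A] [IsScalarTower R T A]
    [AddCommGroup B] [Module R B] [Module T B] [IsScalarTower R T B]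
    (f : A →ₗ[T] B) (hf : Function.Injective f) : Function.Injective ((f.restrictScalars R).rTensor M) := by
  have h := Module.Flat.rTensor_preserves_injective_linearMap (M := T ⊗[R] M) f hf
  let eA := AlgebraTensorModule.cancelBaseChange R T T A M
  let eB := AlgebraTensorModule.cancelBaseChange R T T B M
  have hc : ∀ z, eB (f.rTensor (T ⊗[R] M) (eA.symm z)) = (f.restrictScalars R).rTensor M z := by
    intro z
    induction z with
    | zero => simp
    | tmul a m => simp [eA, eB]
    | add x y hx hy => simp only [map_add, hx, hy]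
  intro x y hxy
  rw [← hc, ← hc] at hxy
  exact eA.symm.injective (h (eB.injective hxy))

theorem exists_flat_cover (B : Type u) [AddCommGroup B] [Module R B] :
    ∃ (F : Type u) (_ : AddCommGroup F) (_ : Module R F), Module.Flat R F ∧
      ∃ q : F →ₗ[R] B, Function.Surjective q :=
  ⟨B →₀ R, inferInstance, inferInstance, inferInstance,
    Finsupp.linearCombination R id, Finsupp.linearCombination_id_surjective R B⟩

/-- `M` keeps injections of modules killed by `I` injective. -/
def RelInj (I : Ideal R) : Prop :=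
  ∀ (A B : Type u) [AddCommGroup A] [Module R A] [AddCommGroup B] [Module R B] (f : A →ₗ[R] B),
    Function.Injective f → (∀ i ∈ I, ∀ y : B, i • y = 0) → Function.Injective (f.rTensor M)

theorem relInj_of_flat {I : Ideal R} (h : Module.Flat (R ⧸ I) ((R ⧸ I) ⊗[R] M)) : RelInj M I := by
  intro A B _ _ _ _ f hf hB
  have hBt : Module.IsTorsionBySet R B (I : Set R) := fun y i => hB i i.2 y
  have hAt : Module.IsTorsionBySet R A (I : Set R) := fun y i => hf (by rw [map_smul, map_zero, hB i i.2])
  let := hBt.module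
  let := hAt.module
  have : IsScalarTower R (R ⧸ I) B := hBt.isScalarTower
  have : IsScalarTower R (R ⧸ I) A := hAt.isScalarTower
  let g : A →ₗ[R ⧸ I] B :=
    { toFun := f, map_add' := map_add f,
      map_smul' := fun c x => by
        obtain ⟨r, rfl⟩ := Ideal.Quotient.mk_surjective c
        exact map_smul f r x }
  exact inj_of_flat M h g hf

theorem RelInj.mono {I J : Ideal R} (h : RelInj M J) (hle : J ≤ I) : RelInj M I :=
  fun A B _ _ _ _ f hf hB => h A B f hf fun i hi => hB i (hle hi)

variable {M}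

theorem inj_of_smul_le {I : Ideal R} (hI : Function.Injective (I.subtype.rTensor M)) (hR : RelInj M I)
    {A B : Type u} [AddCommGroup A] [Module R A] [AddCommGroup B] [Module R B] (f : A →ₗ[R] B)
    (hf : Function.Injective f) (hIB : ∀ i ∈ I, ∀ y : B, i • y ∈ LinearMap.range f) :
    Function.Injective (f.rTensor M) := by
  classical
  obtain ⟨F, _, _, hFflat, q, hq⟩ := exists_flat_cover (R := R) B
  let A' : Submodule R F := (LinearMap.range f).comap q
  let j : F ⊗[R] I →ₗ[R] F := (TensorProduct.rid R _).toLinearMap ∘ₗ I.subtype.lTensor F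
  have hjA : ∀ w, j w ∈ A' := by
    intro w
    induction w with
    | zero => rw [map_zero]; exact zero_mem _
    | tmul x i =>
      show q (j (x ⊗ₜ i)) ∈ LinearMap.range f
      simp only [j, LinearMap.comp_apply, LinearMap.lTensor_tmul, LinearEquiv.coe_coe, TensorProduct.rid_tmul,
        Submodule.subtype_apply, map_smul]
      exact hIB i i.2 (q x)
    | add x y hx hy => rw [map_add]; exact add_mem hx hy
  let j' : F ⊗[R] I →ₗ[R] A' := j.codRestrict A' hjA
  -- `j ⊗ M` is injective
  have hjM : Function.Injective (j.rTensor M) := by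
    have h1 : Function.Injective ((I.subtype.rTensor M).lTensor F) :=
      Module.Flat.lTensor_preserves_injective_linearMap _ hI
    have hc : j.rTensor M = (((TensorProduct.assoc R F R M).symm ≪≫ₗ
        TensorProduct.congr (TensorProduct.rid R _) (LinearEquiv.refl R M)).toLinearMap ∘ₗ
        (I.subtype.rTensor M).lTensor F) ∘ₗ (TensorProduct.assoc R F I M).toLinearMap := by
      ext x i m
      simp [j]
    rw [hc]
    exact (((TensorProduct.assoc R F R M).symm ≪≫ₗ TensorProduct.congr (TensorProduct.rid R _) (LinearEquiv.refl R M)).injective.comp h1).comp (TensorProduct.assoc R F I M).injective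
  -- the inclusion of `A'` stays injective
  have hA' : Function.Injective (A'.subtype.rTensor M) := by
    rw [injective_iff_map_eq_zero]
    intro z hz
    let φ : (A' ⧸ LinearMap.range j') →ₗ[R] (F ⧸ LinearMap.range j) :=
      Submodule.mapQ _ _ A'.subtype (by rintro _ ⟨w, rfl⟩; exact ⟨w, rfl⟩)
    have hφ : Function.Injective φ := by
      rw [injective_iff_map_eq_zero]
      intro y hy
      obtain ⟨y, rfl⟩ := Submodule.Quotient.mk_surjective _ y
      rw [Submodule.mapQ_apply, Submodule.Quotient.mk_eq_zero] at hy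
      obtain ⟨w, hw⟩ := hy
      exact (Submodule.Quotient.mk_eq_zero _).2 ⟨w, Subtype.ext hw⟩
    have hkill : ∀ i ∈ I, ∀ y : F ⧸ LinearMap.range j, i • y = 0 := by
      intro i hi y
      obtain ⟨y, rfl⟩ := Submodule.Quotient.mk_surjective _ y
      rw [← Submodule.Quotient.mk_smul, Submodule.Quotient.mk_eq_zero]
      exact ⟨y ⊗ₜ ⟨i, hi⟩, by simp [j]⟩
    have h0 : φ.rTensor M ((LinearMap.range j').mkQ.rTensor M z) = 0 := by
      rw [← LinearMap.comp_apply, ← LinearMap.rTensor_comp,
        show φ ∘ₗ (LinearMap.range j').mkQ = (LinearMap.range j).mkQ ∘ₗ A'.subtype from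
          LinearMap.ext fun y => rfl, LinearMap.rTensor_comp, LinearMap.comp_apply, hz, map_zero]
    have h1 := (map_eq_zero_iff _ (hR _ _ φ hφ hkill)).1 h0
    obtain ⟨w, rfl⟩ := (rTensor_exact M (LinearMap.exact_map_mkQ_range j') (Submodule.mkQ_surjective _) z).1 h1
    rw [← LinearMap.comp_apply, ← LinearMap.rTensor_comp, show A'.subtype ∘ₗ j' = j from rfl] at hz
    rw [(map_eq_zero_iff _ hjM).1 hz, map_zero]
  -- descend to `A`
  let qA : A' →ₗ[R] A := (LinearEquiv.ofInjective f hf).symm.toLinearMap ∘ₗ (q.restrict (p := A') (q := LinearMap.range f) fun x hx => hx)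
  have hfq : f ∘ₗ qA = q ∘ₗ A'.subtype := LinearMap.ext fun x =>
    congrArg Subtype.val ((LinearEquiv.ofInjective f hf).apply_symm_apply ⟨q x, x.2⟩)
  have hqA : Function.Surjective qA := fun a => by
    obtain ⟨x, hx⟩ := hq (f a)
    exact ⟨⟨x, ⟨a, hx.symm⟩⟩, hf ((LinearMap.congr_fun hfq _).trans hx)⟩
  rw [injective_iff_map_eq_zero]
  intro z hz
  obtain ⟨z, rfl⟩ := LinearMap.rTensor_surjective M hqA z
  rw [← LinearMap.comp_apply, ← LinearMap.rTensor_comp, hfq, LinearMap.rTensor_comp, LinearMap.comp_apply] at hz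
  obtain ⟨k, hk⟩ := (rTensor_exact M (LinearMap.exact_subtype_ker_map q) hq _).1 hz
  let kA : LinearMap.ker q →ₗ[R] A' := (LinearMap.ker q).subtype.codRestrict A' fun x => by
    show q x ∈ LinearMap.range f
    rw [LinearMap.mem_ker.1 x.2]; exact zero_mem _
  have hzk : z = kA.rTensor M k := hA' (by
    rw [← LinearMap.comp_apply, ← LinearMap.rTensor_comp]; exact hk.symm)
  rw [hzk, ← LinearMap.comp_apply, ← LinearMap.rTensor_comp,
    show qA ∘ₗ kA = 0 from LinearMap.ext fun x => hf (by
      rw [LinearMap.zero_apply, map_zero]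
      exact (LinearMap.congr_fun hfq (kA x)).trans x.2), LinearMap.rTensor_zero, LinearMap.zero_apply]

/-- A torsion free module stays free of `a`-torsion after tensoring. -/
theorem smul_regular_tensor {a : R} (haM : ∀ m : M, a • m = 0 → m = 0) (hR : RelInj M (Ideal.span {a}))
    {J : Type u} [AddCommGroup J] [Module R J] (haJ : ∀ y : J, a • y = 0 → y = 0) {z : J ⊗[R] M}
    (hz : a • z = 0) : z = 0 := by
  classical
  obtain ⟨F, _, _, hFflat, q, hq⟩ := exists_flat_cover (R := R) J
  let L := LinearMap.ker q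
  let aL : L →ₗ[R] L := a • LinearMap.id
  let aF : F →ₗ[R] F := a • LinearMap.id
  obtain ⟨z, rfl⟩ := LinearMap.rTensor_surjective M hq z
  rw [← map_smul] at hz
  obtain ⟨l, hl⟩ := (rTensor_exact M (LinearMap.exact_subtype_ker_map q) hq _).1 hz
  let φ : (L ⧸ LinearMap.range aL) →ₗ[R] (F ⧸ LinearMap.range aF) :=
    Submodule.mapQ _ _ L.subtype (by rintro _ ⟨w, rfl⟩; exact ⟨w.1, rfl⟩)
  have hφ : Function.Injective φ := by
    rw [injective_iff_map_eq_zero]
    intro y hy
    obtain ⟨⟨y, hyL⟩, rfl⟩ := Submodule.Quotient.mk_surjective _ y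
    rw [Submodule.mapQ_apply, Submodule.Quotient.mk_eq_zero] at hy
    obtain ⟨w, hw⟩ := hy
    have hwL : w ∈ L := haJ (q w) (by
      rw [← map_smul]
      exact (congrArg q (show a • w = y from hw)).trans hyL)
    exact (Submodule.Quotient.mk_eq_zero _).2 ⟨⟨w, hwL⟩, Subtype.ext hw⟩
  have hkill : ∀ i ∈ Ideal.span {a}, ∀ y : F ⧸ LinearMap.range aF, i • y = 0 := by
    intro i hi y
    obtain ⟨c, rfl⟩ := Ideal.mem_span_singleton.1 hi
    obtain ⟨y, rfl⟩ := Submodule.Quotient.mk_surjective _ y
    rw [← Submodule.Quotient.mk_smul, Submodule.Quotient.mk_eq_zero]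
    exact ⟨c • y, by simp [aF, mul_smul, smul_comm c a]⟩
  have h0 : φ.rTensor M ((LinearMap.range aL).mkQ.rTensor M l) = 0 := by
    rw [← LinearMap.comp_apply, ← LinearMap.rTensor_comp,
      show φ ∘ₗ (LinearMap.range aL).mkQ = (LinearMap.range aF).mkQ ∘ₗ L.subtype from LinearMap.ext fun y => rfl,
      LinearMap.rTensor_comp, LinearMap.comp_apply, hl, map_smul]
    generalize (LinearMap.range aF).mkQ.rTensor M z = w
    induction w with
    | zero => rw [smul_zero]
    | tmul y m => rw [smul_tmul', hkill a (Ideal.mem_span_singleton_self a) y, zero_tmul]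
    | add u v hu hv => rw [smul_add, hu, hv, add_zero]
  have h1 := (map_eq_zero_iff _ (hR _ _ φ hφ hkill)).1 h0
  obtain ⟨l', rfl⟩ := (rTensor_exact M (LinearMap.exact_map_mkQ_range aL) (Submodule.mkQ_surjective _) l).1 h1
  have hal : aL.rTensor M l' = a • l' := by simp [aL, LinearMap.rTensor_smul]
  rw [hal, map_smul] at hl
  have hzl : z = L.subtype.rTensor M l' := by
    have hm : Function.Injective ((a • LinearMap.id : M →ₗ[R] M).lTensor F) :=
      Module.Flat.lTensor_preserves_injective_linearMap _ ((injective_iff_map_eq_zero _).2 fun m hm => haM m hm)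
    apply hm
    simp only [LinearMap.lTensor_smul, LinearMap.lTensor_id, LinearMap.smul_apply, LinearMap.id_apply]
    exact hl.symm
  rw [hzl, ← LinearMap.comp_apply, ← LinearMap.rTensor_comp,
    show q ∘ₗ L.subtype = 0 from LinearMap.ext fun x => x.2, LinearMap.rTensor_zero, LinearMap.zero_apply]

variable {S : Type u} [CommRing S] [Algebra R S] (hS : Module.Flat S (S ⊗[R] M))

variable (hinj : Function.Injective (algebraMap R S))

include hS hinj in
/-- An ideal killed by an ideal modulo which `M` is relatively flat tensors injectively. -/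
theorem subtype_inj {I J : Ideal R} (hJ : RelInj M J) (hmul : ∀ j ∈ J, ∀ i ∈ I, j * i = 0) :
    Function.Injective (I.subtype.rTensor M) := by
  let IS : Ideal S := I.map (algebraMap R S)
  let g : I →ₗ[R] IS :=
    { toFun := fun i => ⟨algebraMap R S i, Ideal.mem_map_of_mem _ i.2⟩
      map_add' := fun a b => Subtype.ext (map_add _ _ _)
      map_smul' := fun r a => Subtype.ext (by simp [Algebra.smul_def]) }
  have hkill : ∀ j ∈ J, ∀ y : IS, j • y = 0 := by
    intro j hj y
    refine Subtype.ext ?_
    rw [Submodule.coe_smul_of_tower, ZeroMemClass.coe_zero, Algebra.smul_def]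
    obtain ⟨y, hy⟩ := y
    refine Submodule.span_induction (p := fun y _ => algebraMap R S j * y = 0) ?_ (mul_zero _) ?_ ?_ hy
    · rintro _ ⟨i, hi, rfl⟩
      rw [← map_mul, hmul j hj i hi, map_zero]
    · intro x y _ _ hx hy; rw [mul_add, hx, hy, add_zero]
    · intro s x _ hx; rw [smul_eq_mul, mul_left_comm, hx, mul_zero]
  have hISinj : Function.Injective ((IS.subtype.restrictScalars R).rTensor M) :=
    inj_of_flat M hS IS.subtype IS.injective_subtype
  have hcomp : (Algebra.linearMap R S) ∘ₗ I.subtype = (IS.subtype.restrictScalars R) ∘ₗ g := rfl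
  have hgi : Function.Injective g := fun x y h => Subtype.ext (hinj (congrArg Subtype.val h))
  rw [injective_iff_map_eq_zero]
  intro z hz
  refine (map_eq_zero_iff _ (hJ _ _ g hgi hkill)).1 (hISinj ?_)
  rw [map_zero, ← LinearMap.comp_apply, ← LinearMap.rTensor_comp, ← hcomp, LinearMap.rTensor_comp,
    LinearMap.comp_apply, hz, map_zero]

omit hinj in
include hS in
theorem flat_quot (Q : Ideal S) : Module.Flat (S ⧸ Q) ((S ⧸ Q) ⊗[R] M) :=
  Module.Flat.of_linearEquiv (AlgebraTensorModule.cancelBaseChange R S (S ⧸ Q) (S ⧸ Q) M).symm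

end Groth.Agent.CAlgLow.Ferrand

namespace Groth.Agent.CAlgLow.Ferrand

variable {R : Type u} [CommRing R] {M : Type u} [AddCommGroup M] [Module R M]

theorem exists_functional [IsDomain R] (S : Type u) [CommRing S] [IsDomain S] [Algebra R S] [Module.Finite R S]
    (hinj : Function.Injective (algebraMap R S)) : ∃ ψ : S →ₗ[R] R, ψ 1 ≠ 0 := by
  classical
  let f := LocalizedModule.mkLinearMap (nonZeroDivisors R) S
  have h1 : f 1 ≠ 0 := fun h => by
    obtain ⟨c, hc⟩ := (IsLocalizedModule.eq_zero_iff (nonZeroDivisors R) f).1 h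
    rw [Submonoid.smul_def, Algebra.smul_def, mul_one, ← map_zero (algebraMap R S)] at hc
    exact nonZeroDivisors.ne_zero c.2 (hinj hc)
  obtain ⟨φ, hφ⟩ : ∃ φ : LocalizedModule (nonZeroDivisors R) S →ₗ[FractionRing R] FractionRing R, φ (f 1) ≠ 0 := by
    by_contra h
    push Not at h
    exact h1 ((Module.forall_dual_apply_eq_zero_iff (FractionRing R) (f 1)).1 h)
  obtain ⟨T, hT⟩ := Module.finite_def.1 (inferInstance : Module.Finite R S)
  let ψ₀ : S →ₗ[R] FractionRing R := (φ.restrictScalars R) ∘ₗ f
  obtain ⟨c, hc⟩ := IsLocalization.exist_integer_multiples_of_finset (nonZeroDivisors R) (T.image ψ₀)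
  have hmem : ∀ x, ((c : R) • ψ₀) x ∈ LinearMap.range (Algebra.linearMap R (FractionRing R)) := by
    intro x
    have hx : x ∈ Submodule.span R (T : Set S) := hT ▸ Submodule.mem_top
    induction hx using Submodule.span_induction with
    | mem y hy => obtain ⟨r, hr⟩ := hc _ (Finset.mem_image_of_mem ψ₀ hy); exact ⟨r, hr⟩
    | zero => rw [map_zero]; exact zero_mem _
    | add u v _ _ hu hv => rw [map_add]; exact add_mem hu hv
    | smul r u _ hu => rw [map_smul]; exact Submodule.smul_mem _ r hu
  have hKinj : Function.Injective (Algebra.linearMap R (FractionRing R)) := IsFractionRing.injective R (FractionRing R)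
  let ψ : S →ₗ[R] R := (LinearEquiv.ofInjective _ hKinj).symm.toLinearMap ∘ₗ ((c : R) • ψ₀).codRestrict _ hmem
  refine ⟨ψ, fun h => hφ ?_⟩
  have h2 : algebraMap R (FractionRing R) (ψ 1) = (c : R) • φ (f 1) :=
    congrArg Subtype.val ((LinearEquiv.ofInjective _ hKinj).apply_symm_apply ⟨_, hmem 1⟩)
  rw [h, map_zero, eq_comm, Algebra.smul_def, mul_eq_zero] at h2
  exact h2.resolve_left fun h0 => nonZeroDivisors.ne_zero c.2 (hKinj (h0.trans (map_zero (algebraMap R _)).symm))

theorem flat_domain [IsDomain R] [IsNoetherianRing R] {S : Type u} [CommRing S] [IsDomain S] [Algebra R S]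
    [Module.Finite R S] (hinj : Function.Injective (algebraMap R S)) (hS : Module.Flat S (S ⊗[R] M))
    (hind : ∀ J : Ideal R, J ≠ ⊥ → (∃ Q : Ideal S, Q.comap (algebraMap R S) = J) → RelInj M J) :
    Module.Flat R M := by
  obtain ⟨ψ, hψ⟩ := exists_functional (R := R) S hinj
  set a := ψ 1 with ha
  -- kernels are killed by `a`
  have hkill : ∀ (J : Ideal R) (x : J ⊗[R] M), J.subtype.rTensor M x = 0 → a • x = 0 := by
    intro J x hx
    let JS : Ideal S := J.map (algebraMap R S)
    let g : J →ₗ[R] JS :=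
      { toFun := fun i => ⟨algebraMap R S i, Ideal.mem_map_of_mem _ i.2⟩
        map_add' := fun a b => Subtype.ext (map_add _ _ _)
        map_smul' := fun r a => Subtype.ext (by simp [Algebra.smul_def]) }
    have hψJ : ∀ y : JS, ψ (y : S) ∈ J := by
      intro y
      have : ∀ s : S, ψ (s * (y : S)) ∈ J := by
        refine Submodule.span_induction (p := fun y _ => ∀ s : S, ψ (s * y) ∈ J) ?_ ?_ ?_ ?_ y.2
        · rintro _ ⟨i, hi, rfl⟩ s
          rw [mul_comm, ← Algebra.smul_def, map_smul]
          exact J.mul_mem_right _ hi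
        · intro s; rw [mul_zero, map_zero]; exact zero_mem _
        · intro u v _ _ hu hv s; rw [mul_add, map_add]; exact add_mem (hu s) (hv s)
        · intro r u _ hu s; rw [smul_eq_mul, ← mul_assoc]; exact hu _
      simpa using this 1
    let h : JS →ₗ[R] J := (ψ ∘ₗ (JS.subtype.restrictScalars R)).codRestrict J hψJ
    have hg : h ∘ₗ g = a • LinearMap.id := LinearMap.ext fun i => Subtype.ext (by
      show ψ (algebraMap R S i) = a * (i : R)
      rw [Algebra.algebraMap_eq_smul_one, map_smul, smul_eq_mul, mul_comm, ha])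
    have hISinj : Function.Injective ((JS.subtype.restrictScalars R).rTensor M) :=
      inj_of_flat M hS JS.subtype JS.injective_subtype
    have h0 : g.rTensor M x = 0 := hISinj (by
      rw [map_zero, ← LinearMap.comp_apply, ← LinearMap.rTensor_comp,
        show (JS.subtype.restrictScalars R) ∘ₗ g = (Algebra.linearMap R S) ∘ₗ J.subtype from rfl,
        LinearMap.rTensor_comp, LinearMap.comp_apply, hx, map_zero])
    have h2 := congrArg (fun f : J →ₗ[R] J => f.rTensor M x) hg
    simp only [LinearMap.rTensor_comp, LinearMap.comp_apply, h0, map_zero, LinearMap.rTensor_smul,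
      LinearMap.rTensor_id, LinearMap.smul_apply, LinearMap.id_apply] at h2
    exact h2.symm
  -- torsion is killed by `a`
  have htor : ∀ (b : R), b ≠ 0 → ∀ m : M, b • m = 0 → a • m = 0 := by
    intro b hb m hm
    let e : R ≃ₗ[R] Ideal.span ({b} : Set R) := LinearEquiv.toSpanNonzeroSingleton R R b hb
    have h1 : (Ideal.span ({b} : Set R)).subtype.rTensor M (e 1 ⊗ₜ m) = 0 := by
      rw [LinearMap.rTensor_tmul, Submodule.subtype_apply]
      have : ((e 1 : Ideal.span ({b} : Set R)) : R) = b • (1 : R) := by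
        simp [e, LinearEquiv.toSpanNonzeroSingleton_apply]
      rw [this, smul_tmul, hm, tmul_zero]
    have h2 := congrArg (fun z => TensorProduct.lid R M (e.symm.toLinearMap.rTensor M z)) (hkill _ _ h1)
    simpa using h2
  -- Artin-Rees
  have ha0 : a ≠ 0 := hψ
  obtain ⟨k, hk⟩ := (Ideal.span {a}).exists_pow_inf_eq_pow_smul (M := S) (LinearMap.range (Algebra.linearMap R S))
  let J : Ideal R := ((Ideal.span {a} ^ (k + 2)).map (algebraMap R S)).comap (algebraMap R S)
  have hJ2 : J ≤ Ideal.span {a ^ 2} := by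
    intro x hx
    have hxS : algebraMap R S x ∈ Ideal.span {a} ^ (k + 2) • (⊤ : Submodule R S) ⊓ LinearMap.range (Algebra.linearMap R S) := by
      refine ⟨?_, x, rfl⟩
      rw [Ideal.smul_top_eq_map]
      exact hx
    rw [hk (k + 2) (by omega), show k + 2 - k = 2 by omega, Ideal.span_singleton_pow] at hxS
    have h1 := smul_mono_right (Ideal.span {a ^ 2}) (inf_le_right (a := Ideal.span {a} ^ k • (⊤ : Submodule R S))) hxS
    rw [Submodule.ideal_span_singleton_smul, Submodule.mem_smul_pointwise_iff_exists] at h1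
    obtain ⟨_, ⟨r, rfl⟩, hy⟩ := h1
    exact Ideal.mem_span_singleton.2 ⟨r, hinj (by rw [← hy]; simp [Algebra.smul_def])⟩
  have hJmem : a ^ (k + 2) ∈ J := Ideal.mem_map_of_mem _ (Ideal.pow_mem_pow (Ideal.mem_span_singleton_self a) _)
  have hJ0 : J ≠ ⊥ := fun h => pow_ne_zero _ ha0 (by rw [h] at hJmem; exact hJmem)
  have hRJ : RelInj M J := hind J hJ0 ⟨_, rfl⟩
  have haM : ∀ m : M, a • m = 0 → m = 0 := by
    intro m hm
    -- `m` is divisible by `a`
    let mul : (R ⧸ J.colon {a}) →ₗ[R] R ⧸ J := Submodule.mapQ _ _ (a • LinearMap.id) (fun x hx => by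
      rw [Submodule.mem_comap, LinearMap.smul_apply, LinearMap.id_apply, smul_eq_mul, mul_comm, ← smul_eq_mul]
      exact Submodule.mem_colon_singleton.1 hx)
    have hmul : Function.Injective mul := by
      rw [injective_iff_map_eq_zero]
      intro y hy
      obtain ⟨y, rfl⟩ := Submodule.Quotient.mk_surjective _ y
      rw [Submodule.mapQ_apply, Submodule.Quotient.mk_eq_zero] at hy
      refine (Submodule.Quotient.mk_eq_zero _).2 (Submodule.mem_colon_singleton.2 ?_)
      rw [smul_eq_mul, mul_comm]
      exact hy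
    have hk : ∀ i ∈ J, ∀ y : R ⧸ J, i • y = 0 := fun i hi y => by
      obtain ⟨y, rfl⟩ := Submodule.Quotient.mk_surjective _ y
      exact (Submodule.Quotient.mk_eq_zero _).2 (J.mul_mem_right y hi)
    have h1 : (Submodule.Quotient.mk (1 : R) : R ⧸ J.colon {a}) ⊗ₜ[R] m = 0 := by
      refine (map_eq_zero_iff _ (hRJ _ _ mul hmul hk)).1 ?_
      rw [LinearMap.rTensor_tmul, Submodule.mapQ_apply, LinearMap.smul_apply, LinearMap.id_apply,
        Submodule.Quotient.mk_smul, smul_tmul, hm, tmul_zero]
    have h2 := congrArg (TensorProduct.quotTensorEquivQuotSMul M (J.colon {a})) h1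
    rw [map_zero] at h2
    have h3 : m ∈ J.colon {a} • (⊤ : Submodule R M) := by
      rw [← Submodule.Quotient.mk_eq_zero, ← h2]
      exact ((TensorProduct.quotTensorEquivQuotSMul_mk_tmul _ 1 m).trans (by rw [one_smul])).symm
    have h4 : J.colon {a} ≤ Ideal.span {a} := by
      intro x hx
      obtain ⟨r, hr⟩ := Ideal.mem_span_singleton.1 (hJ2 (Submodule.mem_colon_singleton.1 hx))
      refine Ideal.mem_span_singleton.2 ⟨r, mul_right_cancel₀ ha0 ?_⟩
      rw [smul_eq_mul] at hr
      rw [hr]; ring
    have h5 := Submodule.smul_mono_left h4 h3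
    rw [Submodule.ideal_span_singleton_smul, Submodule.mem_smul_pointwise_iff_exists] at h5
    obtain ⟨n, -, rfl⟩ := h5
    exact htor (a * a) (mul_ne_zero ha0 ha0) n (by rw [mul_smul]; exact hm)
  rw [Module.Flat.iff_rTensor_injective']
  intro X
  rw [injective_iff_map_eq_zero]
  intro x hx
  exact smul_regular_tensor haM (hRJ.mono M (hJ2.trans (Ideal.span_singleton_le_span_singleton.2 ⟨a, by ring⟩)))
    (fun y hy => Subtype.ext ((mul_eq_zero.1 (congrArg Subtype.val hy)).resolve_left ha0)) (hkill X x hx)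

theorem flat_of_relInj [IsNoetherianRing R] {S : Type u} [CommRing S] [Algebra R S]
    [Module.Finite R S] (hinj : Function.Injective (algebraMap R S)) (hS : Module.Flat S (S ⊗[R] M))
    (hind : ∀ J : Ideal R, J ≠ ⊥ → (∃ Q : Ideal S, Q.comap (algebraMap R S) = J) → RelInj M J) :
    Module.Flat R M := by
  classical
  rcases subsingleton_or_nontrivial R with hR | hR
  · have : Subsingleton M := Module.subsingleton R M
    infer_instance
  by_cases hdom : IsDomain R
  · have : Algebra.IsIntegral R S := Algebra.IsIntegral.of_finite R S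
    obtain ⟨q, -, hq, hqc⟩ := Ideal.exists_ideal_over_prime_of_isIntegral (R := R) (S := S) ⊥ ⊥
      (fun x hx => hinj (by rw [map_zero]; exact hx))
    have : IsDomain (S ⧸ q) := Ideal.Quotient.isDomain q
    have hinj' : Function.Injective (algebraMap R (S ⧸ q)) := by
      rw [injective_iff_map_eq_zero]
      intro x hx
      have : x ∈ q.comap (algebraMap R S) := Ideal.mem_comap.2 (Ideal.Quotient.eq_zero_iff_mem.1 (show Ideal.Quotient.mk q (algebraMap R S x) = 0 from hx))
      rwa [hqc] at this
    refine flat_domain hinj' (flat_quot (R := R) (M := M) hS q) fun J hJ ⟨Q, hQ⟩ => hind J hJ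
      ⟨Q.comap (Ideal.Quotient.mk q), ?_⟩
    rw [Ideal.comap_comap]
    exact hQ
  · obtain ⟨a, b, hab, ha, hb⟩ : ∃ a b : R, a * b = 0 ∧ a ≠ 0 ∧ b ≠ 0 := by
      by_contra h
      push Not at h
      have : NoZeroDivisors R := ⟨fun {x y} hxy => or_iff_not_imp_left.2 fun hx => h x y hxy hx⟩
      exact hdom (NoZeroDivisors.to_isDomain R)
    let I : Ideal R := (⊥ : Ideal R).colon {a}
    let J : Ideal R := (⊥ : Ideal R).colon (I : Set R)
    have hI : ∀ {i : R}, i ∈ I ↔ i * a = 0 := fun {i} => by
      simp only [I, Submodule.mem_colon_singleton, Submodule.mem_bot, smul_eq_mul]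
    have hJ : ∀ {j : R}, j ∈ J ↔ ∀ i ∈ I, j * i = 0 := fun {j} => by
      simp only [J, Submodule.mem_colon, Submodule.mem_bot, smul_eq_mul, SetLike.mem_coe]
    have hI0 : I ≠ ⊥ := fun h => hb (by
      have : b ∈ I := hI.2 (by rw [mul_comm]; exact hab)
      rwa [h] at this)
    have hJ0 : J ≠ ⊥ := fun h => ha (by
      have : a ∈ J := hJ.2 fun i hi => by rw [mul_comm]; exact hI.1 hi
      rwa [h] at this)
    have hIc : ∃ Q : Ideal S, Q.comap (algebraMap R S) = I := ⟨(⊥ : Ideal S).colon {algebraMap R S a}, by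
      ext i
      rw [Ideal.mem_comap, Submodule.mem_colon_singleton, Submodule.mem_bot, smul_eq_mul, ← map_mul,
        map_eq_zero_iff _ hinj, hI]⟩
    have hJc : ∃ Q : Ideal S, Q.comap (algebraMap R S) = J := ⟨(⊥ : Ideal S).colon (algebraMap R S '' I), by
      ext j
      simp only [Ideal.mem_comap, Submodule.mem_colon, Submodule.mem_bot, smul_eq_mul, Set.forall_mem_image,
        SetLike.mem_coe, ← map_mul, map_eq_zero_iff _ hinj, hJ]⟩
    have hRI : RelInj M I := hind I hI0 hIc
    have hRJ : RelInj M J := hind J hJ0 hJc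
    have hiI : Function.Injective (I.subtype.rTensor M) := subtype_inj hS hinj hRJ fun j hj i hi => hJ.1 hj i hi
    have hiJ : Function.Injective (J.subtype.rTensor M) :=
      subtype_inj hS hinj hRI fun i hi j hj => by rw [mul_comm]; exact hJ.1 hj i hi
    rw [Module.Flat.iff_rTensor_injective']
    intro X
    have h1 : Function.Injective ((Submodule.inclusion (le_sup_left : X ≤ X ⊔ I)).rTensor M) := by
      refine inj_of_smul_le hiJ hRJ _ (Submodule.inclusion_injective _) fun j hj y => ?_
      obtain ⟨x, hx, i, hi, hxi⟩ := Submodule.mem_sup.1 y.2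
      refine ⟨⟨j * x, X.mul_mem_left j hx⟩, Subtype.ext ?_⟩
      show j * x = j * (y : R)
      rw [← hxi, mul_add, hJ.1 hj i hi, add_zero]
    have h2 : Function.Injective ((X ⊔ I).subtype.rTensor M) :=
      inj_of_smul_le hiI hRI _ (Submodule.injective_subtype _) fun i hi y =>
        ⟨⟨i * y, Submodule.mem_sup_right (I.mul_mem_right y hi)⟩, rfl⟩
    rw [← Submodule.subtype_comp_inclusion X (X ⊔ I) le_sup_left, LinearMap.rTensor_comp]
    exact h2.comp h1

theorem RelInj.baseChange {R' : Type u} [CommRing R'] [Algebra R R'] {J : Ideal R} {J' : Ideal R'}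
    (h : RelInj M J) (hle : J.map (algebraMap R R') ≤ J') : RelInj (R' ⊗[R] M) J' := by
  intro A B _ _ _ _ f hf hB
  let : Module R A := Module.compHom A (algebraMap R R')
  let : Module R B := Module.compHom B (algebraMap R R')
  have : IsScalarTower R R' A := IsScalarTower.of_algebraMap_smul fun r x => rfl
  have : IsScalarTower R R' B := IsScalarTower.of_algebraMap_smul fun r x => rfl
  have h1 := h A B (f.restrictScalars R) hf fun j hj y => hB _ (hle (Ideal.mem_map_of_mem _ hj)) y
  let eA := AlgebraTensorModule.cancelBaseChange R R' R' A M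
  let eB := AlgebraTensorModule.cancelBaseChange R R' R' B M
  have hc : ∀ z, eB (f.rTensor (R' ⊗[R] M) (eA.symm z)) = (f.restrictScalars R).rTensor M z := by
    intro z
    induction z with
    | zero => simp
    | tmul a m => simp [eA, eB]
    | add x y hx hy => simp only [map_add, hx, hy]
  intro x y hxy
  obtain ⟨x, rfl⟩ := eA.symm.surjective x
  obtain ⟨y, rfl⟩ := eA.symm.surjective y
  exact congrArg eA.symm (h1 (by rw [← hc, ← hc, hxy]))

/-- Flatness descends along a finite injective map of Noetherian rings (Ferrand). -/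
theorem flat_descent [IsNoetherianRing R] {S : Type u} [CommRing S] [Algebra R S]
    [Module.Finite R S] (hinj : Function.Injective (algebraMap R S)) (hS : Module.Flat S (S ⊗[R] M)) :
    Module.Flat R M := by
  suffices h : ∀ J : Ideal R, (∃ Q : Ideal S, Q.comap (algebraMap R S) = J) →
      Module.Flat (R ⧸ J) ((R ⧸ J) ⊗[R] M) from
    flat_of_relInj hinj hS fun J _ hJ => relInj_of_flat M (h J hJ)
  intro J
  induction J using IsNoetherian.induction with
  | hgt J ih =>
    rintro ⟨Q, hQ⟩
    let : Algebra (R ⧸ J) (S ⧸ Q) := (Ideal.quotientMap Q (algebraMap R S) hQ.ge).toAlgebra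
    have : IsScalarTower R (R ⧸ J) (S ⧸ Q) := IsScalarTower.of_algebraMap_eq fun x => rfl
    have : Module.Finite (R ⧸ J) (S ⧸ Q) := Module.Finite.of_restrictScalars_finite R _ _
    have hinj' : Function.Injective (algebraMap (R ⧸ J) (S ⧸ Q)) := Ideal.quotientMap_injective' hQ.le
    have hS' : Module.Flat (S ⧸ Q) ((S ⧸ Q) ⊗[R ⧸ J] ((R ⧸ J) ⊗[R] M)) :=
      have := flat_quot (R := R) (M := M) hS Q
      Module.Flat.of_linearEquiv (AlgebraTensorModule.cancelBaseChange R (R ⧸ J) (S ⧸ Q) (S ⧸ Q) M)
    have : IsNoetherianRing (R ⧸ J) := isNoetherianRing_of_surjective R _ (Ideal.Quotient.mk J) Ideal.Quotient.mk_surjective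
    refine flat_of_relInj hinj' hS' fun J' hJ' ⟨Q', hQ'⟩ => ?_
    let J₂ : Ideal R := J'.comap (Ideal.Quotient.mk J)
    have hlt : J < J₂ := by
      refine lt_of_le_of_ne (fun x hx => ?_) fun h => hJ' ?_
      · rw [Ideal.mem_comap, Ideal.Quotient.eq_zero_iff_mem.2 hx]; exact zero_mem _
      · rw [← Ideal.map_comap_of_surjective _ Ideal.Quotient.mk_surjective J']
        exact (congrArg (Ideal.map (Ideal.Quotient.mk J)) h.symm).trans (Ideal.map_quotient_self J)
    have hc : ∃ Q₂ : Ideal S, Q₂.comap (algebraMap R S) = J₂ :=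
      ⟨Q'.comap (Ideal.Quotient.mk Q), show _ = J'.comap (Ideal.Quotient.mk J) by rw [← hQ']; rfl⟩
    exact (relInj_of_flat M (ih J₂ hlt hc)).baseChange (Ideal.map_le_iff_le_comap.2 le_rfl)

end Groth.Agent.CAlgLow.Ferrand
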