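import Groth.Agent.Lib.DMod.Homology
import Mathlib.Algebra.Category.ModuleCat.Projective
import Mathlib.Algebra.Category.ModuleCat.Abelian
import Mathlib.CategoryTheory.Abelian.Projective.Resolution
import Mathlib.CategoryTheory.Monoidal.Tor
import Mathlib.Algebra.Category.ModuleCat.Monoidal.Basic
import Mathlib.CategoryTheory.Monoidal.Preadditive
import Mathlib.RingTheory.Noetherian.Basic
import Mathlib.RingTheory.TensorProduct.Finite

/-!
# Resolutions by finite free modules
-/

universe u

noncomputable section

open CategoryTheory CategoryTheory.Limits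

namespace Groth.Agent.CAlgLow.FiniteRes

variable (R : Type u) [CommRing R]

/-- A free cover of a module by a finite free module. -/
structure Stage where
  carrier : ModuleCat.{u} R
  n : ℕ
  π : (Fin n → R) →ₗ[R] carrier
  surj : Function.Surjective π

variable {R} [IsNoetherianRing R]

/-- A chosen cover of a finite module. -/
def stageOf (N : ModuleCat.{u} R) (h : Module.Finite R N) : Stage R :=
  ⟨N, (Module.Finite.exists_fin' R N).choose, (Module.Finite.exists_fin' R N).choose_spec.choose,
    (Module.Finite.exists_fin' R N).choose_spec.choose_spec⟩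

variable (M : Type u) [AddCommGroup M] [Module R M] [Module.Finite R M]

/-- The covers of the syzygies. -/
def stage : ℕ → Stage R
  | 0 => stageOf (ModuleCat.of R M) (inferInstanceAs (Module.Finite R M))
  | k + 1 => stageOf (ModuleCat.of R (LinearMap.ker (stage k).π))
      (inferInstanceAs (Module.Finite R (LinearMap.ker (stage k).π)))

/-- The cover of a syzygy. -/
def πnext (k : ℕ) : (Fin (stage (R := R) M (k + 1)).n → R) →ₗ[R] LinearMap.ker (stage (R := R) M k).π :=
  (stage (R := R) M (k + 1)).π

theorem πnext_surj (k : ℕ) : Function.Surjective (πnext (R := R) M k) := (stage (R := R) M (k + 1)).surj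

/-- The differential. -/
def diff (k : ℕ) : (Fin (stage (R := R) M (k + 1)).n → R) →ₗ[R] (Fin (stage (R := R) M k).n → R) :=
  (LinearMap.ker (stage (R := R) M k).π).subtype ∘ₗ πnext M k

theorem range_diff (k : ℕ) : LinearMap.range (diff (R := R) M k) = LinearMap.ker (stage (R := R) M k).π := by
  rw [diff, LinearMap.range_comp, LinearMap.range_eq_top.2 (πnext_surj M k), Submodule.map_top]
  exact Submodule.range_subtype _

theorem ker_diff (k : ℕ) : LinearMap.ker (diff (R := R) M k) = LinearMap.ker (stage (R := R) M (k + 1)).π := by
  rw [diff, LinearMap.ker_comp_of_ker_eq_bot _ (Submodule.ker_subtype _)]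
  rfl

theorem diff_comp (k : ℕ) : diff (R := R) M k ∘ₗ diff M (k + 1) = 0 :=
  LinearMap.range_le_ker_iff.1 (by rw [range_diff, ker_diff])

/-- The complex. -/
def complex : ChainComplex (ModuleCat.{u} R) ℕ :=
  ChainComplex.of (fun k => ModuleCat.of R (Fin (stage (R := R) M k).n → R)) (fun k => ModuleCat.ofHom (diff M k))
    (fun k => ModuleCat.hom_ext (diff_comp M k))

theorem complex_d (k : ℕ) : (complex (R := R) M).d (k + 1) k = ModuleCat.ofHom (diff M k) :=
  (ChainComplex.of_d (fun k => ModuleCat.of R (Fin (stage (R := R) M k).n → R)) (fun k => ModuleCat.ofHom (diff M k)) k :)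

/-- The augmentation. -/
def toSingle : complex (R := R) M ⟶ (ChainComplex.single₀ (ModuleCat.{u} R)).obj (ModuleCat.of R M) :=
  ((complex M).toSingle₀Equiv _).symm ⟨ModuleCat.ofHom (stage (R := R) M 0).π, by
    rw [complex_d]
    exact ModuleCat.hom_ext (LinearMap.range_le_ker_iff.1 (range_diff M 0).le)⟩

theorem toSingle_f_zero : (toSingle (R := R) M).f 0 = ModuleCat.ofHom (stage (R := R) M 0).π :=
  ChainComplex.toSingle₀Equiv_symm_apply_f_zero _ _

theorem quasiIso_toSingle : QuasiIso (toSingle (R := R) M) := by
  rw [quasiIso_iff]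
  intro i
  cases i with
  | zero =>
    rw [quasiIsoAt_iff_isIso_homologyMap, ConcreteCategory.isIso_iff_bijective]
    refine DMod.homologyMap_bijective_of _ (ChainComplex.prev ℕ 0) ChainComplex.next_nat_zero ?_ ?_
    · intro x _
      obtain ⟨w, hw⟩ := (stage (R := R) M 0).surj x
      refine ⟨w, 0, by simp, ?_⟩
      rw [toSingle_f_zero, map_zero, add_zero]
      exact hw
    · intro w y _ hy
      rw [toSingle_f_zero] at hy
      have hw : (stage (R := R) M 0).π w = 0 := by
        refine hy.symm.trans ?_
        simp only [HomologicalComplex.single_obj_d]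
        rfl
      obtain ⟨v, hv⟩ : w ∈ LinearMap.range (diff (R := R) M 0) := range_diff (R := R) M 0 ▸ hw
      exact ⟨v, by rw [complex_d]; exact hv⟩
  | succ i =>
    rw [quasiIsoAt_iff_exactAt' _ _ (ChainComplex.exactAt_succ_single_obj ..), DMod.exactAt_iff_subsingleton,
      DMod.subsingleton_homology_iff (i := i + 2) (k := i) _ (ChainComplex.prev ℕ (i + 1)) (ChainComplex.next_nat_succ i)]
    intro x hx
    rw [complex_d] at hx
    have hx' : x ∈ LinearMap.ker (diff (R := R) M i) := hx
    obtain ⟨v, hv⟩ : x ∈ LinearMap.range (diff (R := R) M (i + 1)) := by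
      rw [range_diff, ← ker_diff]; exact hx'
    exact ⟨v, by rw [complex_d]; exact hv⟩

/-- The resolution. -/
def projRes : ProjectiveResolution (ModuleCat.of R M) where
  complex := complex M
  projective i := (IsProjective.iff_projective (R := R) (Fin (stage (R := R) M i).n → R)).1 inferInstance
  π := toSingle M
  quasiIso := quasiIso_toSingle M

theorem finite_free (i : ℕ) :
    Module.Finite R ((projRes (R := R) M).complex.X i) ∧ Module.Free R ((projRes (R := R) M).complex.X i) :=
  ⟨inferInstanceAs (Module.Finite R (Fin (stage (R := R) M i).n → R)),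
    inferInstanceAs (Module.Free R (Fin (stage (R := R) M i).n → R))⟩

theorem finite_tor (N : Type u) [AddCommGroup N] [Module R N] [Module.Finite R N] (p : ℕ) :
    Module.Finite R (((CategoryTheory.Tor (ModuleCat.{u} R) p).obj (ModuleCat.of R N)).obj (ModuleCat.of R M)) := by
  let F := MonoidalCategory.tensorLeft (ModuleCat.of R N)
  let C := (F.mapHomologicalComplex (ComplexShape.down ℕ)).obj (projRes (R := R) M).complex
  have hX : ∀ i, Module.Finite R (C.X i) := fun i =>
    inferInstanceAs (Module.Finite R (TensorProduct R N (Fin (stage (R := R) M i).n → R)))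
  have : Module.Finite R (C.homology p) := by
    let S := C.sc p
    have : Module.Finite R S.X₂ := hX p
    have : IsNoetherian R S.X₂ := isNoetherian_of_isNoetherianRing_of_finite R _
    have h2 : Module.Finite R (LinearMap.ker S.g.hom) := inferInstance
    have h3 : Module.Finite R S.moduleCatLeftHomologyData.H := by
      have hK : Module.Finite R S.moduleCatLeftHomologyData.K := h2
      exact Module.Finite.of_surjective S.moduleCatLeftHomologyData.π.hom (Submodule.mkQ_surjective _)
    exact Module.Finite.equiv S.moduleCatHomologyIso.toLinearEquiv.symm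
  have : Module.Finite R ((HomologicalComplex.homologyFunctor (ModuleCat.{u} R) (ComplexShape.down ℕ) p).obj C) := this
  exact Module.Finite.equiv ((projRes (R := R) M).isoLeftDerivedObj F p).toLinearEquiv.symm

end Groth.Agent.CAlgLow.FiniteRes
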