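import Mathlib.RingTheory.Flat.Basic
import Mathlib.RingTheory.Flat.Tensor
import Mathlib.RingTheory.Filtration
import Mathlib.RingTheory.Nakayama
import Mathlib.RingTheory.TensorProduct.Finite
import Mathlib.LinearAlgebra.TensorProduct.Tower
import Mathlib.LinearAlgebra.TensorProduct.Pi

/-!
# Flatness from quotients, by Krull's intersection theorem
-/

set_option autoImplicit false

universe u

open TensorProduct

namespace Groth.Agent.CAlgLow

variable {A B : Type u} [CommRing A] [CommRing B] [Algebra A B] {M : Type u} [AddCommGroup M] [Module B M]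
  [Module A M] [IsScalarTower A B M]

/-- The multiplication map `M ⊗ J → M`, linear over `B`. -/
noncomputable def mulMap (J : Ideal A) : M ⊗[A] J →ₗ[B] M :=
  (AlgebraTensorModule.rid A B M).toLinearMap ∘ₗ AlgebraTensorModule.lTensor B M J.subtype

theorem flat_of_mulMap_injective (h : ∀ J : Ideal A, J.FG → Function.Injective (mulMap (B := B) (M := M) J)) :
    Module.Flat A M :=
  Module.Flat.iff_lTensor_injective.2 fun J hJ => by
    intro a b hab
    exact h J hJ (congrArg (AlgebraTensorModule.rid A B M) hab)

theorem exists_lift_of_flat_quotient (N : Submodule B M) [Module.Flat A (M ⧸ N)] (J : Ideal A)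
    (x : M ⊗[A] J) (hx : mulMap (B := B) (M := M) J x ∈ N) : ∃ y : N ⊗[A] J, AlgebraTensorModule.rTensor A J N.subtype y = x := by
  refine (rTensor_exact (R := A) J (f := N.subtype.restrictScalars A) (g := N.mkQ.restrictScalars A)
    (LinearMap.exact_subtype_mkQ N) N.mkQ_surjective x).1 ?_
  refine Module.Flat.lTensor_preserves_injective_linearMap (M := M ⧸ N) J.subtype J.injective_subtype ?_
  apply (TensorProduct.rid A (M ⧸ N)).injective
  have e : ∀ z : M ⊗[A] J, TensorProduct.rid A (M ⧸ N) (J.subtype.lTensor (M ⧸ N) ((N.mkQ.restrictScalars A).rTensor J z)) =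
      N.mkQ (mulMap (B := B) (M := M) J z) := by
    intro z
    induction z with
    | zero => simp
    | add a b ha hb => simp only [map_add, ha, hb]
    | tmul m a => simp [mulMap]
  rw [e, map_zero, map_zero, Submodule.mkQ_apply, (Submodule.Quotient.mk_eq_zero N).2 hx]

theorem rTensor_mem_smul (I : Ideal B) (J : Ideal A) (y : (I • (⊤ : Submodule B M) : Submodule B M) ⊗[A] J) :
    AlgebraTensorModule.rTensor A J (I • (⊤ : Submodule B M) : Submodule B M).subtype y ∈ I • (⊤ : Submodule B (M ⊗[A] J)) := by
  induction y with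
  | zero => simp
  | add a b ha hb => rw [map_add]; exact add_mem ha hb
  | tmul v a =>
    have := Submodule.mem_map_of_mem (f := (AlgebraTensorModule.mk A B M J).flip a) v.2
    rw [Submodule.map_smul''] at this
    exact Submodule.smul_mono le_rfl le_top this

theorem finite_tensor [Module.Finite B M] (N : Type u) [AddCommGroup N] [Module A N] [Module.Finite A N] :
    Module.Finite B (M ⊗[A] N) := by
  obtain ⟨n, g, hg⟩ := Module.Finite.exists_fin' A N
  have : Module.Finite B (M ⊗[A] (Fin n → A)) :=
    Module.Finite.equiv (TensorProduct.piScalarRight A B M (Fin n)).symm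
  exact Module.Finite.of_surjective (AlgebraTensorModule.lTensor B M g) (LinearMap.lTensor_surjective M hg)

variable [IsNoetherianRing A] [IsNoetherianRing B] [IsLocalRing B] [Module.Finite B M]

theorem flat_of_flat_adic (I : Ideal B) (hI : I ≠ ⊤)
    (h : ∀ n : ℕ, Module.Flat A (M ⧸ (I ^ (n + 1) • (⊤ : Submodule B M)))) : Module.Flat A M := by
  refine flat_of_mulMap_injective (B := B) fun J hJ => ?_
  have : Module.Finite A J := .of_fg hJ
  have := finite_tensor (A := A) (B := B) (M := M) J
  rw [injective_iff_map_eq_zero]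
  intro x hx
  have hmem : x ∈ (⨅ n : ℕ, I ^ n • (⊤ : Submodule B (M ⊗[A] J))) := by
    simp only [Submodule.mem_iInf]
    intro n
    cases n with
    | zero => simp
    | succ n =>
      have := h n
      obtain ⟨y, hy⟩ := exists_lift_of_flat_quotient (I ^ (n + 1) • (⊤ : Submodule B M)) J x (by rw [hx]; exact zero_mem _)
      rw [← hy]
      exact rTensor_mem_smul _ _ _
  rw [Ideal.iInf_pow_smul_eq_bot_of_isLocalRing I hI] at hmem
  exact (Submodule.mem_bot B).1 hmem

theorem flat_of_flat_mod_elem (f : B) (hf : f ∈ IsLocalRing.maximalIdeal B) (hreg : IsSMulRegular M f)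
    (hflat : Module.Flat A (M ⧸ (Ideal.span {f} • (⊤ : Submodule B M)))) : Module.Flat A M := by
  refine flat_of_mulMap_injective (B := B) fun J hJ => ?_
  have : Module.Finite A J := .of_fg hJ
  have := finite_tensor (A := A) (B := B) (M := M) J
  have hK : LinearMap.ker (mulMap (B := B) (M := M) J) ≤ Ideal.span {f} • LinearMap.ker (mulMap (B := B) (M := M) J) := by
    intro x hx
    obtain ⟨y, hy⟩ := exists_lift_of_flat_quotient (Ideal.span {f} • (⊤ : Submodule B M)) J x
      (by rw [LinearMap.mem_ker.1 hx]; exact zero_mem _)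
    have h1 : x ∈ Ideal.span {f} • (⊤ : Submodule B (M ⊗[A] J)) := hy ▸ rTensor_mem_smul _ _ _
    rw [Submodule.ideal_span_singleton_smul] at h1
    obtain ⟨z, -, rfl⟩ := h1
    change f • z ∈ _
    refine Submodule.smul_mem_smul (Ideal.mem_span_singleton_self f) (LinearMap.mem_ker.2 (hreg ?_))
    change f • mulMap (B := B) (M := M) J z = f • (0 : M)
    rw [← map_smul, smul_zero]
    exact LinearMap.mem_ker.1 hx
  rw [← LinearMap.ker_eq_bot]
  exact Submodule.eq_bot_of_le_smul_of_le_jacobson_bot _ _ (IsNoetherian.noetherian _) hK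
    ((Ideal.span_singleton_le_iff_mem _).2 hf |>.trans (IsLocalRing.maximalIdeal_le_jacobson _))

end Groth.Agent.CAlgLow
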