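import Mathlib

/-! # Characters of general linear groups -/

set_option autoImplicit false
universe u v

open Matrix

namespace Groth.Agent.GLChar

section Elem

variable {B : Type u} [CommRing B] {ι : Type v} [Fintype ι] [DecidableEq ι]

/-- An elementary unit. -/
def tv (i j : ι) (h : i ≠ j) (c : B) : GL ι B :=
  ⟨transvection i j c, transvection i j (-c),
    by rw [transvection_mul_transvection_same i j h, add_neg_cancel, transvection_zero],
    by rw [transvection_mul_transvection_same i j h, neg_add_cancel, transvection_zero]⟩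

theorem dg_aux (i : ι) (x y : B) :
    diagonal (Pi.mulSingle i x) * diagonal (Pi.mulSingle i y) = diagonal (Pi.mulSingle i (x * y)) := by
  rw [diagonal_mul_diagonal, Pi.mulSingle_mul]
  rfl

/-- A diagonal unit. -/
def dg (i : ι) : Bˣ →* GL ι B where
  toFun u := ⟨diagonal (Pi.mulSingle i (u : B)), diagonal (Pi.mulSingle i ((u⁻¹ : Bˣ) : B)),
    by rw [dg_aux, Units.mul_inv, Pi.mulSingle_one, Pi.one_def, diagonal_one],
    by rw [dg_aux, Units.inv_mul, Pi.mulSingle_one, Pi.one_def, diagonal_one]⟩
  map_one' := Units.ext <| by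
    show diagonal (Pi.mulSingle i ((1 : Bˣ) : B)) = 1
    rw [Units.val_one, Pi.mulSingle_one, Pi.one_def, diagonal_one]
  map_mul' u v := Units.ext <| by
    show diagonal (Pi.mulSingle i ((u * v : Bˣ) : B)) = diagonal (Pi.mulSingle i (u : B)) * diagonal (Pi.mulSingle i (v : B))
    rw [dg_aux, Units.val_mul]

theorem det_dg (i : ι) (u : Bˣ) : GeneralLinearGroup.det (dg i u) = u := by
  refine Units.ext ?_
  show (diagonal (Pi.mulSingle i (u : B))).det = u
  rw [det_diagonal, Finset.prod_pi_mulSingle' i (u : B), if_pos (Finset.mem_univ i)]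

theorem map_tv {B' : Type u} [CommRing B'] (φ : B →+* B') (i j : ι) (h : i ≠ j) (c : B) :
    GeneralLinearGroup.map φ (tv i j h c) = tv i j h (φ c) := by
  refine Units.ext ?_
  show (transvection i j c).map φ = transvection i j (φ c)
  rw [transvection, Matrix.map_add _ (map_add φ), Matrix.map_one _ (map_zero φ) (map_one φ), Matrix.map_single]
  rfl

theorem map_dg {B' : Type u} [CommRing B'] (φ : B →+* B') (i : ι) (u : Bˣ) :
    GeneralLinearGroup.map φ (dg i u) = dg i (Units.map φ u) := by
  refine Units.ext ?_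
  show (diagonal (Pi.mulSingle i (u : B))).map φ = diagonal (Pi.mulSingle i (φ u))
  rw [diagonal_map (map_zero φ)]
  congr 1
  funext a
  simp only [Function.comp_apply, Pi.mulSingle_apply]
  split_ifs <;> simp

theorem dg_mul_tv (i j : ι) (h : i ≠ j) (u : Bˣ) (c : B) :
    dg i u * tv i j h c = tv i j h (u * c) * dg i u := by
  refine Units.ext ?_
  show diagonal (Pi.mulSingle i (u : B)) * transvection i j c = transvection i j (↑u * c) * diagonal (Pi.mulSingle i (u : B))
  rw [transvection, transvection, Matrix.mul_add, Matrix.add_mul, mul_one, one_mul]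
  congr 1
  ext a b
  rw [Matrix.diagonal_mul, Matrix.mul_diagonal, Matrix.single_apply, Matrix.single_apply]
  by_cases hab : i = a ∧ j = b
  · obtain ⟨rfl, rfl⟩ := hab
    simp [Pi.mulSingle_apply, h.symm]
  · simp [hab]

theorem exists_conj_dg (i j : ι) (u : Bˣ) : ∃ P : GL ι B, P * dg i u = dg j u * P := by
  have hs : swap B i j * swap B i j = 1 := by
    rw [swap, ← Matrix.permMatrix_mul, Equiv.swap_mul_self, Matrix.permMatrix_one]
  refine ⟨⟨swap B i j, swap B i j, hs, hs⟩, Units.ext ?_⟩
  show swap B i j * diagonal (Pi.mulSingle i (u : B)) = diagonal (Pi.mulSingle j (u : B)) * swap B i j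
  ext a b
  rw [Matrix.mul_diagonal, Matrix.diagonal_mul]
  simp only [swap, Equiv.Perm.permMatrix, PEquiv.toMatrix_apply,
    Equiv.toPEquiv_apply, Option.mem_def, Option.some.injEq]
  by_cases hab : Equiv.swap i j a = b
  · subst hab
    simp only [if_pos, one_mul, mul_one, Pi.mulSingle_apply]
    by_cases ha : a = j
    · subst ha; simp
    · have : Equiv.swap i j a ≠ i := fun h => ha ((Equiv.swap i j).injective (h.trans (Equiv.swap_apply_right i j).symm))
      simp [ha, this]
  · simp [hab]

end Elem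

section Loc

variable {B : Type u} [CommRing B] {C : Type u} [CommGroup C]

/-- Units of `Matrix ι ι B` under a reindexing. -/
def reGL {ι κ : Type} [Fintype ι] [DecidableEq ι] [Fintype κ] [DecidableEq κ] (e : ι ≃ κ) : GL ι B →* GL κ B :=
  Units.map (Matrix.reindexAlgEquiv B B e : Matrix ι ι B →* Matrix κ κ B)

/-- Upper unipotent block. -/
def upU {a : ℕ} : Multiplicative (Matrix (Fin a) (Fin 1) B) →* GL (Fin a ⊕ Fin 1) B where
  toFun X := ⟨fromBlocks 1 X.toAdd 0 1, fromBlocks 1 (-X.toAdd) 0 1,
    by rw [fromBlocks_multiply]; simp [fromBlocks_one], by rw [fromBlocks_multiply]; simp [fromBlocks_one]⟩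
  map_one' := Units.ext (by show fromBlocks 1 (0 : Matrix (Fin a) (Fin 1) B) 0 1 = 1; exact fromBlocks_one)
  map_mul' X Y := Units.ext (by
    show fromBlocks 1 (X.toAdd + Y.toAdd) 0 1 = fromBlocks 1 X.toAdd 0 1 * fromBlocks 1 Y.toAdd 0 1
    rw [fromBlocks_multiply]
    simp [add_comm])

/-- Lower unipotent block. -/
def loU {a : ℕ} : Multiplicative (Matrix (Fin 1) (Fin a) B) →* GL (Fin a ⊕ Fin 1) B where
  toFun X := ⟨fromBlocks 1 0 X.toAdd 1, fromBlocks 1 0 (-X.toAdd) 1,
    by rw [fromBlocks_multiply]; simp [fromBlocks_one], by rw [fromBlocks_multiply]; simp [fromBlocks_one]⟩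
  map_one' := Units.ext (by show fromBlocks 1 0 (0 : Matrix (Fin 1) (Fin a) B) 1 = 1; exact fromBlocks_one)
  map_mul' X Y := Units.ext (by
    show fromBlocks 1 0 (X.toAdd + Y.toAdd) 1 = fromBlocks 1 0 X.toAdd 1 * fromBlocks 1 0 Y.toAdd 1
    rw [fromBlocks_multiply]
    simp [add_comm])

/-- Embedding as upper left block. -/
def ulB {a : ℕ} : GL (Fin a) B →* GL (Fin a ⊕ Fin 1) B where
  toFun A := ⟨fromBlocks (A : Matrix (Fin a) (Fin a) B) 0 0 1, fromBlocks ((A⁻¹ : GL (Fin a) B) : Matrix (Fin a) (Fin a) B) 0 0 1,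
    by rw [fromBlocks_multiply]; simp [fromBlocks_one], by rw [fromBlocks_multiply]; simp [fromBlocks_one]⟩
  map_one' := Units.ext (by show fromBlocks (1 : Matrix (Fin a) (Fin a) B) 0 0 1 = 1; exact fromBlocks_one)
  map_mul' A A' := Units.ext (by
    show fromBlocks ((A * A' : GL (Fin a) B) : Matrix (Fin a) (Fin a) B) 0 0 1 = fromBlocks A.1 0 0 (1 : Matrix (Fin 1) (Fin 1) B) * fromBlocks A'.1 0 0 (1 : Matrix (Fin 1) (Fin 1) B)
    rw [fromBlocks_multiply]
    simp)

theorem f_upU {a : ℕ} (f : GL (Fin a ⊕ Fin 1) B →* C) (hf : ∀ i j h c, f (tv i j h c) = 1)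
    (X : Multiplicative (Matrix (Fin a) (Fin 1) B)) : f (upU X) = 1 := by
  induction X using Multiplicative.rec with
  | _ X =>
    induction X using Matrix.induction_on' with
    | h_zero => rw [show Multiplicative.ofAdd (0 : Matrix (Fin a) (Fin 1) B) = 1 from rfl, map_one, map_one]
    | h_add p q hp hq => rw [ofAdd_add, map_mul, map_mul, hp, hq, one_mul]
    | h_std_basis i j c =>
      refine Eq.trans (congrArg f (Units.ext ?_)) (hf (Sum.inl i) (Sum.inr j) Sum.inl_ne_inr c)
      show fromBlocks 1 (Matrix.single i j c) 0 1 = transvection (Sum.inl i) (Sum.inr j) c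
      ext (p | p) (q | q) <;> simp [transvection, Matrix.single_apply, Matrix.one_apply]

theorem f_loU {a : ℕ} (f : GL (Fin a ⊕ Fin 1) B →* C) (hf : ∀ i j h c, f (tv i j h c) = 1)
    (X : Multiplicative (Matrix (Fin 1) (Fin a) B)) : f (loU X) = 1 := by
  induction X using Multiplicative.rec with
  | _ X =>
    induction X using Matrix.induction_on' with
    | h_zero => rw [show Multiplicative.ofAdd (0 : Matrix (Fin 1) (Fin a) B) = 1 from rfl, map_one, map_one]
    | h_add p q hp hq => rw [ofAdd_add, map_mul, map_mul, hp, hq, one_mul]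
    | h_std_basis i j c =>
      refine Eq.trans (congrArg f (Units.ext ?_)) (hf (Sum.inr i) (Sum.inl j) Sum.inr_ne_inl c)
      show fromBlocks 1 0 (Matrix.single i j c) 1 = transvection (Sum.inr i) (Sum.inl j) c
      ext (p | p) (q | q) <;> simp [transvection, Matrix.single_apply, Matrix.one_apply]

variable [IsLocalRing B]

/-- Some row operation makes the corner a unit. -/
theorem exists_corner {a : ℕ} (M : GL (Fin a ⊕ Fin 1) B) :
    IsUnit (M.1 (Sum.inr 0) (Sum.inr 0)) ∨
      ∃ k : Fin a, IsUnit ((tv (Sum.inr 0) (Sum.inl k) Sum.inr_ne_inl (1 : B) * M : GL _ B).1 (Sum.inr 0) (Sum.inr 0)) := by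
  by_contra hcon
  push Not at hcon
  obtain ⟨h0, h1⟩ := hcon
  let r : Fin a ⊕ Fin 1 → IsLocalRing.ResidueField B := fun x => IsLocalRing.residue B (M.1 x (Sum.inr 0))
  have hr0 : r (Sum.inr 0) = 0 := (IsLocalRing.residue_eq_zero_iff _).2 h0
  have hr : ∀ x, r x = 0 := by
    rintro (k | k)
    · have h := h1 k
      have h' : IsLocalRing.residue B ((transvection (Sum.inr 0 : Fin a ⊕ Fin 1) (Sum.inl k) (1 : B) * M.1) (Sum.inr 0) (Sum.inr 0)) = 0 :=
        (IsLocalRing.residue_eq_zero_iff _).2 h
      rw [transvection_mul_apply_same, one_mul, map_add] at h'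
      change r (Sum.inr 0) + r (Sum.inl k) = 0 at h'
      rwa [hr0, zero_add] at h'
    · rw [show k = 0 from Subsingleton.elim _ _]
      exact hr0
  have h := congrArg (IsLocalRing.residue B) (congrFun (congrFun M.inv_mul (Sum.inr 0)) (Sum.inr 0))
  rw [Matrix.mul_apply, map_sum, Matrix.one_apply_eq, map_one] at h
  rw [Finset.sum_eq_zero (fun x _ => by rw [map_mul]; exact mul_eq_zero_of_right _ (hr x))] at h
  exact zero_ne_one h

theorem fin_case (a : ℕ) : ∀ (f : GL (Fin a) B →* C) (g : Bˣ →* C), (∀ i j h c, f (tv i j h c) = 1) →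
    (∀ i u, f (dg i u) = g u) → ∀ M, f M = g (GeneralLinearGroup.det M) := by
  induction a with
  | zero =>
    intro f g _ _ M
    rw [show M = 1 from Units.ext (Subsingleton.elim _ _), map_one, map_one, map_one]
  | succ a ih =>
    intro f₀ g h₀ hd₀
    let e : Fin a ⊕ Fin 1 ≃ Fin (a + 1) := finSumFinEquiv
    let f : GL (Fin a ⊕ Fin 1) B →* C := f₀.comp (reGL e)
    have hft : ∀ i j h c, f (tv i j h c) = 1 := fun i j h c => by
      refine Eq.trans (congrArg f₀ (Units.ext ?_)) (h₀ (e i) (e j) (e.injective.ne h) c)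
      show Matrix.reindexAlgEquiv B B e (transvection i j c) = transvection (e i) (e j) c
      ext p q
      rw [Matrix.reindexAlgEquiv_apply, Matrix.reindex_apply, Matrix.submatrix_apply, transvection, transvection]
      simp only [Matrix.add_apply, Matrix.one_apply, Matrix.single_apply, ← Equiv.eq_symm_apply, EmbeddingLike.apply_eq_iff_eq]
    have hfd : ∀ i u, f (dg i u) = g u := fun i u => by
      refine Eq.trans (congrArg f₀ (Units.ext ?_)) (hd₀ (e i) u)
      show Matrix.reindexAlgEquiv B B e (diagonal (Pi.mulSingle i (u : B))) = diagonal (Pi.mulSingle (e i) (u : B))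
      ext p q
      rw [Matrix.reindexAlgEquiv_apply, Matrix.reindex_apply, Matrix.submatrix_apply]
      simp only [Matrix.diagonal_apply, Pi.mulSingle_apply, EmbeddingLike.apply_eq_iff_eq, Equiv.symm_apply_eq]
    have hul : ∀ A : GL (Fin a) B, f (ulB A) = g (GeneralLinearGroup.det A) := ih (f.comp ulB) g
      (fun i j h c => Eq.trans (congrArg f (Units.ext (by
        show fromBlocks (transvection i j c) 0 0 1 = transvection (Sum.inl i) (Sum.inl j) c
        ext (p | p) (q | q) <;> simp [transvection, Matrix.single_apply, Matrix.one_apply]))) (hft (Sum.inl i) (Sum.inl j) (Sum.inl_injective.ne h) c))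
      (fun i u => Eq.trans (congrArg f (Units.ext (by
        show fromBlocks (diagonal (Pi.mulSingle i (u : B))) 0 0 1 = diagonal (Pi.mulSingle (Sum.inl i) (u : B))
        ext (p | p) (q | q) <;> simp [Matrix.diagonal_apply, Matrix.one_apply, Pi.mulSingle_apply]))) (hfd (Sum.inl i) u))
    have key : ∀ M : GL (Fin a ⊕ Fin 1) B, IsUnit (M.1 (Sum.inr 0) (Sum.inr 0)) →
        f M = g (GeneralLinearGroup.det M) := by
      intro M hM
      let A := M.1.toBlocks₁₁
      let P := M.1.toBlocks₁₂
      let Q := M.1.toBlocks₂₁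
      let D := M.1.toBlocks₂₂
      let d := hM.unit
      have hD : D = diagonal (fun _ => (d : B)) := by
        ext p q
        rw [Subsingleton.elim p 0, Subsingleton.elim q 0, diagonal_apply_eq]
        rfl
      haveI : Invertible D := ⟨diagonal (fun _ => ((d⁻¹ : Bˣ) : B)),
        by rw [hD, diagonal_mul_diagonal]; simp [diagonal_one],
        by rw [hD, diagonal_mul_diagonal]; simp [diagonal_one]⟩
      have hdec : M.1 = fromBlocks 1 (P * ⅟D) 0 1 * fromBlocks (A - P * ⅟D * Q) 0 0 D * fromBlocks 1 0 (⅟D * Q) 1 := by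
        rw [← fromBlocks_eq_of_invertible₂₂]
        exact (M.1.fromBlocks_toBlocks).symm
      let U := upU (Multiplicative.ofAdd (P * ⅟D))
      let L := loU (Multiplicative.ofAdd (⅟D * Q))
      let N : GL (Fin a ⊕ Fin 1) B := U⁻¹ * M * L⁻¹
      have hN : N.1 = fromBlocks (A - P * ⅟D * Q) 0 0 D := by
        show ((U⁻¹ : GL _ B) : Matrix _ _ B) * M.1 * ((L⁻¹ : GL _ B) : Matrix _ _ B) = _
        rw [hdec, show fromBlocks 1 (P * ⅟D) 0 1 = U.1 from rfl,
          show fromBlocks 1 0 (⅟D * Q) 1 = L.1 from rfl,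
          mul_assoc U.1, Units.inv_mul_cancel_left,
          mul_assoc, Units.mul_inv, mul_one]
      have hA : IsUnit (A - P * ⅟D * Q) := by
        rw [Matrix.isUnit_iff_isUnit_det]
        have := (Matrix.isUnit_iff_isUnit_det _).1 N.isUnit
        rw [hN, Matrix.det_fromBlocks_zero₂₁, IsUnit.mul_iff] at this
        exact this.1
      have hN' : N = ulB hA.unit * dg (Sum.inr 0) d := by
        refine Units.ext ?_
        show N.1 = fromBlocks (A - P * ⅟D * Q) 0 0 1 * diagonal (Pi.mulSingle (Sum.inr 0 : Fin a ⊕ Fin 1) (d : B))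
        rw [hN]
        generalize A - P * ⅟D * Q = Z
        rw [hD]
        ext (p | p) (q | q) <;>
          simp [Matrix.mul_diagonal, Pi.mulSingle_apply, Matrix.diagonal_apply, Fin.fin_one_eq_zero]
      have hMN : M = U * N * L := by simp only [N]; group
      rw [hMN, map_mul f, map_mul f, f_upU f hft, f_loU f hft, one_mul, mul_one, hN', map_mul f, hul, hfd,
        map_mul GeneralLinearGroup.det, map_mul GeneralLinearGroup.det, map_mul GeneralLinearGroup.det, det_dg]
      have hU : GeneralLinearGroup.det U = 1 := Units.ext (by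
        show (fromBlocks (1 : Matrix (Fin a) (Fin a) B) (P * ⅟D) 0 (1 : Matrix (Fin 1) (Fin 1) B)).det = 1
        simp)
      have hL : GeneralLinearGroup.det L = 1 := Units.ext (by
        show (fromBlocks (1 : Matrix (Fin a) (Fin a) B) 0 (⅟D * Q) (1 : Matrix (Fin 1) (Fin 1) B)).det = 1
        simp)
      have hul' : GeneralLinearGroup.det (ulB (B := B) hA.unit) = GeneralLinearGroup.det hA.unit := Units.ext (by
        show (fromBlocks (A - P * ⅟D * Q) 0 0 (1 : Matrix (Fin 1) (Fin 1) B)).det = (A - P * ⅟D * Q).det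
        simp)
      rw [hU, hL, hul', one_mul, mul_one, map_mul g]
    have hall : ∀ M : GL (Fin a ⊕ Fin 1) B, f M = g (GeneralLinearGroup.det M) := by
      intro M
      rcases exists_corner M with h | ⟨k, h⟩
      · exact key M h
      · have := key _ h
        rw [map_mul f, hft, one_mul, map_mul GeneralLinearGroup.det] at this
        rw [this]
        congr 1
        refine (mul_eq_right).2 (Units.ext ?_)
        exact det_transvection_of_ne _ _ Sum.inr_ne_inl 1
    intro M
    have hM : M = reGL e (reGL e.symm M) := Units.ext (by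
      show M.1 = Matrix.reindexAlgEquiv B B e (Matrix.reindexAlgEquiv B B e.symm M.1)
      simp)
    rw [hM]
    refine (hall _).trans (congrArg g (Units.ext ?_))
    exact (Matrix.det_reindexAlgEquiv B B e _).symm

end Loc

end Groth.Agent.GLChar
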