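import Mathlib.RingTheory.Ideal.KrullsHeightTheorem
import Mathlib.RingTheory.Jacobson.Ring

/-!
# Nonzero primes of a Noetherian domain with a nonzero ideal in all of them
-/

universe u

namespace Groth.Agent.CAlgLow

theorem mem_minimalPrimes_of_le_all {D : Type u} [CommRing D] [IsDomain D] [IsNoetherianRing D]
    {J : Ideal D} (hJ : J ≠ ⊥) (hall : ∀ q : Ideal D, q.IsPrime → q ≠ ⊥ → J ≤ q)
    {q : Ideal D} [q.IsPrime] (hq : q ≠ ⊥) : q ∈ J.minimalPrimes := by
  by_contra hqm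
  obtain ⟨T, hT⟩ := (Ideal.finite_minimalPrimes_of_isNoetherianRing D J).exists_finset_coe
  obtain ⟨P', hP', hP'q⟩ := Ideal.exists_minimalPrimes_le (hall q inferInstance hq)
  have hnot : ¬ (q : Set D) ⊆ ⋃ i ∈ (T : Set (Ideal D)), (i : Set D) := by
    intro h
    obtain ⟨P, hP, hqP⟩ := (Ideal.subset_union_prime (R := D) (f := id) P' P'
      (fun i hi _ _ => by
        have : i ∈ J.minimalPrimes := hT ▸ hi
        exact this.1.1)).1 h
    have hP : P ∈ J.minimalPrimes := hT ▸ hP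
    have heq : P' = P := le_antisymm (hP'q.trans hqP) (hP.2 hP'.1 (hP'q.trans hqP))
    exact hqm ((le_antisymm (show q ≤ P from hqP) (heq ▸ hP'q)) ▸ hP)
  obtain ⟨x, hxq, hxT⟩ := Set.not_subset.1 hnot
  obtain ⟨q', hq', hq'q⟩ := Ideal.exists_minimalPrimes_le ((Ideal.span_singleton_le_iff_mem _).2 hxq)
  have := hq'.1.1
  have hxP' : x ≠ 0 := fun h => hxT (Set.mem_biUnion (hT ▸ hP') (h ▸ P'.zero_mem))
  have hq'0 : q' ≠ ⊥ := fun h => hxP' (by simpa [h] using hq'.1.2 (Ideal.mem_span_singleton_self x))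
  obtain ⟨P, hP, hPq'⟩ := Ideal.exists_minimalPrimes_le (hall q' inferInstance hq'0)
  have := hP.1.1
  have hlt : P < q' := lt_of_le_of_ne hPq' fun h =>
    hxT (Set.mem_biUnion (hT ▸ hP) (h ▸ hq'.1.2 (Ideal.mem_span_singleton_self x)))
  have hPne : P ≠ ⊥ := fun h => hJ (le_bot_iff.1 (h ▸ hP.1.2))
  have h1 : q'.height ≤ 1 := Ideal.height_le_one_of_isPrincipal_of_mem_minimalPrimes (Ideal.span {x}) q' hq'
  have h2 : (⊥ : Ideal D).height < P.height := Ideal.height_strict_mono_of_isPrime (bot_lt_iff_ne_bot.2 hPne)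
  have h3 : P.height < q'.height := Ideal.height_strict_mono_of_isPrime hlt
  have h4 : P.height = 0 := by
    simpa using ENat.lt_one_iff_eq_zero.1 (h3.trans_le h1)
  exact not_lt_bot (h4 ▸ h2)

theorem finite_setOf_prime_ne_bot {D : Type u} [CommRing D] [IsDomain D] [IsNoetherianRing D]
    {J : Ideal D} (hJ : J ≠ ⊥) (hall : ∀ q : Ideal D, q.IsPrime → q ≠ ⊥ → J ≤ q) :
    {q : PrimeSpectrum D | q.asIdeal ≠ ⊥}.Finite :=
  ((Ideal.finite_minimalPrimes_of_isNoetherianRing D J).preimage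
    (fun a _ b _ h => PrimeSpectrum.ext h)).subset fun q hq => mem_minimalPrimes_of_le_all hJ hall hq

end Groth.Agent.CAlgLow
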