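import Mathlib.RingTheory.Nakayama
import Mathlib.Algebra.Module.Projective
import Mathlib.LinearAlgebra.TensorProduct.Quotient
import Mathlib.LinearAlgebra.TensorProduct.Tower

/-!
# Finite projective modules modulo an ideal in the Jacobson radical
-/

universe u v w

open TensorProduct

namespace Groth.Agent.CAlgLow

variable {R : Type u} [CommRing R] (I : Ideal R)

theorem one_tmul_eq_zero_iff {M : Type v} [AddCommGroup M] [Module R M] (x : M) :
    ((1 : R ⧸ I) ⊗ₜ[R] x) = 0 ↔ x ∈ I • (⊤ : Submodule R M) := by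
  have h : quotTensorEquivQuotSMul M I (Ideal.Quotient.mk I 1 ⊗ₜ x) =
      Submodule.Quotient.mk ((1 : R) • x) := quotTensorEquivQuotSMul_mk_tmul I 1 x
  rw [map_one, one_smul] at h
  rw [← (quotTensorEquivQuotSMul M I).map_eq_zero_iff, h, Submodule.Quotient.mk_eq_zero]

/-- A map which is bijective modulo `I ≤ rad` between finite modules with projective target is bijective. -/
theorem bijective_of_baseChange (hI : I ≤ Ideal.jacobson (⊥ : Ideal R)) {P : Type v} {P' : Type w}
    [AddCommGroup P] [Module R P] [Module.Finite R P]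
    [AddCommGroup P'] [Module R P'] [Module.Finite R P'] [Module.Projective R P'] (φ : P →ₗ[R] P')
    (h : Function.Bijective (φ.baseChange (R ⧸ I))) : Function.Bijective φ := by
  have hsurj : Function.Surjective φ := by
    rw [← LinearMap.range_eq_top, eq_top_iff]
    refine Submodule.le_of_le_smul_of_le_jacobson_bot (I := I) Module.Finite.fg_top hI fun y _ => ?_
    obtain ⟨z, hz⟩ := h.2 (1 ⊗ₜ y)
    obtain ⟨q, hq⟩ := (quotTensorEquivQuotSMul P I).symm.surjective z
    obtain ⟨x, rfl⟩ := Submodule.Quotient.mk_surjective _ q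
    rw [quotTensorEquivQuotSMul_symm_mk] at hq
    rw [← hq, LinearMap.baseChange_tmul] at hz
    rw [Submodule.mem_sup]
    exact ⟨φ x, LinearMap.mem_range_self φ x, y - φ x,
      (one_tmul_eq_zero_iff I _).1 (by rw [tmul_sub, hz, sub_self]), add_sub_cancel _ _⟩
  obtain ⟨s, hs⟩ := Module.projective_lifting_property φ LinearMap.id hsurj
  have hs' : ∀ y, φ (s y) = y := fun y => LinearMap.congr_fun hs y
  let π : P →ₗ[R] P := LinearMap.id - s ∘ₗ φ
  have hπ : ∀ x, φ x = 0 → π x = x := fun x hx => by simp [π, hx]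
  have hker : LinearMap.ker φ = LinearMap.range π := by
    ext x
    exact ⟨fun hx => ⟨x, hπ x hx⟩, by rintro ⟨y, rfl⟩; simp [π, hs']⟩
  refine ⟨LinearMap.ker_eq_bot.1 (eq_bot_iff.2 ?_), hsurj⟩
  refine Submodule.le_of_le_smul_of_le_jacobson_bot (I := I) ?_ hI ?_
  · rw [hker, LinearMap.range_eq_map]
    exact Module.Finite.fg_top.map π
  · intro x hx
    refine Submodule.mem_sup_right ?_
    have hxI : x ∈ I • (⊤ : Submodule R P) := (one_tmul_eq_zero_iff I x).1 (h.1 (by
      rw [map_zero, LinearMap.baseChange_tmul, LinearMap.mem_ker.1 hx, tmul_zero]))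
    have := Submodule.mem_map_of_mem (f := π) hxI
    rw [Submodule.map_smul'', ← LinearMap.range_eq_map, ← hker, hπ x (LinearMap.mem_ker.1 hx)] at this
    exact this

end Groth.Agent.CAlgLow
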