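import Groth.Prelude.Def_Found
import Groth.Agent.Lib.UnivHomeo.Basic
import Mathlib

/-! # Reduced tensor products with finite subalgebras stabilise over a Japanese flat algebra -/

set_option autoImplicit false
universe u

open TensorProduct

namespace Groth.Agent.JapaneseRed

/-- Integral closures in a residue field: finiteness from the Japanese property. -/
theorem fg_integralClosure {B L : Type u} [CommRing B] [Field L] [Algebra B L] (q : Ideal B) [q.IsPrime]
    (hq : RingHom.ker (algebraMap B L) = q) (h : CAlg.IsN2 (B ⧸ q)) (s : Finset L)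
    (hs : ∀ x ∈ s, IsIntegral B x)
    (hgen : ∀ E : Subfield L, Set.range (algebraMap B L) ⊆ E → (↑s : Set L) ⊆ E → E = ⊤) :
    Module.Finite B (integralClosure B L) := by
  let f : B ⧸ q →+* L := Ideal.Quotient.lift q (algebraMap B L) fun b hb => RingHom.mem_ker.1 (hq ▸ hb)
  have hf : Function.Injective f := (injective_iff_map_eq_zero f).2 fun z hz => by
    obtain ⟨b, rfl⟩ := Ideal.Quotient.mk_surjective z
    rw [Ideal.Quotient.lift_mk] at hz
    exact Ideal.Quotient.eq_zero_iff_mem.2 (hq ▸ RingHom.mem_ker.2 hz)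
  letI : Algebra (B ⧸ q) L := f.toAlgebra
  haveI : IsScalarTower B (B ⧸ q) L := .of_algebraMap_eq fun b => (Ideal.Quotient.lift_mk q _ _).symm
  haveI : FaithfulSMul (B ⧸ q) L := (faithfulSMul_iff_algebraMap_injective _ _).2 hf
  let F := FractionRing (B ⧸ q)
  letI : Algebra F L := (IsFractionRing.lift hf : F →+* L).toAlgebra
  haveI : IsScalarTower (B ⧸ q) F L := .of_algebraMap_eq fun b => (IsFractionRing.lift_algebraMap hf b).symm
  haveI : FiniteDimensional F L := by
    haveI : Finite ↑(↑s : Set L) := s.finite_toSet.to_subtype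
    let E := IntermediateField.adjoin F (↑s : Set L)
    haveI : FiniteDimensional F E := IntermediateField.finiteDimensional_adjoin fun x hx =>
      ((hs x hx).tower_top (A := B ⧸ q)).tower_top
    have hE : E = ⊤ := by
      apply IntermediateField.toSubfield_injective
      rw [IntermediateField.top_toSubfield]
      refine hgen _ ?_ (IntermediateField.subset_adjoin F _)
      rintro _ ⟨b, rfl⟩
      rw [IsScalarTower.algebraMap_apply B (B ⧸ q) L, IsScalarTower.algebraMap_apply (B ⧸ q) F L]
      exact E.algebraMap_mem _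
    exact Module.Finite.equiv ((IntermediateField.equivOfEq hE).trans IntermediateField.topEquiv).toLinearEquiv
  haveI : Module.Finite (B ⧸ q) (integralClosure (B ⧸ q) L) := h L inferInstance
  haveI : Module.Finite B (integralClosure (B ⧸ q) L) := Module.Finite.trans (B ⧸ q) _
  let e : integralClosure B L →ₗ[B] integralClosure (B ⧸ q) L :=
    { toFun := fun x => ⟨x.1, x.2.tower_top⟩
      map_add' := fun _ _ => rfl
      map_smul' := fun b x => Subtype.ext (by simp) }
  let e' : integralClosure (B ⧸ q) L →ₗ[B] integralClosure B L :=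
    { toFun := fun x => ⟨x.1, isIntegral_trans (R := B) x.1 x.2⟩
      map_add' := fun _ _ => rfl
      map_smul' := fun b x => Subtype.ext (by simp) }
  exact Module.Finite.of_surjective e' fun y => ⟨e y, rfl⟩

/-- Finite over `A` with fraction field `K'`. -/
abbrev IsP {A K' : Type u} [CommRing A] [Field K'] [Algebra A K'] (C : Subalgebra A K') : Prop :=
  Module.Finite A C ∧ ∀ x : K', ∃ a b : C, (b : K') ≠ 0 ∧ x * b = a

theorem exists_finite_frac {A K' : Type u} [CommRing A] [IsDomain A] [Field K'] [Algebra A K']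
    [Algebra (FractionRing A) K'] [IsScalarTower A (FractionRing A) K'] [FiniteDimensional (FractionRing A) K'] :
    ∃ C : Subalgebra A K', Module.Finite A C ∧ ∀ x : K', ∃ a b : C, (b : K') ≠ 0 ∧ x * b = a := by
  classical
  let K := FractionRing A
  let bas := Module.finBasis K K'
  have hex : ∀ i, ∃ m : nonZeroDivisors A, IsIntegral A (m • bas i) := fun i =>
    IsIntegral.exists_multiple_integral_of_isLocalization (Rₘ := K) (nonZeroDivisors A) (bas i)
      (IsIntegral.of_finite K _)
  choose m hm using hex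
  let S : Set K' := Set.range fun i => m i • bas i
  refine ⟨Algebra.adjoin A S, Module.Finite.iff_fg.2 (fg_adjoin_of_finite (Set.finite_range _) ?_), fun x => ?_⟩
  · rintro _ ⟨i, rfl⟩; exact hm i
  obtain ⟨d, hd⟩ := IsLocalization.exist_integer_multiples (nonZeroDivisors A) Finset.univ
    (fun i => bas.repr x i / algebraMap A K (m i))
  choose a ha using fun i => hd i (Finset.mem_univ i)
  have hx : algebraMap A K' (d : A) * x = ∑ i, algebraMap A K' (a i) * (m i • bas i) := by
    conv_lhs => rw [← bas.sum_repr x, Finset.mul_sum]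
    refine Finset.sum_congr rfl fun i _ => ?_
    rw [Submonoid.smul_def, Algebra.smul_def, Algebra.smul_def, ← mul_assoc, ← mul_assoc, ← map_mul (algebraMap A K'),
      IsScalarTower.algebraMap_apply A K K', IsScalarTower.algebraMap_apply A K K' (a i * _), ← map_mul (algebraMap K K')]
    congr 2
    rw [map_mul, ha, Algebra.smul_def, mul_assoc,
      div_mul_cancel₀ _ (IsFractionRing.to_map_ne_zero_of_mem_nonZeroDivisors (m i).2)]
  refine ⟨⟨∑ i, algebraMap A K' (a i) * (m i • bas i), Subalgebra.sum_mem _ fun i _ => mul_mem (Subalgebra.algebraMap_mem _ (a i)) (Algebra.subset_adjoin ⟨i, rfl⟩)⟩,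
    ⟨algebraMap A K' (d : A), Subalgebra.algebraMap_mem _ _⟩, ?_, (mul_comm _ _).trans hx⟩
  show algebraMap A K' (d : A) ≠ 0
  rw [IsScalarTower.algebraMap_apply A K K']
  exact (map_ne_zero _).2 (IsFractionRing.to_map_ne_zero_of_mem_nonZeroDivisors d.2)

variable {A B K' : Type u} [CommRing A] [IsDomain A] [CommRing B] [Algebra A B] [IsNoetherianRing B]
  [Module.Flat A B] [Field K'] [Algebra A K'] [Algebra (FractionRing A) K']
  [IsScalarTower A (FractionRing A) K'] [FiniteDimensional (FractionRing A) K']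

theorem exists_stable (hJ : ∀ (q : Ideal B) [q.IsPrime], q ∈ minimalPrimes B → CAlg.IsN2 (B ⧸ q)) :
    ∃ Cα : Subalgebra A K', IsP Cα ∧
      ∀ C : Subalgebra A K', IsP C → ∀ hle : Cα ≤ C,
        (∀ x : ↥Cα ⊗[A] B, IsNilpotent (Algebra.TensorProduct.map (Subalgebra.inclusion hle) (AlgHom.id A B) x) →
          IsNilpotent x) ∧
        (∀ y : ↥C ⊗[A] B, ∃ x : ↥Cα ⊗[A] B,
          IsNilpotent (Algebra.TensorProduct.map (Subalgebra.inclusion hle) (AlgHom.id A B) x - y)) := by
  classical
  obtain ⟨C₀, hC₀, hC₀f⟩ := exists_finite_frac (A := A) (K' := K')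
  haveI : Algebra.EssFiniteType A (FractionRing A) := Algebra.EssFiniteType.of_isLocalization _ (nonZeroDivisors A)
  haveI : Algebra.EssFiniteType A K' := Algebra.EssFiniteType.comp A (FractionRing A) K'
  haveI : Module.Flat A (FractionRing A) := IsLocalization.flat _ (nonZeroDivisors A)
  haveI : Module.Flat A K' := Module.Flat.trans A (FractionRing A) K'
  let X := B ⊗[A] K'
  haveI : IsNoetherianRing X := Algebra.EssFiniteType.isNoetherianRing B X
  haveI : Finite ↑(minimalPrimes X) := (minimalPrimes.finite_of_isNoetherianRing X).to_subtype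
  haveI : ∀ Q : ↑(minimalPrimes X), Q.1.IsPrime := fun Q => Ideal.minimalPrimes_isPrime Q.2
  let P := (Q : ↑(minimalPrimes X)) → Q.1.ResidueField
  let Φ : X →ₐ[B] P := AlgHom.pi fun Q => IsScalarTower.toAlgHom B X Q.1.ResidueField
  have hΦ : ∀ x, Φ x = 0 → IsNilpotent x := fun x hx => by
    rw [← mem_nilradical, nilradical, Ideal.zero_eq_bot, ← Ideal.sInf_minimalPrimes, Ideal.mem_sInf]
    intro Q hQ
    haveI := Ideal.minimalPrimes_isPrime hQ
    exact Ideal.algebraMap_residueField_eq_zero.1 (congrFun hx ⟨Q, hQ⟩)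
  -- the bound
  let W : Submodule B P := LinearMap.range (LinearMap.pi fun Q : ↑(minimalPrimes X) =>
    (integralClosure B Q.1.ResidueField).val.toLinearMap ∘ₗ
      LinearMap.proj (φ := fun Q : ↑(minimalPrimes X) => ↥(integralClosure B Q.1.ResidueField)) Q)
  obtain ⟨s₀, hs₀⟩ := hC₀
  have hint : ∀ (C : Subalgebra A K'), Module.Finite A C → ∀ c : C, IsIntegral B ((1 : B) ⊗ₜ[A] (c : K') : X) :=
    fun C hC c => (((IsIntegral.of_finite A c).map C.val).map (Algebra.TensorProduct.includeRight : K' →ₐ[A] X)).tower_top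
  haveI hfin : ∀ Q : ↑(minimalPrimes X), Module.Finite B (integralClosure B Q.1.ResidueField) := by
    intro Q
    let q := Q.1.comap (algebraMap B X)
    have hqmin : q ∈ minimalPrimes B := by
      refine ⟨⟨inferInstance, bot_le⟩, fun q' hq' hle => ?_⟩
      haveI := hq'.1
      haveI : Q.1.LiesOver q := ⟨rfl⟩
      obtain ⟨Q', hQ'le, hQ'p, hQ'⟩ := Ideal.exists_ideal_le_liesOver_of_le (p := q') (q := q) Q.1 hle
      have h1 : Q.1 ≤ Q' := Q.2.2 ⟨hQ'p, bot_le⟩ hQ'le
      rw [hQ'.over]
      exact Ideal.comap_mono h1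
    refine fg_integralClosure q ?_ (hJ q hqmin)
      ((s₀.image fun c : C₀ => algebraMap X Q.1.ResidueField ((1 : B) ⊗ₜ[A] (c : K')))) ?_ ?_
    · ext b
      rw [RingHom.mem_ker, IsScalarTower.algebraMap_apply B X Q.1.ResidueField, Ideal.algebraMap_residueField_eq_zero]
      rfl
    · intro z hz
      obtain ⟨c, -, rfl⟩ := Finset.mem_image.1 hz
      exact (hint C₀ ⟨⟨s₀, hs₀⟩⟩ c).map (IsScalarTower.toAlgHom B X Q.1.ResidueField)
    · intro E hB hs
      let φ : X →+* Q.1.ResidueField := algebraMap X Q.1.ResidueField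
      have hA : ∀ a : A, φ ((1 : B) ⊗ₜ[A] algebraMap A K' a) ∈ E := fun a => hB ⟨algebraMap A B a, by
        rw [IsScalarTower.algebraMap_apply B X Q.1.ResidueField, Algebra.TensorProduct.algebraMap_apply, Algebra.algebraMap_self_apply]
        show φ _ = φ _
        congr 1
        rw [Algebra.algebraMap_eq_smul_one, Algebra.algebraMap_eq_smul_one, TensorProduct.smul_tmul]⟩
      have hC : ∀ c : C₀, φ ((1 : B) ⊗ₜ[A] (c : K')) ∈ E := fun c => by
        have hc : c ∈ Submodule.span A (↑s₀ : Set C₀) := hs₀ ▸ trivial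
        induction hc using Submodule.span_induction with
        | mem y hy => exact hs (Finset.mem_image_of_mem _ hy)
        | zero => simp
        | add y z _ _ hy hz => simpa [TensorProduct.tmul_add] using add_mem hy hz
        | smul a y _ hy =>
          have : ((1 : B) ⊗ₜ[A] ((a • y : C₀) : K') : X) = ((1 : B) ⊗ₜ[A] algebraMap A K' a) * ((1 : B) ⊗ₜ[A] (y : K')) := by
            rw [Algebra.TensorProduct.tmul_mul_tmul, one_mul]
            congr 1
            simp [Algebra.smul_def]
          rw [this, map_mul]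
          exact mul_mem (hA a) hy
      have hX : ∀ z : X, φ z ∈ E := by
        intro z
        induction z using TensorProduct.induction_on with
        | zero => simp
        | add y z hy hz => rw [map_add]; exact add_mem hy hz
        | tmul b k =>
          obtain ⟨a, d, hd, hkd⟩ := hC₀f k
          have h1 : φ ((1 : B) ⊗ₜ[A] (d : K')) ≠ 0 :=
            ((((IsUnit.mk0 _ hd).map (Algebra.TensorProduct.includeRight : K' →ₐ[A] X))).map φ).ne_zero
          have hb : φ (b ⊗ₜ[A] (1 : K')) ∈ E := hB ⟨b, IsScalarTower.algebraMap_apply B X _ b⟩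
          have hk : φ ((1 : B) ⊗ₜ[A] k) = φ ((1 : B) ⊗ₜ[A] (a : K')) / φ ((1 : B) ⊗ₜ[A] (d : K')) := by
            rw [eq_div_iff h1, ← map_mul, Algebra.TensorProduct.tmul_mul_tmul, one_mul, hkd]
          rw [show (b ⊗ₜ[A] k : X) = (b ⊗ₜ[A] (1 : K')) * ((1 : B) ⊗ₜ[A] k) by simp, map_mul, hk]
          exact mul_mem hb (div_mem (hC a) (hC d))
      refine eq_top_iff.2 fun z _ => ?_
      obtain ⟨x, y, hy, rfl⟩ := IsFractionRing.div_surjective (A := X ⧸ Q.1) z
      obtain ⟨x, rfl⟩ := Ideal.Quotient.mk_surjective x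
      obtain ⟨y, rfl⟩ := Ideal.Quotient.mk_surjective y
      exact div_mem (hX x) (hX y)
  haveI : Module.Finite B W := Module.Finite.range _
  let N : Subalgebra A K' → Submodule B P := fun C =>
    Submodule.span B (Set.range fun c : C => Φ ((1 : B) ⊗ₜ[A] (c : K')))
  have hNW : ∀ C : Subalgebra A K', Module.Finite A C → N C ≤ W := fun C hC => by
    refine Submodule.span_le.2 ?_
    rintro _ ⟨c, rfl⟩
    exact ⟨fun Q => ⟨_, (hint C hC c).map (IsScalarTower.toAlgHom B X Q.1.ResidueField)⟩, rfl⟩
  have hP₀ : IsP C₀ := ⟨⟨⟨s₀, hs₀⟩⟩, hC₀f⟩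
  haveI : IsNoetherian B W := isNoetherian_of_isNoetherianRing_of_finite B W
  obtain ⟨_, ⟨Cα, hCα, rfl⟩, hmax⟩ := set_has_maximal_iff_noetherian.2 ‹IsNoetherian B W›
    {U | ∃ C : Subalgebra A K', IsP C ∧ U = (N C).comap W.subtype} ⟨_, C₀, hP₀, rfl⟩
  refine ⟨Cα, hCα, fun C hC hle => ?_⟩
  let ι : ∀ D : Subalgebra A K', ↥D ⊗[A] B →ₐ[A] X := fun D =>
    (Algebra.TensorProduct.comm A K' B).toAlgHom.comp (Algebra.TensorProduct.map D.val (AlgHom.id A B))
  have hι : ∀ (D : Subalgebra A K'), Function.Injective (ι D) := fun D =>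
    (Algebra.TensorProduct.comm A K' B).injective.comp (by
      have h := Module.Flat.rTensor_preserves_injective_linearMap (M := B) D.val.toLinearMap Subtype.val_injective
      exact h)
  have hιle : ∀ x, ι C (Algebra.TensorProduct.map (Subalgebra.inclusion hle) (AlgHom.id A B) x) = ι Cα x := by
    intro x
    show (ι C).comp (Algebra.TensorProduct.map (Subalgebra.inclusion hle) (AlgHom.id A B)) x = _
    congr 1
    ext c <;> simp [ι]
  refine ⟨fun x hx => ?_, fun y => ?_⟩
  · rw [← IsNilpotent.map_iff (f := ι Cα) (hι Cα), ← hιle]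
    exact hx.map _
  have hmono : N Cα ≤ N C := Submodule.span_mono (by
    rintro _ ⟨c, rfl⟩
    exact ⟨Subalgebra.inclusion hle c, rfl⟩)
  have heq : N C ≤ N Cα := by
    have h1 : (N Cα).comap W.subtype = (N C).comap W.subtype := by
      by_contra hne
      exact hmax _ ⟨C, hC, rfl⟩ (lt_of_le_of_ne (Submodule.comap_mono hmono) hne)
    intro z hz
    have : (⟨z, hNW C hC.1 hz⟩ : W) ∈ (N C).comap W.subtype := hz
    rw [← h1] at this
    exact this
  have hrange : ∀ z ∈ N Cα, ∃ x, Φ (ι Cα x) = z := by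
    intro z hz
    induction hz using Submodule.span_induction with
    | mem z hz => obtain ⟨c, rfl⟩ := hz; exact ⟨c ⊗ₜ 1, by simp [ι]⟩
    | zero => exact ⟨0, by simp⟩
    | add z w _ _ hz hw =>
      obtain ⟨x, rfl⟩ := hz; obtain ⟨x', rfl⟩ := hw
      exact ⟨x + x', by simp⟩
    | smul b z _ hz =>
      obtain ⟨x, rfl⟩ := hz
      refine ⟨((1 : Cα) ⊗ₜ b) * x, ?_⟩
      rw [map_mul, ← map_smul, Algebra.smul_def]
      congr 1
  have hy : Φ (ι C y) ∈ N C := by
    induction y using TensorProduct.induction_on with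
    | zero => simp
    | add y z hy hz => rw [map_add, map_add]; exact add_mem hy hz
    | tmul c b =>
      rw [show ι C (c ⊗ₜ[A] b) = b • ((1 : B) ⊗ₜ[A] (c : K') : X) by simp [ι, TensorProduct.smul_tmul'], map_smul]
      exact Submodule.smul_mem _ b (Submodule.subset_span ⟨c, rfl⟩)
  obtain ⟨x, hx⟩ := hrange _ (heq hy)
  refine ⟨x, ?_⟩
  rw [← IsNilpotent.map_iff (f := ι C) (hι C), map_sub, hιle]
  exact hΦ _ (by rw [map_sub, hx, sub_self])

/-- With `B` faithfully flat, the stable level has radicial integral closure. -/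
theorem universallyInjective [Module.FaithfullyFlat A B] {Cα : Subalgebra A K'} (hα : IsP Cα)
    (hst : ∀ C : Subalgebra A K', IsP C → ∀ hle : Cα ≤ C, ∀ y : ↥C ⊗[A] B, ∃ x : ↥Cα ⊗[A] B,
      IsNilpotent (Algebra.TensorProduct.map (Subalgebra.inclusion hle) (AlgHom.id A B) x - y))
    (hint : Cα ≤ integralClosure A K') :
    AlgebraicGeometry.UniversallyInjective
      (AlgebraicGeometry.Spec.map (CommRingCat.ofHom (Subalgebra.inclusion hint).toRingHom)) := by
  refine UH.universallyInjective_of_field _ fun L _ g g' hg => RingHom.ext fun z => ?_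
  let C : Subalgebra A K' := Cα ⊔ Algebra.adjoin A {(z : K')}
  have hle : Cα ≤ C := le_sup_left
  have hCint : C ≤ integralClosure A K' := sup_le hint (Algebra.adjoin_le (Set.singleton_subset_iff.2 z.2))
  have hC : IsP C := by
    haveI := hα.1
    haveI : Module.Finite A (Algebra.adjoin A {(z : K')}) :=
      Module.Finite.iff_fg.2 (IsIntegral.fg_adjoin_singleton z.2)
    exact ⟨Subalgebra.finite_sup _ _, fun x => by
      obtain ⟨a, b, hb, hab⟩ := hα.2 x
      exact ⟨Subalgebra.inclusion hle a, Subalgebra.inclusion hle b, hb, hab⟩⟩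
  let i : C →ₐ[A] integralClosure A K' := Subalgebra.inclusion hCint
  letI : Algebra A L := (g.comp (algebraMap A (integralClosure A K'))).toAlgebra
  have hg' : ∀ c : Cα, g (Subalgebra.inclusion hint c) = g' (Subalgebra.inclusion hint c) :=
    fun c => RingHom.congr_fun hg c
  let γ : C →ₐ[A] L := { g.comp i.toRingHom with
    commutes' := fun a => congrArg g (i.commutes a) }
  let γ' : C →ₐ[A] L := { g'.comp i.toRingHom with
    commutes' := fun a => by
      show g' (i (algebraMap A C a)) = g (algebraMap A (integralClosure A K') a)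
      rw [i.commutes, ← (Subalgebra.inclusion hint).commutes a]
      exact (hg' _).symm }
  obtain ⟨m, hm⟩ := Ideal.exists_maximal (L ⊗[A] B)
  letI := Ideal.Quotient.field m
  let π : L ⊗[A] B →ₐ[A] (L ⊗[A] B) ⧸ m := Ideal.Quotient.mkₐ A m
  let j : L →ₐ[A] (L ⊗[A] B) ⧸ m := π.comp Algebra.TensorProduct.includeLeft
  let G := π.comp (Algebra.TensorProduct.map γ (AlgHom.id A B))
  let G' := π.comp (Algebra.TensorProduct.map γ' (AlgHom.id A B))
  let incl := Algebra.TensorProduct.map (Subalgebra.inclusion hle) (AlgHom.id A B)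
  have hGG : ∀ x, G (incl x) = G' (incl x) := by
    intro x
    induction x using TensorProduct.induction_on with
    | zero => rw [map_zero, map_zero, map_zero]
    | add x y hx hy => rw [map_add, map_add, map_add, hx, hy]
    | tmul c b =>
      show π (γ (Subalgebra.inclusion hle c) ⊗ₜ b) = π (γ' (Subalgebra.inclusion hle c) ⊗ₜ b)
      rw [show γ (Subalgebra.inclusion hle c) = γ' (Subalgebra.inclusion hle c) from hg' c]
  let c : C := ⟨z, Algebra.subset_adjoin rfl |> fun h => (le_sup_right : _ ≤ C) h⟩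
  obtain ⟨x, hx⟩ := hst C hC hle (c ⊗ₜ[A] 1)
  have e1 : G (c ⊗ₜ[A] 1) = G (incl x) := (sub_eq_zero.1 (by rw [← map_sub]; exact (hx.map G).eq_zero)).symm
  have e2 : G' (c ⊗ₜ[A] 1) = G' (incl x) := (sub_eq_zero.1 (by rw [← map_sub]; exact (hx.map G').eq_zero)).symm
  apply j.toRingHom.injective
  show G (c ⊗ₜ[A] 1) = G' (c ⊗ₜ[A] 1)
  rw [e1, e2, hGG]

end Groth.Agent.JapaneseRed
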