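import Mathlib.RingTheory.Length
import Mathlib.RingTheory.Ideal.Colon
import Mathlib.RingTheory.Support
import Mathlib.Algebra.Module.LocalizedModule.Exact
import Mathlib.RingTheory.Localization.AtPrime.Basic
import Mathlib.RingTheory.SimpleModule.Basic

/-!
# Lengths of localisations
-/

set_option autoImplicit false

universe u

namespace Groth.Agent.CAlgLow

variable {R : Type u} [CommRing R] (m : Ideal R) [m.IsMaximal]

theorem locLength_add {A B C : Type u} [AddCommGroup A] [Module R A] [AddCommGroup B] [Module R B]
    [AddCommGroup C] [Module R C] (f : A →ₗ[R] B) (g : B →ₗ[R] C) (hf : Function.Injective f)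
    (hg : Function.Surjective g) (hfg : Function.Exact f g) :
    Module.length (Localization.AtPrime m) (LocalizedModule m.primeCompl B) =
      Module.length (Localization.AtPrime m) (LocalizedModule m.primeCompl A) +
        Module.length (Localization.AtPrime m) (LocalizedModule m.primeCompl C) :=
  Module.length_eq_add_of_exact _ _ (LocalizedModule.map_injective m.primeCompl f hf)
    (LocalizedModule.map_surjective m.primeCompl g hg) (LocalizedModule.map_exact m.primeCompl f g hfg)

theorem locLength_subsingleton (A : Type u) [AddCommGroup A] [Module R A] [Subsingleton A] :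
    Module.length (Localization.AtPrime m) (LocalizedModule m.primeCompl A) = 0 := by
  have : Subsingleton (LocalizedModule m.primeCompl A) := by
    refine subsingleton_of_forall_eq 0 fun z => ?_
    induction z using LocalizedModule.induction_on with
    | _ a s => rw [Subsingleton.elim a 0, LocalizedModule.zero_mk]
  exact Module.length_eq_zero

theorem locLength_simple {A : Type u} [AddCommGroup A] [Module R A] [IsSimpleModule R A]
    [Decidable (Module.annihilator R A = m)] :
    Module.length (Localization.AtPrime m) (LocalizedModule m.primeCompl A) =
      if Module.annihilator R A = m then 1 else 0 := by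
  obtain ⟨J, hJ, ⟨e⟩⟩ := isSimpleModule_iff_quot_maximal.1 (inferInstance : IsSimpleModule R A)
  have hann : Module.annihilator R A = J := by rw [e.annihilator_eq, J.annihilator_quotient]
  have := IsSimpleModule.nontrivial R A
  split_ifs with hm
  · rw [Module.length_eq_one_iff, isSimpleModule_iff_toSpanSingleton_surjective]
    refine ⟨?_, fun z hz w => ?_⟩
    · obtain ⟨x, hx⟩ := exists_ne (0 : A)
      refine ⟨LocalizedModule.mk x 1, 0, fun h0 => hx ?_⟩
      rw [← LocalizedModule.zero_mk (1 : m.primeCompl), LocalizedModule.mk_eq] at h0
      obtain ⟨u, hu⟩ := h0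
      simp only [one_smul, smul_zero] at hu
      by_contra hx0
      have h2 := IsSimpleModule.toSpanSingleton_surjective R hx0
      refine u.2 (hm.le (Module.mem_annihilator.2 fun y => ?_))
      obtain ⟨r, rfl⟩ := h2 y
      rw [LinearMap.toSpanSingleton_apply, smul_comm]
      rw [Submonoid.smul_def] at hu
      rw [hu, smul_zero]
    · induction z using LocalizedModule.induction_on with
      | _ x s =>
      induction w using LocalizedModule.induction_on with
      | _ y t =>
      have hx : x ≠ 0 := fun h => hz (by rw [h, LocalizedModule.zero_mk])
      obtain ⟨r, rfl⟩ := IsSimpleModule.toSpanSingleton_surjective R hx y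
      refine ⟨Localization.mk ((s : R) * r) t, ?_⟩
      rw [LinearMap.toSpanSingleton_apply, LocalizedModule.mk_smul_mk, LinearMap.toSpanSingleton_apply, mul_smul,
        ← Submonoid.smul_def, mul_comm t s, ← LocalizedModule.mk_cancel_common_left s t (r • x)]
  · have : Subsingleton (LocalizedModule m.primeCompl A) := by
      rw [LocalizedModule.subsingleton_iff]
      intro a
      obtain ⟨t, htJ, htm⟩ := Set.not_subset.1 fun h : (J : Set R) ⊆ m =>
        hm (hann.trans (hJ.eq_of_le (Ideal.IsPrime.ne_top inferInstance) h))
      exact ⟨t, htm, Module.mem_annihilator.1 (hann.ge htJ) a⟩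
    exact Module.length_eq_zero

open Classical in
theorem locLength_compositionSeries {M : Type u} [AddCommGroup M] [Module R M]
    (s : CompositionSeries (Submodule R M)) (h0 : s.head = ⊥) (i : Fin (s.length + 1)) :
    Module.length (Localization.AtPrime m) (LocalizedModule m.primeCompl (s i)) =
      ((Finset.univ.filter fun j : Fin s.length => (j : ℕ) < i ∧ (s j.castSucc).colon (s j.succ : Set M) = m).card : ℕ∞) := by
  induction i using Fin.induction with
  | zero =>
    have : Subsingleton (s 0) := by
      rw [Submodule.subsingleton_iff_eq_bot]; exact h0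
    rw [locLength_subsingleton]
    simp
  | succ i ih =>
    have hlt : s i.castSucc ⋖ s i.succ := s.step i
    have hsimp : IsSimpleModule R ((s i.succ) ⧸ (s i.castSucc).comap (s i.succ).subtype) :=
      (covBy_iff_quot_is_simple hlt.le).1 hlt
    have hann : Module.annihilator R ((s i.succ) ⧸ (s i.castSucc).comap (s i.succ).subtype) =
        (s i.castSucc).colon (s i.succ : Set M) := by
      ext r
      rw [Module.mem_annihilator, Submodule.mem_colon]
      constructor
      · intro h x hx
        exact ((Submodule.Quotient.mk_eq_zero ((s i.castSucc).comap (s i.succ).subtype)).1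
          (h (Submodule.Quotient.mk (⟨x, hx⟩ : (s i.succ)))) :)
      · intro h q
        obtain ⟨x, rfl⟩ := Submodule.mkQ_surjective _ q
        rw [← map_smul]
        exact (Submodule.Quotient.mk_eq_zero _).2 (h x.1 x.2)
    rw [locLength_add m (Submodule.inclusion hlt.le) ((s i.castSucc).comap (s i.succ).subtype).mkQ
      (Submodule.inclusion_injective _) (Submodule.mkQ_surjective _)
      (LinearMap.exact_iff.2 (by rw [Submodule.ker_mkQ, Submodule.range_inclusion])),
      locLength_simple m (A := (s i.succ) ⧸ (s i.castSucc).comap (s i.succ).subtype), hann, ih]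
    have hset : (Finset.univ.filter fun j : Fin s.length =>
        (j : ℕ) < (i.succ : ℕ) ∧ (s j.castSucc).colon (s j.succ : Set M) = m) =
        (Finset.univ.filter fun j : Fin s.length =>
          (j : ℕ) < (i.castSucc : ℕ) ∧ (s j.castSucc).colon (s j.succ : Set M) = m) ∪
        (if (s i.castSucc).colon (s i.succ : Set M) = m then {i} else ∅) := by
      ext j
      by_cases hji : j = i
      · subst hji; split_ifs with hc <;> simp [hc]
      · have : (j : ℕ) ≠ (i : ℕ) := fun h => hji (Fin.ext h)
        split_ifs with hc <;> simp [hji] <;> omega
    rw [hset, Finset.card_union_of_disjoint]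
    · split_ifs <;> simp
    · split_ifs <;> simp

end Groth.Agent.CAlgLow
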