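import Groth.Prelude.Def_Found
import Groth.Prelude.Def_CAlgX
import Mathlib.LinearAlgebra.TensorProduct.Pi
import Mathlib.LinearAlgebra.TensorProduct.RightExactness
import Mathlib.LinearAlgebra.DirectSum.TensorProduct
import Mathlib.Algebra.Module.FinitePresentation
import Mathlib.RingTheory.Flat.Basic

/-!
# Mittag-Leffler modules
-/

set_option autoImplicit false

universe u

open TensorProduct

namespace Groth.Agent.CAlgLow

variable {R : Type u} [CommRing R]
variable {M N P : Type u} [AddCommGroup M] [Module R M] [AddCommGroup N] [Module R N]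
  [AddCommGroup P] [Module R P]
variable {ι : Type u} {Q : ι → Type u} [∀ i, AddCommGroup (Q i)] [∀ i, Module R (Q i)]

theorem piRightHom_rTensor (f : M →ₗ[R] N) (x : M ⊗[R] (∀ i, Q i)) (i : ι) :
    piRightHom R R N Q (f.rTensor (∀ i, Q i) x) i = f.rTensor (Q i) (piRightHom R R M Q x i) := by
  induction x with
  | zero => simp
  | add a b ha hb => simp only [map_add, Pi.add_apply, ha, hb]
  | tmul m q => simp

theorem exists_sum_tmul {n : ℕ} (x : Fin n → M) (hx : Submodule.span R (Set.range x) = ⊤)
    {Q₀ : Type u} [AddCommGroup Q₀] [Module R Q₀] (w : M ⊗[R] Q₀) :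
    ∃ q : Fin n → Q₀, w = ∑ j, x j ⊗ₜ q j := by
  induction w with
  | zero => exact ⟨0, by simp⟩
  | add a b ha hb =>
    obtain ⟨qa, rfl⟩ := ha
    obtain ⟨qb, rfl⟩ := hb
    exact ⟨qa + qb, by simp [tmul_add, Finset.sum_add_distrib]⟩
  | tmul m q =>
    obtain ⟨c, rfl⟩ := (Submodule.mem_span_range_iff_exists_fun R).1 (hx ▸ Submodule.mem_top : m ∈ Submodule.span R (Set.range x))
    exact ⟨fun j => c j • q, by simp [sum_tmul, smul_tmul]⟩

/-- The product map is surjective for finite modules. -/
theorem piRightHom_surjective [Module.Finite R M] :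
    Function.Surjective (piRightHom R R M Q) := by
  obtain ⟨n, x, hx⟩ := Module.Finite.exists_fin (R := R) (M := M)
  intro z
  choose q hq using fun i => exists_sum_tmul x hx (z i)
  refine ⟨∑ j, x j ⊗ₜ (fun i => q i j), funext fun i => ?_⟩
  rw [map_sum, Finset.sum_apply, hq i]
  exact Finset.sum_congr rfl fun j _ => by simp

theorem isMittagLeffler_of_ui {f : M →ₗ[R] N} (hf : CAlgX.UniversallyInjective R f)
    (h : CAlg.IsMittagLeffler R N) : CAlg.IsMittagLeffler R M := by
  intro ι Q _ _ a b hab
  refine hf _ (h ι Q (funext fun i => ?_))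
  rw [piRightHom_rTensor, piRightHom_rTensor, hab]

theorem ui_of_leftInverse {f : M →ₗ[R] N} {g : N →ₗ[R] M} (h : g ∘ₗ f = LinearMap.id) :
    CAlgX.UniversallyInjective R f := fun Q _ _ =>
  Function.LeftInverse.injective (g := g.rTensor Q) fun x => by
    rw [← LinearMap.rTensor_comp_apply, h, LinearMap.rTensor_id, LinearMap.id_apply]

theorem isMittagLeffler_congr (e : M ≃ₗ[R] N) (h : CAlg.IsMittagLeffler R N) : CAlg.IsMittagLeffler R M :=
  isMittagLeffler_of_ui (ui_of_leftInverse (g := e.symm.toLinearMap) (f := e.toLinearMap)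
    (LinearMap.ext fun x => e.symm_apply_apply x)) h

theorem isMittagLeffler_extension {f : M →ₗ[R] N} {g : N →ₗ[R] P} (hf : CAlgX.UniversallyInjective R f)
    (hg : Function.Surjective g) (hfg : LinearMap.range f = LinearMap.ker g)
    (h₁ : CAlg.IsMittagLeffler R M) (h₃ : CAlg.IsMittagLeffler R P) : CAlg.IsMittagLeffler R N := by
  intro ι Q _ _
  rw [injective_iff_map_eq_zero]
  intro x hx
  have hgx : g.rTensor (∀ i, Q i) x = 0 := by
    refine h₃ ι Q ((funext fun i => ?_).trans (map_zero _).symm)
    rw [piRightHom_rTensor, hx, Pi.zero_apply, map_zero, Pi.zero_apply]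
  obtain ⟨y, rfl⟩ := (rTensor_exact (∀ i, Q i) (LinearMap.exact_iff.2 hfg.symm) hg x).1 hgx
  have hy : y = 0 := h₁ ι Q ((funext fun i => hf (Q i) (by
    rw [← piRightHom_rTensor, hx, Pi.zero_apply, Pi.zero_apply, map_zero])).trans (map_zero _).symm)
  rw [hy, map_zero]

theorem isMittagLeffler_quotient {K : Submodule R M} (hK : K.FG) (h : CAlg.IsMittagLeffler R M) :
    CAlg.IsMittagLeffler R (M ⧸ K) := by
  intro ι Q _ _
  rw [injective_iff_map_eq_zero]
  intro x hx
  obtain ⟨y, rfl⟩ := LinearMap.rTensor_surjective (∀ i, Q i) K.mkQ_surjective x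
  have hex : ∀ i, piRightHom R R M Q y i ∈ Set.range (K.subtype.rTensor (Q i)) := fun i =>
    (rTensor_exact (Q i) (LinearMap.exact_subtype_mkQ K) K.mkQ_surjective _).1
      (by rw [← piRightHom_rTensor, hx, Pi.zero_apply])
  choose z hz using hex
  have : Module.Finite R K := Module.Finite.iff_fg.2 hK
  obtain ⟨w, hw⟩ := piRightHom_surjective (M := K) z
  have hy : y = K.subtype.rTensor (∀ i, Q i) w := h ι Q (funext fun i => by
    rw [piRightHom_rTensor, hw, hz])
  rw [hy, ← LinearMap.rTensor_comp_apply, (LinearMap.exact_subtype_mkQ K).linearMap_comp_eq_zero,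
    LinearMap.rTensor_zero, LinearMap.zero_apply]

theorem isMittagLeffler_of_basis {n : ℕ} (b : Module.Basis (Fin n) R M) : CAlg.IsMittagLeffler R M := by
  intro ι Q _ _
  rw [injective_iff_map_eq_zero]
  intro x hx
  obtain ⟨q, rfl⟩ := exists_sum_tmul b b.span_eq x
  refine Finset.sum_eq_zero fun j _ => ?_
  suffices q j = 0 by rw [this, tmul_zero]
  funext i
  have h := congrArg ((TensorProduct.lid R (Q i)).toLinearMap ∘ₗ (b.coord j).rTensor (Q i)) (congrFun hx i)
  simpa [Module.Basis.coord, Finsupp.single_apply, ite_smul] using h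

theorem isMittagLeffler_of_finitePresentation [Module.FinitePresentation R M] : CAlg.IsMittagLeffler R M := by
  obtain ⟨n, K, e, hK⟩ := Module.FinitePresentation.exists_fin R M
  exact isMittagLeffler_congr e (isMittagLeffler_quotient hK (isMittagLeffler_of_basis (Pi.basisFun R (Fin n))))

theorem piRightHom_bijective [Module.FinitePresentation R M] : Function.Bijective (piRightHom R R M Q) :=
  ⟨isMittagLeffler_of_finitePresentation ι Q, piRightHom_surjective⟩

theorem isMittagLeffler_directSum {κ : Type u} (M : κ → Type u) [∀ i, AddCommGroup (M i)]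
    [∀ i, Module R (M i)] :
    CAlg.IsMittagLeffler R (DirectSum κ M) ↔ ∀ i, CAlg.IsMittagLeffler R (M i) := by
  classical
  refine ⟨fun h i => isMittagLeffler_of_ui (ui_of_leftInverse
    (f := DirectSum.lof R κ M i) (g := DirectSum.component R κ M i)
    (LinearMap.ext fun x => DirectSum.component.lof_self R i x)) h, fun h ι Q _ _ => ?_⟩
  have key : ∀ (x : DirectSum κ M ⊗[R] (∀ i, Q i)) (j : κ),
      directSumLeft R R M (∀ i, Q i) x j = (DirectSum.component R κ M j).rTensor (∀ i, Q i) x := by
    intro x j
    induction x with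
    | zero => simp
    | add a b ha hb => simp only [map_add, DirectSum.add_apply, ha, hb]
    | tmul m q =>
      induction m using DirectSum.induction_on with
      | zero => simp
      | add a b ha hb => simp only [add_tmul, map_add, DirectSum.add_apply, ha, hb]
      | of k m =>
        rw [← DirectSum.lof_eq_of R, directSumLeft_tmul_lof, LinearMap.rTensor_tmul]
        rcases eq_or_ne k j with rfl | hkj
        · rw [DirectSum.component.lof_self, DirectSum.lof_eq_of, DirectSum.of_eq_same]
        · rw [DirectSum.lof_eq_of, DirectSum.of_eq_of_ne _ _ _ hkj.symm, DirectSum.component.of,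
            dif_neg hkj, zero_tmul]
  rw [injective_iff_map_eq_zero]
  intro x hx
  refine (directSumLeft R R M (∀ i, Q i)).map_eq_zero_iff.1 (DFinsupp.ext fun j => ?_)
  rw [key]
  refine h j ι Q ((funext fun i => ?_).trans (map_zero _).symm)
  rw [piRightHom_rTensor, hx, Pi.zero_apply, map_zero, Pi.zero_apply]

section ChangeRing

variable {S : Type u} [CommRing S] [Algebra R S]

/-- Restriction of scalars when tensoring with `M` preserves the injectivity of the product maps of `S`. -/
theorem isMittagLeffler_restrict {M : Type u} [AddCommGroup M] [Module S M] [Module R M] [IsScalarTower R S M]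
    (hM : CAlg.IsMittagLeffler S M)
    (hS : ∀ (ι : Type u) (Q : ι → Type u) [∀ i, AddCommGroup (Q i)] [∀ i, Module R (Q i)],
      Function.Injective (LinearMap.lTensor M (piRightHom R S S Q))) :
    CAlg.IsMittagLeffler R M := by
  intro ι Q _ _
  let e := AlgebraTensorModule.cancelBaseChange R S S M (∀ i, Q i)
  let c := fun i => AlgebraTensorModule.cancelBaseChange R S S M (Q i)
  have key : ∀ x i, c i (piRightHom S S M (fun i => S ⊗[R] Q i)
      (LinearMap.lTensor M (piRightHom R S S Q) (e.symm x)) i) = piRightHom R R M Q x i := by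
    intro x i
    induction x with
    | zero => simp
    | add a b ha hb => simp only [map_add, Pi.add_apply, ha, hb]
    | tmul m q => simp [e, c]
  intro a b hab
  apply e.symm.injective
  refine hS ι Q (hM ι _ (funext fun i => (c i).injective ?_))
  rw [key, key, hab]

theorem isMittagLeffler_baseChange {M : Type u} [AddCommGroup M] [Module R M]
    (hM : CAlg.IsMittagLeffler R M) : CAlg.IsMittagLeffler S (S ⊗[R] M) := by
  intro ι Q _ _
  let _ : ∀ i, Module R (Q i) := fun i => Module.compHom (Q i) (algebraMap R S)
  have : ∀ i, IsScalarTower R S (Q i) := fun i => IsScalarTower.of_algebraMap_smul fun _ _ => rfl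
  let e := TensorProduct.comm S (S ⊗[R] M) (∀ i, Q i) ≪≫ₗ AlgebraTensorModule.cancelBaseChange R S S (∀ i, Q i) M
  let c := fun i => TensorProduct.comm S (S ⊗[R] M) (Q i) ≪≫ₗ AlgebraTensorModule.cancelBaseChange R S S (Q i) M
  have key : ∀ x i, (TensorProduct.comm R M (Q i)).symm (c i (piRightHom S S (S ⊗[R] M) Q x i)) =
      (piRightHom R R M Q ((TensorProduct.comm R M (∀ i, Q i)).symm (e x))) i := by
    intro x i
    induction x with
    | zero => simp
    | add a b ha hb => simp only [map_add, Pi.add_apply, ha, hb]
    | tmul w q =>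
      induction w with
      | zero => simp
      | add a b ha hb => simp only [add_tmul, map_add, Pi.add_apply, ha, hb]
      | tmul s m => simp [e, c]
  intro a b hab
  apply e.injective
  apply (TensorProduct.comm R M (∀ i, Q i)).symm.injective
  refine hM ι Q (funext fun i => ?_)
  rw [← key, ← key, hab]

/-- Along a surjection Mittag-Leffler modules descend. -/
theorem isMittagLeffler_of_surjective (hs : Function.Surjective (algebraMap R S))
    {M : Type u} [AddCommGroup M] [Module S M] [Module R M] [IsScalarTower R S M]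
    (hM : CAlg.IsMittagLeffler R M) : CAlg.IsMittagLeffler S M := by
  intro ι Q _ _
  let _ : ∀ i, Module R (Q i) := fun i => Module.compHom (Q i) (algebraMap R S)
  have : ∀ i, IsScalarTower R S (Q i) := fun i => IsScalarTower.of_algebraMap_smul fun _ _ => rfl
  have hc : ∀ (N : Type u) [AddCommGroup N] [Module S N] [Module R N] [IsScalarTower R S N],
      TensorProduct.CompatibleSMul R S M N := fun N _ _ _ _ => ⟨fun s m n => by
    obtain ⟨r, rfl⟩ := hs s
    rw [algebraMap_smul, algebraMap_smul, smul_tmul]⟩
  have := hc (∀ i, Q i)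
  have := fun i => hc (Q i)
  let e := TensorProduct.equivOfCompatibleSMul R S R M (∀ i, Q i)
  let c := fun i => TensorProduct.equivOfCompatibleSMul R S R M (Q i)
  have key : ∀ x i, c i (piRightHom S S M Q x i) = piRightHom R R M Q (e x) i := by
    intro x i
    induction x with
    | zero => simp
    | add a b ha hb => simp only [map_add, Pi.add_apply, ha, hb]
    | tmul m q => rfl
  intro a b hab
  refine e.injective (hM ι Q (funext fun i => ?_))
  rw [← key, ← key, hab]

theorem isMittagLeffler_restrict_of_finitePresentation [Module.FinitePresentation R S]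
    {M : Type u} [AddCommGroup M] [Module S M] [Module R M] [IsScalarTower R S M]
    (hM : CAlg.IsMittagLeffler S M) : CAlg.IsMittagLeffler R M :=
  isMittagLeffler_restrict hM fun ι Q _ _ =>
    (LinearEquiv.lTensor M (LinearEquiv.ofBijective (piRightHom R S S Q)
      (piRightHom_bijective (R := R) (M := S)))).injective

end ChangeRing

end Groth.Agent.CAlgLow
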