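import Mathlib.RingTheory.LocalRing.Module
import Mathlib.RingTheory.LocalProperties.Projective
import Mathlib.RingTheory.Spectrum.Prime.Module
import Mathlib.Algebra.Module.LocalizedModule.Exact
import Mathlib.LinearAlgebra.Matrix.Charpoly.LinearMap
import Mathlib.RingTheory.Localization.Finiteness

/-!
# Loci where a linear map is surjective or split injective
-/

set_option autoImplicit false

universe u

open TensorProduct

namespace Groth.Agent.CAlgLow

variable {R : Type u} [CommRing R] {M N : Type u} [AddCommGroup M] [Module R M] [AddCommGroup N] [Module R N]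

theorem surjective_iff_subsingleton {A B C : Type*} [AddCommGroup A] [AddCommGroup B] [AddCommGroup C]
    {f : A → B} {g : B → C} (hfg : Function.Exact f g) (hg : Function.Surjective g) :
    Function.Surjective f ↔ Subsingleton C := by
  refine ⟨fun h => subsingleton_of_forall_eq 0 fun c => ?_, fun _ b => (hfg b).1 (Subsingleton.elim _ _)⟩
  obtain ⟨b, rfl⟩ := hg c
  exact (hfg b).2 (h b)

theorem localized_surjective_iff (S : Submonoid R) (φ : M →ₗ[R] N) :
    Function.Surjective (LocalizedModule.map S φ) ↔ Subsingleton (LocalizedModule S (N ⧸ LinearMap.range φ)) :=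
  surjective_iff_subsingleton (LocalizedModule.map_exact S φ (LinearMap.range φ).mkQ (LinearMap.exact_map_mkQ_range φ))
    (LocalizedModule.map_surjective S _ (Submodule.mkQ_surjective _))

theorem localized_surjective_iff_mem_support (p : PrimeSpectrum R) (φ : M →ₗ[R] N) :
    Function.Surjective (LocalizedModule.map p.asIdeal.primeCompl φ) ↔
      p ∉ Module.support R (N ⧸ LinearMap.range φ) := by
  rw [localized_surjective_iff, Module.mem_support_iff, not_nontrivial_iff_subsingleton]

theorem residue_surjective_iff_mem_support [Module.Finite R N] (p : PrimeSpectrum R) (φ : M →ₗ[R] N) :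
    Function.Surjective (φ.lTensor p.asIdeal.ResidueField) ↔
      p ∉ Module.support R (N ⧸ LinearMap.range φ) := by
  rw [Module.mem_support_iff_nontrivial_residueField_tensorProduct, not_nontrivial_iff_subsingleton]
  exact surjective_iff_subsingleton (lTensor_exact _ (LinearMap.exact_map_mkQ_range φ) (Submodule.mkQ_surjective _))
    (LinearMap.lTensor_surjective _ (Submodule.mkQ_surjective _))

theorem isOpen_surjective_locus [Module.Finite R N] (φ : M →ₗ[R] N) :
    IsOpen {p : PrimeSpectrum R | p ∉ Module.support R (N ⧸ LinearMap.range φ)} := by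
  rw [show {p : PrimeSpectrum R | p ∉ Module.support R (N ⧸ LinearMap.range φ)} =
    (Module.support R (N ⧸ LinearMap.range φ))ᶜ from rfl, Module.support_eq_zeroLocus]
  exact (PrimeSpectrum.isClosed_zeroLocus _).isOpen_compl

theorem localized_surjective_of_subset (φ : M →ₗ[R] N) (f : R)
    (h : (↑(PrimeSpectrum.basicOpen f) : Set (PrimeSpectrum R)) ⊆ {p | p ∉ Module.support R (N ⧸ LinearMap.range φ)}) :
    Function.Surjective (LocalizedModule.map (Submonoid.powers f) φ) :=
  (localized_surjective_iff _ φ).2 (LocalizedModule.subsingleton_iff_disjoint.2 (Set.disjoint_left.2 fun _ hp hs => h hp hs))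

theorem ker_projective_of_localized_surjective (φ : M →ₗ[R] N) [Module.Finite R M] [Module.Projective R M]
    [Module.Projective R N] (f : R) (hs : Function.Surjective (LocalizedModule.map (Submonoid.powers f) φ)) :
    Module.Finite (Localization.Away f) (LocalizedModule (Submonoid.powers f) (LinearMap.ker φ)) ∧
      Module.Projective (Localization.Away f) (LocalizedModule (Submonoid.powers f) (LinearMap.ker φ)) := by
  let S := Submonoid.powers f
  let g := LocalizedModule.map S φ
  let i := LocalizedModule.map S (LinearMap.ker φ).subtype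
  have hi : Function.Injective i := LocalizedModule.map_injective S _ (LinearMap.ker φ).injective_subtype
  have hex : Function.Exact i g := LocalizedModule.map_exact S _ φ (LinearMap.exact_subtype_ker_map φ)
  obtain ⟨s, hs'⟩ := Module.projective_lifting_property g LinearMap.id hs
  let e := LinearMap.id - s ∘ₗ g
  have he : ∀ v, e v ∈ LinearMap.range i := fun v => by
    refine (hex (e v)).1 ?_
    change g (v - s (g v)) = 0
    rw [map_sub, ← LinearMap.comp_apply g s, hs', LinearMap.id_apply, sub_self]
  let r := (LinearEquiv.ofInjective i hi).symm.toLinearMap ∘ₗ e.codRestrict _ he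
  have hr : r ∘ₗ i = LinearMap.id := by
    refine LinearMap.ext fun w => hi ?_
    change i ((LinearEquiv.ofInjective i hi).symm ⟨e (i w), he (i w)⟩) = i w
    rw [show ∀ z, i ((LinearEquiv.ofInjective i hi).symm z) = z.1 from
      fun z => congrArg Subtype.val ((LinearEquiv.ofInjective i hi).apply_symm_apply z)]
    change i w - s (g (i w)) = i w
    rw [(hex _).2 ⟨w, rfl⟩, map_zero, sub_zero]
  exact ⟨Module.Finite.of_surjective r fun w => ⟨i w, DFunLike.congr_fun hr w⟩,
    Module.Projective.of_split i r hr⟩

/-- `z` times some element outside `p` comes from the module. -/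
theorem exists_clear (p : Ideal R) [p.IsPrime] (z : p.ResidueField ⊗[R] M) :
    ∃ u ∉ p, ∃ x : M, u • z = 1 ⊗ₜ x := by
  induction z with
  | zero => exact ⟨1, p.one_notMem, 0, by simp⟩
  | add a b ha hb =>
    obtain ⟨u, hu, x, hx⟩ := ha
    obtain ⟨v, hv, y, hy⟩ := hb
    refine ⟨u * v, fun h => (Ideal.IsPrime.mem_or_mem inferInstance h).elim hu hv, v • x + u • y, ?_⟩
    rw [smul_add, tmul_add, tmul_smul, tmul_smul, ← hx, ← hy, smul_smul, smul_smul, mul_comm v u]
  | tmul c m =>
    obtain ⟨a, b, hb, rfl⟩ := IsFractionRing.div_surjective (R ⧸ p) c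
    obtain ⟨a, rfl⟩ := Ideal.Quotient.mk_surjective a
    obtain ⟨b, rfl⟩ := Ideal.Quotient.mk_surjective b
    have hb' : b ∉ p := fun h => nonZeroDivisors.ne_zero hb (Ideal.Quotient.eq_zero_iff_mem.2 h)
    refine ⟨b, hb', a • m, ?_⟩
    rw [smul_tmul', tmul_smul, smul_tmul', Algebra.smul_def, Algebra.smul_def, mul_one]
    congr 1
    change algebraMap R p.ResidueField b * (algebraMap R p.ResidueField a / algebraMap R p.ResidueField b) = _
    rw [mul_div_cancel₀]
    rwa [Ne, Ideal.algebraMap_residueField_eq_zero]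

theorem mem_smul_top_of_residue_eq_zero [Module.Projective R M] (p : Ideal R) [p.IsPrime] (x : M)
    (hx : (1 : p.ResidueField) ⊗ₜ[R] x = 0) : x ∈ p • (⊤ : Submodule R M) := by
  obtain ⟨s, hs⟩ := Module.projective_lifting_property (Finsupp.linearCombination R (id : M → M)) LinearMap.id
    (Finsupp.linearCombination_id_surjective R M)
  have h2 : ∀ m, s x m ∈ p := fun m => by
    have := congrArg ((TensorProduct.rid R p.ResidueField).toLinearMap ∘ₗ
      (Finsupp.lapply m ∘ₗ s).lTensor p.ResidueField) hx
    simp [Algebra.smul_def] at this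
    exact this
  rw [show x = Finsupp.linearCombination R id (s x) from (DFunLike.congr_fun hs x).symm,
    Finsupp.linearCombination_apply]
  exact Submodule.sum_mem _ fun m _ => Submodule.smul_mem_smul (h2 m) Submodule.mem_top

variable {P₁ P₂ : Type u} [AddCommGroup P₁] [Module R P₁] [AddCommGroup P₂] [Module R P₂]

/-- The ideal of scalars through which a map splits. -/
def splitIdeal (φ : P₁ →ₗ[R] P₂) : Ideal R where
  carrier := {u | ∃ r : P₂ →ₗ[R] P₁, r ∘ₗ φ = u • LinearMap.id}
  zero_mem' := ⟨0, by simp⟩
  add_mem' := fun ⟨r, hr⟩ ⟨s, hs⟩ => ⟨r + s, by rw [LinearMap.add_comp, hr, hs, add_smul]⟩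
  smul_mem' := fun c u ⟨r, hr⟩ => ⟨c • r, by rw [LinearMap.smul_comp, hr, smul_smul, smul_eq_mul]⟩

theorem residue_injective_iff [Module.Finite R P₁] [Module.Projective R P₁] [Module.Finite R P₂] [Module.Projective R P₂]
    (φ : P₁ →ₗ[R] P₂) (p : PrimeSpectrum R) :
    Function.Injective (φ.lTensor p.asIdeal.ResidueField) ↔ ¬ splitIdeal φ ≤ p.asIdeal := by
  let κ := p.asIdeal.ResidueField
  constructor
  · intro hinj
    obtain ⟨σ, hσ⟩ := (φ.baseChange κ).exists_leftInverse_of_injective (LinearMap.ker_eq_bot.2 hinj)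
    obtain ⟨n, g, hg⟩ := Module.Finite.exists_fin (R := R) (M := P₂)
    choose u hu x hx using fun i => exists_clear p.asIdeal (σ (1 ⊗ₜ g i))
    let U := ∏ i, u i
    have hU : U ∉ p.asIdeal := fun h => by
      obtain ⟨i, -, hi⟩ := (Ideal.IsPrime.prod_mem_iff (p := p.asIdeal)).1 h
      exact hu i hi
    let mk1 : P₁ →ₗ[R] κ ⊗[R] P₁ := TensorProduct.mk R κ P₁ 1
    let τ : P₂ →ₗ[R] κ ⊗[R] P₁ := U • (σ.restrictScalars R ∘ₗ TensorProduct.mk R κ P₂ 1)
    have hτ : ∀ y, τ y ∈ LinearMap.range mk1 := by
      suffices h : (⊤ : Submodule R P₂) ≤ (LinearMap.range mk1).comap τ from fun y => h Submodule.mem_top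
      rw [← hg, Submodule.span_le]
      rintro _ ⟨i, rfl⟩
      refine ⟨(∏ j ∈ Finset.univ.erase i, u j) • x i, ?_⟩
      simp only [mk1, τ, map_smul, TensorProduct.mk_apply, LinearMap.smul_apply, LinearMap.comp_apply,
        LinearMap.restrictScalars_apply, ← hx i, smul_smul]
      simp only [U]
      rw [Finset.prod_erase_mul _ _ (Finset.mem_univ i)]
    obtain ⟨r, hr⟩ := Module.projective_lifting_property mk1.rangeRestrict (τ.codRestrict _ hτ)
      mk1.surjective_rangeRestrict
    let g' : Module.End R P₁ := r ∘ₗ φ - algebraMap R _ U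
    have hg' : LinearMap.range g' ≤ p.asIdeal • (⊤ : Submodule R P₁) := by
      rintro _ ⟨y, rfl⟩
      refine mem_smul_top_of_residue_eq_zero p.asIdeal _ ?_
      have h1 : (1 : κ) ⊗ₜ[R] r (φ y) = U • σ ((1 : κ) ⊗ₜ[R] φ y) :=
        congrArg Subtype.val (DFunLike.congr_fun hr (φ y))
      have h2 : σ ((1 : κ) ⊗ₜ[R] φ y) = (1 : κ) ⊗ₜ[R] y := DFunLike.congr_fun hσ ((1 : κ) ⊗ₜ[R] y)
      simp only [g', LinearMap.sub_apply, LinearMap.comp_apply, Module.algebraMap_end_apply]
      rw [tmul_sub, h1, h2, ← tmul_smul, sub_self]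
    obtain ⟨Q, hQ, -, hcoef, hQg⟩ :=
      LinearMap.exists_monic_and_natDegree_eq_and_coeff_mem_pow_and_aeval_eq_zero R g' p.asIdeal hg'
    have hev : Q.eval (-U) ∉ p.asIdeal := by
      intro h
      rw [Polynomial.eval_eq_sum_range, Finset.sum_range_succ, hQ.coeff_natDegree, one_mul] at h
      have h3 : ∑ k ∈ Finset.range Q.natDegree, Q.coeff k * (-U) ^ k ∈ p.asIdeal :=
        sum_mem fun k hk => Ideal.mul_mem_right _ _
          (Ideal.pow_le_self (Nat.sub_ne_zero_of_lt (Finset.mem_range.1 hk)) (hcoef k))
      have h4 := (Submodule.add_mem_iff_right p.asIdeal h3).1 h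
      exact hU (by simpa using p.isPrime.mem_of_pow_mem _ h4)
    intro hle
    refine hev (hle ?_)
    obtain ⟨h, hh⟩ := Polynomial.X_sub_C_dvd_sub_C_eval (a := -U) (p := Q)
    rw [mul_comm] at hh
    have h5 := congrArg (Polynomial.aeval g') hh
    rw [map_sub, hQg, map_mul, map_sub, Polynomial.aeval_X, Polynomial.aeval_C, Polynomial.aeval_C] at h5
    refine ⟨-(Polynomial.aeval g' h ∘ₗ r), LinearMap.ext fun y => ?_⟩
    have h6 := DFunLike.congr_fun h5 y
    simp only [LinearMap.sub_apply, Module.End.mul_apply, LinearMap.zero_apply, g',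
      Module.algebraMap_end_apply, LinearMap.comp_apply, zero_sub, map_neg, LinearMap.neg_apply] at h6
    simp only [LinearMap.neg_apply, LinearMap.comp_apply, LinearMap.smul_apply, LinearMap.id_apply]
    rw [sub_neg_eq_add, sub_add_cancel] at h6
    rw [← h6, neg_neg]
  · intro hne
    obtain ⟨u, ⟨r, hr⟩, hu⟩ := SetLike.not_le_iff_exists.1 hne
    intro a b hab
    have := congrArg (r.lTensor κ) hab
    rw [← LinearMap.comp_apply, ← LinearMap.comp_apply, ← LinearMap.lTensor_comp, hr, LinearMap.lTensor_smul,
      LinearMap.lTensor_id, LinearMap.smul_apply, LinearMap.smul_apply, LinearMap.id_apply, LinearMap.id_apply,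
      ← algebraMap_smul κ u, ← algebraMap_smul κ u] at this
    exact (smul_right_injective _ (by rwa [Ne, Ideal.algebraMap_residueField_eq_zero])) this

theorem isOpen_injective_locus [Module.Finite R P₁] [Module.Projective R P₁] [Module.Finite R P₂] [Module.Projective R P₂]
    (φ : P₁ →ₗ[R] P₂) : IsOpen {p : PrimeSpectrum R | Function.Injective (φ.lTensor p.asIdeal.ResidueField)} := by
  simp only [residue_injective_iff]
  exact (PrimeSpectrum.isClosed_zeroLocus (splitIdeal φ : Set R)).isOpen_compl

theorem split_away [Module.Finite R P₁] [Module.Projective R P₁] [Module.Finite R P₂] [Module.Projective R P₂]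
    (φ : P₁ →ₗ[R] P₂) (f : R)
    (h : (↑(PrimeSpectrum.basicOpen f) : Set (PrimeSpectrum R)) ⊆
      {p : PrimeSpectrum R | Function.Injective (φ.lTensor p.asIdeal.ResidueField)}) :
    Function.Injective (LocalizedModule.map (Submonoid.powers f) φ) ∧
      Module.Finite (Localization.Away f) (LocalizedModule (Submonoid.powers f) (P₂ ⧸ LinearMap.range φ)) ∧
      Module.Projective (Localization.Away f) (LocalizedModule (Submonoid.powers f) (P₂ ⧸ LinearMap.range φ)) := by
  let S := Submonoid.powers f
  have hrad : f ∈ (splitIdeal φ).radical := by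
    rw [Ideal.radical_eq_sInf, Submodule.mem_sInf]
    rintro J ⟨hJ, hJp⟩
    by_contra hfJ
    exact (residue_injective_iff φ ⟨J, hJp⟩).1 (h hfJ) hJ
  obtain ⟨k, r, hr⟩ := hrad
  let g := LocalizedModule.map S φ
  let A := Localization.Away f
  obtain ⟨v, hv⟩ := (IsLocalization.map_units A (⟨f ^ k, k, rfl⟩ : S)).exists_left_inv
  let rr := v • LocalizedModule.map S r
  have hrg : rr ∘ₗ g = LinearMap.id := by
    refine LinearMap.ext fun z => ?_
    induction z using LocalizedModule.induction_on with
    | _ m s =>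
      simp only [rr, g, LinearMap.comp_apply, LinearMap.smul_apply, LocalizedModule.map_mk, LinearMap.id_apply]
      rw [← LinearMap.comp_apply r φ, hr, LinearMap.smul_apply, LinearMap.id_apply, ← LocalizedModule.smul'_mk,
        ← algebraMap_smul A (f ^ k), smul_smul, hv, one_smul]
  have hinj : Function.Injective g := fun a b hab => by
    simpa [← LinearMap.comp_apply, hrg] using congrArg rr hab
  refine ⟨hinj, inferInstance, ?_⟩
  let q := LocalizedModule.map S (LinearMap.range φ).mkQ
  have hex : Function.Exact g q := LocalizedModule.map_exact S φ _ (LinearMap.exact_map_mkQ_range φ)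
  have hq : Function.Surjective q := LocalizedModule.map_surjective S _ (Submodule.mkQ_surjective _)
  let qe := hex.linearEquivOfSurjective hq
  let e₀ := (LinearMap.range g).liftQ (LinearMap.id - g ∘ₗ rr) (by
    rintro _ ⟨z, rfl⟩
    simp [← LinearMap.comp_apply rr g, hrg])
  refine Module.Projective.of_split (e₀ ∘ₗ qe.symm.toLinearMap) q (LinearMap.ext fun y => ?_)
  obtain ⟨w, rfl⟩ := hq y
  have : qe.symm (q w) = Submodule.Quotient.mk w := qe.symm_apply_eq.2 rfl
  simp [this, e₀, hex.apply_apply_eq_zero]

end Groth.Agent.CAlgLow
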