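import Groth.Prelude.Def_Found
import Mathlib.RingTheory.Localization.Integral
import Mathlib.RingTheory.Localization.LocalizationLocalization
import Mathlib.RingTheory.IntegralClosure.IsIntegralClosure.Basic

/-!
# Finiteness of integral closures under localisation
-/

set_option autoImplicit false

universe u

namespace Groth.Agent.CAlgLow

theorem finite_integralClosure_of_isLocalization {R S : Type u} [CommRing R] [CommRing S] [Algebra R S]
    (M : Submonoid R) [IsLocalization M S] (L : Type u) [CommRing L] [Algebra R L] [Algebra S L]
    [IsScalarTower R S L] (h : Module.Finite R (integralClosure R L)) :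
    Module.Finite S (integralClosure S L) := by
  classical
  obtain ⟨s, hs⟩ := h.fg_top
  let φ : integralClosure R L →ₗ[R] L := (integralClosure R L).val.toLinearMap
  have key : Subalgebra.toSubmodule (integralClosure S L) = Submodule.span S ((s.image φ : Finset L) : Set L) := by
    refine le_antisymm (fun x hx => ?_) (Submodule.span_le.2 fun y hy => ?_)
    · obtain ⟨m, hm⟩ := IsIntegral.exists_multiple_integral_of_isLocalization M (Rₘ := S) x hx
      have h1 : m • x ∈ Submodule.span R ((s.image φ : Finset L) : Set L) := by
        rw [Finset.coe_image, ← Submodule.map_span, hs]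
        exact ⟨⟨m • x, hm⟩, Submodule.mem_top, rfl⟩
      have h2 := Submodule.span_le_restrictScalars R S ((s.image φ : Finset L) : Set L) h1
      obtain ⟨u, hu⟩ := (IsLocalization.map_units S m).exists_left_inv
      have h3 := Submodule.smul_mem (Submodule.span S ((s.image φ : Finset L) : Set L)) u h2
      rwa [Submonoid.smul_def, ← algebraMap_smul S (m : R) x, smul_smul, hu, one_smul] at h3
    · obtain ⟨z, -, rfl⟩ := Finset.mem_image.1 hy
      exact (z.2 : IsIntegral R (z : L)).tower_top
  exact Module.Finite.iff_fg.2 ⟨_, key.symm⟩

theorem exists_lift_fractionRing {R S : Type u} [CommRing R] [IsDomain R] [CommRing S] [IsDomain S] [Algebra R S]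
    (M : Submonoid R) [IsLocalization M S] :
    ∃ (_ : Algebra S (FractionRing R)) (_ : IsScalarTower R S (FractionRing R)),
      IsFractionRing S (FractionRing R) := by
  have hM : M ≤ nonZeroDivisors R := fun m hm => mem_nonZeroDivisors_of_ne_zero fun h0 => by
    have := (IsLocalization.map_units S ⟨m, hm⟩).ne_zero
    simp [h0] at this
  have hu : ∀ y : M, IsUnit (algebraMap R (FractionRing R) y) := fun y =>
    IsLocalization.map_units (FractionRing R) (⟨y, hM y.2⟩ : nonZeroDivisors R)
  let _ : Algebra S (FractionRing R) := (IsLocalization.lift hu).toAlgebra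
  have : IsScalarTower R S (FractionRing R) :=
    IsScalarTower.of_algebraMap_eq fun r => (IsLocalization.lift_eq hu r).symm
  exact ⟨_, this, IsFractionRing.isFractionRing_of_isLocalization M S (FractionRing R) hM⟩

theorem isN1_of_isLocalization {R S : Type u} [CommRing R] [IsDomain R] [CommRing S] [IsDomain S] [Algebra R S]
    (M : Submonoid R) [IsLocalization M S] (h : CAlg.IsN1 R) : CAlg.IsN1 S := by
  obtain ⟨_, _, _⟩ := exists_lift_fractionRing (S := S) M
  have := finite_integralClosure_of_isLocalization (S := S) M (FractionRing R) h
  exact Module.Finite.equiv (FractionRing.algEquiv S (FractionRing R)).symm.mapIntegralClosure.toLinearEquiv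

theorem isN2_of_isLocalization {R S : Type u} [CommRing R] [IsDomain R] [CommRing S] [IsDomain S] [Algebra R S]
    (M : Submonoid R) [IsLocalization M S] (h : CAlg.IsN2 R) : CAlg.IsN2 S := by
  obtain ⟨_, _, _⟩ := exists_lift_fractionRing (S := S) M
  intro L _ _ _ _ hfd
  let e := FractionRing.algEquiv S (FractionRing R)
  let _ : Algebra (FractionRing R) L := ((algebraMap (FractionRing S) L).comp e.symm.toRingEquiv.toRingHom).toAlgebra
  let _ : Algebra R L := ((algebraMap S L).comp (algebraMap R S)).toAlgebra
  have : IsScalarTower R S L := IsScalarTower.of_algebraMap_eq fun _ => rfl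
  have : IsScalarTower R (FractionRing R) L := IsScalarTower.of_algebraMap_eq fun r => by
    change algebraMap S L (algebraMap R S r) = algebraMap (FractionRing S) L (e.symm (algebraMap R (FractionRing R) r))
    rw [IsScalarTower.algebraMap_apply R S (FractionRing R), AlgEquiv.commutes]
    exact IsScalarTower.algebraMap_apply S (FractionRing S) L _
  have : FiniteDimensional (FractionRing R) L := by
    obtain ⟨s, hs⟩ := hfd.fg_top
    refine ⟨⟨s, eq_top_iff.2 fun x hxt => ?_⟩⟩
    clear hxt
    have hx : x ∈ Submodule.span (FractionRing S) (s : Set L) := hs ▸ Submodule.mem_top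
    induction hx using Submodule.span_induction with
    | mem y hy => exact Submodule.subset_span hy
    | zero => exact zero_mem _
    | add a b _ _ ha hb => exact add_mem ha hb
    | smul c a _ ha =>
      have := Submodule.smul_mem _ (e c) ha
      rwa [Algebra.smul_def, RingHom.algebraMap_toAlgebra, RingHom.comp_apply,
        show e.symm.toRingEquiv.toRingHom (e c) = c from e.symm_apply_apply c, ← Algebra.smul_def] at this
  exact finite_integralClosure_of_isLocalization (S := S) M L (h L inferInstance)

end Groth.Agent.CAlgLow
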