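import Mathlib
import Groth.Prelude.Def_Found
import Groth.Agent.Lib.CAlgLow.N1Loc

/-! # The criterion for N-1 -/

set_option autoImplicit false
universe u

namespace Groth.Agent.CAlgLow

/-- Divisibility by powers of `f` up to multipliers, tested at associated primes of `C/fC`. -/
theorem exists_multiplier_dvd {C : Type u} [CommRing C] [IsDomain C] [IsNoetherianRing C] (S : Submonoid C)
    (f : C) (hf : f ≠ 0) : ∀ (n : ℕ) (c : C),
    (∀ q : Ideal C, IsAssociatedPrime q (C ⧸ Ideal.span {f}) → Disjoint (q : Set C) S →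
      ∃ t : C, t ∉ q ∧ f ^ n ∣ t * c) → ∃ s ∈ S, f ^ n ∣ s * c := by
  intro n
  induction n with
  | zero => exact fun c _ => ⟨1, S.one_mem, by simp⟩
  | succ n ih =>
    intro c hc
    let J := (⊥ : Submodule C (C ⧸ Ideal.span {f})).colon {Ideal.Quotient.mk (Ideal.span {f}) c}
    have hJ : ∀ a : C, a ∈ J ↔ f ∣ a * c := fun a => by
      rw [Submodule.mem_colon_singleton, Submodule.mem_bot, Algebra.smul_def, Ideal.Quotient.algebraMap_eq,
        ← map_mul, Ideal.Quotient.eq_zero_iff_dvd]
    have hmeet : ∃ s ∈ S, s ∈ J := by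
      by_contra! hno
      obtain ⟨P, hP, hJP, hPS⟩ := Ideal.exists_le_prime_disjoint J S
        (Set.disjoint_left.mpr fun a ha has => hno a has ha)
      haveI := hP
      obtain ⟨q, hq, hqP⟩ := Ideal.exists_minimalPrimes_le hJP
      have hass : IsAssociatedPrime q (C ⧸ Ideal.span {f}) :=
        isAssociatedPrime_iff.mpr ⟨hq.1.1, Submodule.exists_eq_colon_of_mem_minimalPrimes hq⟩
      obtain ⟨t, ht, hdvd⟩ := hc q hass (Set.disjoint_of_subset_left hqP hPS)
      exact ht (hq.1.2 ((hJ t).mpr ((dvd_pow_self f n.succ_ne_zero).trans hdvd)))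
    obtain ⟨s, hs, hsJ⟩ := hmeet
    obtain ⟨c', hc'⟩ := (hJ s).mp hsJ
    obtain ⟨s', hs', hdvd⟩ := ih c' fun q hq hd => by
      obtain ⟨t, ht, hdt⟩ := hc q hq hd
      refine ⟨t, ht, ?_⟩
      have h1 : f * f ^ n ∣ f * (t * c') := by
        rw [← pow_succ', mul_left_comm, ← hc', mul_left_comm]
        exact dvd_mul_of_dvd_right hdt s
      exact (mul_dvd_mul_iff_left hf).mp h1
    refine ⟨s' * s, S.mul_mem hs' hs, ?_⟩
    rw [mul_assoc, hc', mul_left_comm, pow_succ']
    exact mul_dvd_mul_left f hdvd

theorem finite_integralClosure_of_isN1 {S : Type u} [CommRing S] [IsDomain S] (K : Type u) [Field K] [Algebra S K]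
    [IsFractionRing S K] (h : CAlg.IsN1 S) : Module.Finite S (integralClosure S K) := by
  unfold CAlg.IsN1 at h
  exact Module.Finite.equiv (FractionRing.algEquiv S K).mapIntegralClosure.toLinearEquiv

/-- A domain normal away from `f` with finite local normalisations is N-1. -/
theorem isN1_of_exists_normal_localization (R : Type u) [CommRing R] [IsDomain R] [IsNoetherianRing R]
    (f : R) (hf : f ≠ 0) (hnf : IsIntegrallyClosed (Localization.Away f))
    (hloc : ∀ (m : Ideal R) [m.IsMaximal], CAlg.IsN1 (Localization.AtPrime m)) : CAlg.IsN1 R := by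
  classical
  let K := FractionRing R
  let N := integralClosure R K
  have hfz : ∀ z ∈ N, ∃ (n : ℕ) (a : R), algebraMap R K (f ^ n) * z = algebraMap R K a := by
    intro z hz
    haveI : IsDomain (Localization.Away f) :=
      IsLocalization.isDomain_localization (powers_le_nonZeroDivisors_of_noZeroDivisors hf)
    obtain ⟨_, _, _⟩ := exists_lift_fractionRing (R := R) (S := Localization.Away f) (Submonoid.powers f)
    obtain ⟨w, hw⟩ := IsIntegrallyClosed.isIntegral_iff.mp ((hz : IsIntegral R z).tower_top (A := Localization.Away f))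
    obtain ⟨⟨a, ⟨_, n, rfl⟩⟩, ha⟩ := IsLocalization.surj (Submonoid.powers f) w
    refine ⟨n, a, ?_⟩
    rw [mul_comm, ← hw, IsScalarTower.algebraMap_apply R (Localization.Away f) K (f ^ n), ← map_mul, ha,
      ← IsScalarTower.algebraMap_apply]
  -- local models
  have hmodel : ∀ m : Ideal R, m.IsMaximal → ∃ (C : Subalgebra R K) (I : Ideal R), C.FG ∧ C ≤ N ∧ ¬ I ≤ m ∧
      ∀ p : Ideal R, p.IsPrime → ¬ I ≤ p → ∀ z ∈ N, ∃ s ∉ p, s • z ∈ C := by
    intro m hm
    haveI := hm
    obtain ⟨_, _, _⟩ := exists_lift_fractionRing (R := R) (S := Localization.AtPrime m) m.primeCompl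
    have hfin : Module.Finite (Localization.AtPrime m) (integralClosure (Localization.AtPrime m) K) :=
      finite_integralClosure_of_isN1 K (hloc m)
    obtain ⟨G, hG⟩ := hfin.fg_top
    have hscale : ∀ g : G, ∃ s : R, s ∉ m ∧ s • ((g : integralClosure (Localization.AtPrime m) K) : K) ∈ N := fun g => by
      obtain ⟨s, hs⟩ := IsIntegral.exists_multiple_integral_of_isLocalization m.primeCompl _ g.1.2
      exact ⟨s, s.2, hs⟩
    choose s hs hsN using hscale
    let C : Subalgebra R K := Algebra.adjoin R (Set.range fun g : G => s g • (g.1 : K))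
    have hCfg : C.FG := Subalgebra.fg_def.mpr ⟨_, Set.finite_range _, rfl⟩
    have hCN : C ≤ N := Algebra.adjoin_le (by rintro _ ⟨g, rfl⟩; exact hsN g)
    have hCfin : Module.Finite R C := Module.Finite.iff_fg.mpr
      (fg_adjoin_of_finite (Set.finite_range _) (by rintro _ ⟨g, rfl⟩; exact hsN g))
    haveI := hCfin
    haveI : IsNoetherianRing C := IsNoetherianRing.of_finite R C
    have hCm : ∀ z ∈ N, ∃ t : R, t ∉ m ∧ t • z ∈ C := by
      intro z hz
      let W : Submodule (Localization.AtPrime m) K := Submodule.span _ (C : Set K)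
      have hzW : z ∈ W := by
        have hz' : (⟨z, (hz : IsIntegral R z).tower_top⟩ : integralClosure (Localization.AtPrime m) K) ∈
            Submodule.span (Localization.AtPrime m) (G : Set (integralClosure (Localization.AtPrime m) K)) :=
          hG ▸ Submodule.mem_top
        have := Submodule.mem_map_of_mem (f := (integralClosure (Localization.AtPrime m) K).val.toLinearMap) hz'
        rw [Submodule.map_span] at this
        refine Submodule.span_le.mpr ?_ this
        rintro _ ⟨g, hg, rfl⟩
        have hmem : s ⟨g, hg⟩ • (g : K) ∈ W := Submodule.subset_span (Algebra.subset_adjoin ⟨⟨g, hg⟩, rfl⟩)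
        rw [← IsScalarTower.algebraMap_smul (Localization.AtPrime m)] at hmem
        exact (W.smul_mem_iff' (IsLocalization.map_units (Localization.AtPrime m)
          (⟨s ⟨g, hg⟩, hs _⟩ : m.primeCompl)).unit).mp hmem
      clear hz
      induction hzW using Submodule.span_induction with
      | mem y hy => exact ⟨1, hm.isPrime.one_notMem, by rw [one_smul]; exact hy⟩
      | zero => exact ⟨1, hm.isPrime.one_notMem, by rw [smul_zero]; exact zero_mem _⟩
      | add a b _ _ ha hb =>
        obtain ⟨t, ht, hta⟩ := ha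
        obtain ⟨t', ht', htb⟩ := hb
        refine ⟨t * t', fun h => (hm.isPrime.mem_or_mem h).elim ht ht', ?_⟩
        rw [smul_add, mul_smul, mul_smul t t' b, smul_comm t t']
        exact add_mem (C.smul_mem hta t') (C.smul_mem htb t)
      | smul r a _ ha =>
        obtain ⟨t, ht, hta⟩ := ha
        obtain ⟨⟨r', u⟩, hru⟩ := IsLocalization.surj m.primeCompl r
        refine ⟨t * u, fun h => (hm.isPrime.mem_or_mem h).elim ht u.2, ?_⟩
        have h1 : (u : R) • r • a = r' • a := by
          rw [← IsScalarTower.algebraMap_smul (Localization.AtPrime m) (u : R) (r • a), smul_smul, mul_comm, hru,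
            IsScalarTower.algebraMap_smul]
        rw [mul_smul, h1, smul_comm]
        exact C.smul_mem hta r'
    let F : C := algebraMap R C f
    have hF0 : F ≠ 0 := fun h => hf (IsFractionRing.injective R K ((congrArg Subtype.val h).trans (map_zero _).symm))
    let bad : Set (Ideal C) := {q | IsAssociatedPrime q (C ⧸ Ideal.span {F}) ∧
      ¬ ∀ z ∈ N, ∃ t : C, t ∉ q ∧ (t : K) * z ∈ C}
    have hbad : bad.Finite := (associatedPrimes.finite C (C ⧸ Ideal.span {F})).subset fun q hq => hq.1
    refine ⟨C, ∏ q ∈ hbad.toFinset, q.comap (algebraMap R C), hCfg, hCN, fun hle => ?_, fun p hp hIp z hz => ?_⟩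
    · obtain ⟨q, hq, hqm⟩ := hm.isPrime.prod_le.mp hle
      obtain ⟨-, hqb⟩ := hbad.mem_toFinset.mp hq
      refine hqb fun z hz => ?_
      obtain ⟨t, ht, htz⟩ := hCm z hz
      exact ⟨algebraMap R C t, fun h => ht (hqm h), by rw [Algebra.smul_def] at htz; exact htz⟩
    · obtain ⟨n, a, hna⟩ := hfz z hz
      obtain ⟨w, hw, hdvd⟩ := exists_multiplier_dvd (Algebra.algebraMapSubmonoid C p.primeCompl) F hF0 n
        (algebraMap R C a) fun q hq hd => by
          by_cases hqb : q ∈ bad
          · exfalso
            refine hIp ((hp.prod_le).mpr ⟨q, hbad.mem_toFinset.mpr hqb, fun x hx => ?_⟩)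
            by_contra hxp
            exact Set.disjoint_left.mp hd hx ⟨x, hxp, rfl⟩
          · simp only [bad, Set.mem_ofPred_eq, hq, true_and, not_not] at hqb
            obtain ⟨t, ht, htz⟩ := hqb z hz
            refine ⟨t, ht, ⟨⟨_, htz⟩, Subtype.ext ?_⟩⟩
            show (t : K) * algebraMap R K a = _
            simp only [Subalgebra.coe_mul, Subalgebra.coe_pow, F, Subalgebra.coe_algebraMap, ← map_pow]
            rw [← hna]; ring
      obtain ⟨s', hs', rfl⟩ := hw
      obtain ⟨d, hd⟩ := hdvd
      refine ⟨s', hs', ?_⟩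
      have h2 := congrArg Subtype.val hd
      simp only [Subalgebra.coe_mul, Subalgebra.coe_pow, F, Subalgebra.coe_algebraMap, ← map_pow] at h2
      rw [← hna, mul_left_comm] at h2
      have hfn : algebraMap R K (f ^ n) ≠ 0 := fun h => pow_ne_zero n hf (IsFractionRing.injective R K (h.trans (map_zero _).symm))
      rw [Algebra.smul_def, mul_left_cancel₀ hfn h2]
      exact d.2
  choose C I hfg hCN hIm hcov using fun m : {m : Ideal R // m.IsMaximal} => hmodel m.1 m.2
  have hsup : (⨆ m, I m) = ⊤ := by
    by_contra hne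
    obtain ⟨m, hm, hle⟩ := Ideal.exists_le_maximal _ hne
    exact hIm ⟨m, hm⟩ ((le_iSup I _).trans hle)
  obtain ⟨T, hT⟩ := Submodule.exists_finset_of_mem_iSup I ((Ideal.eq_top_iff_one _).mp hsup)
  let D : Subalgebra R K := T.sup C
  have hD : D = N := by
    refine le_antisymm (Finset.sup_le fun m _ => hCN m) fun z hz => ?_
    let J : Ideal R := (Subalgebra.toSubmodule D).comap (LinearMap.toSpanSingleton R K z)
    suffices hJ : (1 : R) ∈ J by simpa [J] using hJ
    by_contra h1
    obtain ⟨m', hm', hle⟩ := Ideal.exists_le_maximal J (fun h => h1 (h ▸ Submodule.mem_top))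
    have hall : ∀ m ∈ T, I m ≤ m' := fun m hmT => by
      by_contra hnot
      obtain ⟨s, hs, hsz⟩ := hcov m m' hm'.isPrime hnot z hz
      exact hs (hle ((Finset.le_sup hmT : C m ≤ D) hsz))
    exact hm'.ne_top ((Ideal.eq_top_iff_one _).mpr ((iSup₂_le hall) hT))
  have hDfg : D.FG := Finset.sup_induction Subalgebra.fg_bot (fun _ ha _ hb => ha.sup hb) fun m _ => hfg m
  rw [CAlg.IsN1]
  obtain ⟨G, hG⟩ := hDfg
  refine Module.Finite.iff_fg.mpr (?_ : (Subalgebra.toSubmodule N).FG)
  rw [← hD, ← hG]
  exact fg_adjoin_of_finite G.finite_toSet fun x hx => (hD.le (hG ▸ Algebra.subset_adjoin hx) : x ∈ N)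

end Groth.Agent.CAlgLow
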