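import Mathlib
import Groth.Prelude.Def_Found
import Groth.Agent.Lib.NormFin18.Finite
import Groth.Agent.Lib.CAlgLow.N1Loc

/-! # Nagata is inherited by finite algebras -/

set_option autoImplicit false
universe u

namespace Groth.Agent.CAlgLow

theorem isN2_of_finite {R S : Type u} [CommRing R] (hR : CAlg.IsNagata R) [CommRing S] [IsDomain S] [Algebra R S]
    [Module.Finite R S] : CAlg.IsN2 S := by
  intro L _ _ _ _ hfin
  haveI := hfin
  letI : Algebra R L := ((algebraMap S L).comp (algebraMap R S)).toAlgebra
  haveI : IsScalarTower R S L := .of_algebraMap_eq fun _ => rfl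
  haveI : Algebra.EssFiniteType S (FractionRing S) := Algebra.EssFiniteType.of_isLocalization _ (nonZeroDivisors S)
  haveI : Algebra.EssFiniteType S L := Algebra.EssFiniteType.comp S (FractionRing S) L
  haveI : Algebra.EssFiniteType R L := Algebra.EssFiniteType.comp R S L
  haveI := hR.1
  haveI : Module.Finite R (integralClosure R L) := NormFin18.finite_integralClosure_field R L hR
  haveI : Algebra.IsIntegral R S := Algebra.IsIntegral.of_finite R S
  let g : integralClosure S L →ₗ[R] integralClosure R L :=
    { toFun := fun z => ⟨z.1, isIntegral_trans _ z.2⟩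
      map_add' := fun _ _ => rfl
      map_smul' := fun _ _ => rfl }
  haveI : Module.Finite R (integralClosure S L) :=
    Module.Finite.of_injective g fun a b h => Subtype.ext (congrArg Subtype.val h :)
  exact Module.Finite.of_restrictScalars_finite R S _

theorem isNagata_of_finite {R : Type u} [CommRing R] (hR : CAlg.IsNagata R) (S : Type u) [CommRing S] [Algebra R S]
    [Module.Finite R S] : CAlg.IsNagata S :=
  haveI := hR.1
  ⟨IsNoetherianRing.of_finite R S, fun q _ => isN2_of_finite (R := R) hR⟩

theorem isNagata_of_surjective {R S : Type u} [CommRing R] (hR : CAlg.IsNagata R) [CommRing S] (f : R →+* S)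
    (hf : Function.Surjective f) : CAlg.IsNagata S := by
  letI := f.toAlgebra
  haveI : Module.Finite R S := Module.Finite.of_surjective (Algebra.linearMap R S) hf
  exact isNagata_of_finite hR S

/-- Quotient domains of a localization of a ring with Japanese quotient domains are Japanese. -/
theorem isN2_quotient_of_isLocalization {S L : Type u} [CommRing S] [CommRing L] [Algebra S L] (M : Submonoid S)
    [IsLocalization M L] (q : Ideal L) [q.IsPrime]
    (h : CAlg.IsN2 (S ⧸ q.comap (algebraMap S L))) : CAlg.IsN2 (L ⧸ q) := by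
  let q' := q.comap (algebraMap S L)
  let f : S ⧸ q' →+* L ⧸ q := Ideal.quotientMap q (algebraMap S L) le_rfl
  letI : Algebra (S ⧸ q') (L ⧸ q) := f.toAlgebra
  haveI : IsLocalization (M.map (Ideal.Quotient.mk q')) (L ⧸ q) := by
    refine ⟨?_, fun z => ?_, fun {a b} hab => ?_⟩
    · rintro ⟨_, m, hm, rfl⟩
      exact (IsLocalization.map_units L ⟨m, hm⟩).map (Ideal.Quotient.mk q)
    · obtain ⟨z, rfl⟩ := Ideal.Quotient.mk_surjective z
      obtain ⟨⟨s, m⟩, hsm⟩ := IsLocalization.surj M z
      exact ⟨⟨Ideal.Quotient.mk q' s, ⟨_, m.1, m.2, rfl⟩⟩, congrArg (Ideal.Quotient.mk q) hsm⟩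
    · exact ⟨1, by rw [(Ideal.quotientMap_injective : Function.Injective f) hab]⟩
  exact isN2_of_isLocalization (M.map (Ideal.Quotient.mk q')) h

end Groth.Agent.CAlgLow
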