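import Mathlib
import Groth.Prelude.Def_Found
import Groth.Agent.Lib.CAlgLow.NagataFinite
import Groth.Agent.Lib.CAlgLow.AnUnramNagata
import Groth.Agent.Lib.CAlgLow.N1Crit
import Groth.Agent.Lib.CplLocH7.Basic
import Groth.Agent.S2072

/-! # Monogenic birational extensions of normal Nagata domains are N-1 -/

set_option autoImplicit false
universe u

open Polynomial TensorProduct IsLocalRing

namespace Groth.Agent.CAlgLow

variable {R : Type u} [CommRing R] [IsDomain R] [IsIntegrallyClosed R] {K : Type u} [Field K] [Algebra R K]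
  [IsFractionRing R K]

theorem aeval_mem_range_of_mul_mem {x : K} : ∀ (n : ℕ) (g : R[X]), g.natDegree ≤ n →
    x * aeval x g ∈ Set.range (algebraMap R K) → aeval x g ∈ Set.range (algebraMap R K) := by
  intro n
  induction n with
  | zero =>
    intro g hg _
    rw [eq_C_of_natDegree_le_zero hg, aeval_C]
    exact ⟨_, rfl⟩
  | succ n ih =>
    intro g hg hx
    by_cases hlt : g.natDegree ≤ n
    · exact ih g hlt hx
    replace hg : g.natDegree = n + 1 := by omega
    obtain ⟨b, hb⟩ := hx
    let c := g.leadingCoeff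
    have hdeg : (X * g).natDegree = n + 2 := by
      rw [natDegree_X_mul (ne_zero_of_natDegree_gt (by omega : n < g.natDegree)), hg]
    have hlead : (X * g - C b).leadingCoeff = c := by
      rw [leadingCoeff_sub_of_degree_lt]
      · rw [leadingCoeff_mul, leadingCoeff_X, one_mul]
      · exact lt_of_le_of_lt degree_C_le (natDegree_pos_iff_degree_pos.mp (by omega))
    have hint : IsIntegral R (c • x) := by
      rw [← hlead]
      exact isIntegral_leadingCoeff_smul _ _ (by simp [hb])
    obtain ⟨d, hd⟩ := IsIntegrallyClosed.isIntegral_iff.mp hint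
    have h1 : aeval x g = aeval x (g.eraseLead + C d * X ^ n) := by
      conv_lhs => rw [← g.eraseLead_add_C_mul_X_pow]
      simp only [map_add, map_mul, aeval_C, map_pow, aeval_X, hg, hd, Algebra.smul_def, pow_succ, c]
      ring
    rw [h1]
    refine ih _ (natDegree_add_le_of_degree_le ?_ (natDegree_C_mul_X_pow_le d n)) ?_
    · exact (eraseLead_natDegree_le g).trans (by omega)
    · rw [← h1, ← hb]; exact ⟨b, rfl⟩

theorem exists_aeval_eq {x : K} (z : Algebra.adjoin R ({x} : Set K)) : ∃ g : R[X], aeval x g = (z : K) := by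
  exact (SetLike.ext_iff.mp (Algebra.adjoin_singleton_eq_range_aeval R x) _).mp z.2

omit [IsDomain R] in
theorem isReduced_cpl_of_forall_isN2 (L : Type u) [CommRing L] [IsDomain L] [IsLocalRing L] [IsNoetherianRing L]
    (hN : ∀ (q : Ideal L) [q.IsPrime], CAlg.IsN2 (L ⧸ q)) : IsReduced (AdicCompletion (maximalIdeal L) L) := by
  haveI : Module.FaithfullyFlat L (AdicCompletion (maximalIdeal L) L) := CplLocH7.faithfullyFlat_cpl L
  haveI : IsNoetherianRing (AdicCompletion (maximalIdeal L) L) := CplLocH7.isNoetherianRing_cpl L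
  haveI : IsReduced (L ⊗[L] AdicCompletion (maximalIdeal L) L) :=
    AnUnram.isReduced_tensor_of_forall_isN2 hN _ (CplLocH7.maximalIdeal_cpl L) (fun y => by
      obtain ⟨y, rfl⟩ := residue_surjective y
      obtain ⟨a, ha⟩ := CplLocH7.exists_sub_mem_pow (A := L) 1 y
      refine ⟨a, ?_⟩
      rw [pow_one, ← residue_eq_zero_iff, map_sub, sub_eq_zero] at ha
      exact ha.symm) ⊥ L inferInstance (by simp [RingHom.ker_eq_bot_iff_eq_zero])
  exact isReduced_of_injective (Algebra.TensorProduct.lid L (AdicCompletion (maximalIdeal L) L)).symm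
    (AlgEquiv.injective _)

omit [IsDomain R] in
theorem isReduced_quotient_map_cpl (L : Type u) [CommRing L] [IsLocalRing L] [IsNoetherianRing L]
    (P : Ideal L) [P.IsPrime] (hN : ∀ (q : Ideal L) [q.IsPrime], P ≤ q → CAlg.IsN2 (L ⧸ q)) :
    IsReduced (AdicCompletion (maximalIdeal L) L ⧸ P.map (algebraMap L (AdicCompletion (maximalIdeal L) L))) := by
  haveI : Module.FaithfullyFlat L (AdicCompletion (maximalIdeal L) L) := CplLocH7.faithfullyFlat_cpl L
  haveI : IsNoetherianRing (AdicCompletion (maximalIdeal L) L) := CplLocH7.isNoetherianRing_cpl L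
  haveI : IsReduced ((L ⧸ P) ⊗[L] AdicCompletion (maximalIdeal L) L) :=
    AnUnram.isReduced_tensor_of_forall_isN2_above P hN _ (CplLocH7.maximalIdeal_cpl L) (fun y => by
      obtain ⟨y, rfl⟩ := residue_surjective y
      obtain ⟨b, hb⟩ := CplLocH7.exists_sub_mem_pow (A := L) 1 y
      refine ⟨b, ?_⟩
      rw [pow_one, ← residue_eq_zero_iff, map_sub, sub_eq_zero] at hb
      exact hb.symm) _ le_rfl (L ⧸ P) inferInstance Ideal.mk_ker
  haveI : IsReduced (AdicCompletion (maximalIdeal L) L ⊗[L] (L ⧸ P)) :=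
    isReduced_of_injective (Algebra.TensorProduct.comm L (AdicCompletion (maximalIdeal L) L) (L ⧸ P))
      (AlgEquiv.injective _)
  exact isReduced_of_injective (Algebra.TensorProduct.quotIdealMapEquivTensorQuot (AdicCompletion (maximalIdeal L) L) P)
    (AlgEquiv.injective _)

/-- Local rings of monogenic birational extensions at points over `x = 0` are analytically unramified. -/
theorem isReduced_cpl_monogenic [IsNoetherianRing R] (hR : CAlg.IsNagata R) {x : K}
    (m : Ideal (Algebra.adjoin R ({x} : Set K))) [m.IsMaximal]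
    (hxm : (⟨x, Algebra.self_mem_adjoin_singleton R x⟩ : Algebra.adjoin R ({x} : Set K)) ∈ m)
    [IsNoetherianRing (Localization.AtPrime m)] :
    IsReduced (AdicCompletion (maximalIdeal (Localization.AtPrime m)) (Localization.AtPrime m)) := by
  classical
  rcases eq_or_ne x 0 with hx0 | hx0
  · subst hx0
    have hbot : Algebra.adjoin R ({0} : Set K) = ⊥ :=
      eq_bot_iff.mpr (Algebra.adjoin_le (Set.singleton_subset_iff.mpr (zero_mem _)))
    haveI : Module.Finite R (Algebra.adjoin R ({0} : Set K)) := Module.Finite.iff_fg.mpr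
      (fg_adjoin_of_finite (Set.finite_singleton _) (by rintro _ rfl; exact isIntegral_zero))
    have hN : ∀ (q : Ideal (Localization.AtPrime m)) [q.IsPrime], CAlg.IsN2 (Localization.AtPrime m ⧸ q) := fun q _ =>
      isN2_quotient_of_isLocalization m.primeCompl q (isN2_of_finite (R := R) hR)
    exact isReduced_cpl_of_forall_isN2 (Localization.AtPrime m) hN
  let S := Algebra.adjoin R ({x} : Set K)
  let xS : S := ⟨x, Algebra.self_mem_adjoin_singleton R x⟩
  haveI : Algebra.FiniteType R S :=
    Subalgebra.fg_iff_finiteType S |>.mp (Subalgebra.fg_def.mpr ⟨_, Set.finite_singleton x, rfl⟩)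
  haveI : IsNoetherianRing S := Algebra.FiniteType.isNoetherianRing R S
  have hxS : xS ≠ 0 := fun h => hx0 (congrArg Subtype.val h)
  obtain ⟨a, e, he, hae⟩ := IsFractionRing.div_surjective (A := R) x
  have he0 : algebraMap R K e ≠ 0 := IsFractionRing.to_map_ne_zero_of_mem_nonZeroDivisors he
  have hea : algebraMap R K a = algebraMap R K e * x := by rw [← hae, mul_div_cancel₀ _ he0]
  have ha0 : a ≠ 0 := fun h => mul_ne_zero he0 hx0 (by rw [← hea, h, map_zero])
  have hinjK : Function.Injective (algebraMap R K) := IsFractionRing.injective R K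
  have hdiv : ∀ b : R, (algebraMap R S b ∈ Ideal.span {xS}) ↔ a ∣ b * e := by
    intro b
    constructor
    · intro hb
      obtain ⟨w, hw⟩ := Ideal.mem_span_singleton'.mp hb
      obtain ⟨g, hg⟩ := exists_aeval_eq w
      have hwb : (w : K) * x = algebraMap R K b := congrArg Subtype.val hw
      obtain ⟨c, hc⟩ := aeval_mem_range_of_mul_mem g.natDegree g le_rfl ⟨b, by rw [hg, mul_comm, hwb]⟩
      refine ⟨c, hinjK ?_⟩
      rw [map_mul, map_mul, hc, hea, hg, ← hwb]
      ring
    · rintro ⟨c, hc⟩
      refine Ideal.mem_span_singleton'.mpr ⟨algebraMap R S c, Subtype.ext ?_⟩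
      show algebraMap R K c * x = algebraMap R K b
      apply mul_left_cancel₀ he0
      rw [mul_left_comm, ← hea, mul_comm, ← map_mul, ← hc, mul_comm b, map_mul]
  have hdec : ∀ z : S, ∃ (r : R) (w : S), z = algebraMap R S r + xS * w := by
    intro z
    obtain ⟨g, hg⟩ := exists_aeval_eq z
    refine ⟨g.coeff 0, aeval xS g.divX, ?_⟩
    have h1 : z = aeval xS g := Subtype.ext (by
      rw [← hg]; exact (Polynomial.aeval_algHom_apply S.val xS g))
    rw [h1]
    have h2 := congrArg (aeval xS) g.X_mul_divX_add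
    rw [map_add, map_mul, aeval_X, aeval_C] at h2
    rw [← h2, add_comm]
  -- structure of the associated primes of `S/xS`
  have hass : ∀ p : Ideal S, IsAssociatedPrime p (S ⧸ Ideal.span {xS}) →
      xS ∈ p ∧ IsAssociatedPrime (p.comap (algebraMap R S)) (R ⧸ Ideal.span {a}) ∧
      ∃ t : R, t ∉ p.comap (algebraMap R S) ∧ ∃ c ∈ p.comap (algebraMap R S), t * a = e * c := by
    intro p hp
    haveI := hp.isPrime
    obtain ⟨-, y, hy⟩ := isAssociatedPrime_iff.mp hp
    obtain ⟨y, rfl⟩ := Ideal.Quotient.mk_surjective y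
    have hmem : ∀ z : S, z ∈ p ↔ z * y ∈ Ideal.span {xS} := fun z => by
      rw [hy, Submodule.mem_colon_singleton, Submodule.mem_bot]
      change Ideal.Quotient.mk (Ideal.span {xS}) (z * y) = 0 ↔ _
      rw [Ideal.Quotient.eq_zero_iff_mem]
    obtain ⟨y₀, w, hyw⟩ := hdec y
    have hmem₀ : ∀ t : R, t ∈ p.comap (algebraMap R S) ↔ a ∣ t * (e * y₀) := fun t => by
      rw [Ideal.mem_comap, hmem, ← mul_assoc, mul_right_comm, ← hdiv, hyw, mul_add, map_mul]
      exact (Submodule.add_mem_iff_left _ (Ideal.mul_mem_left _ _ (Ideal.mul_mem_right _ _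
        (Ideal.mem_span_singleton_self xS))))
    have hxp : xS ∈ p := (hmem xS).mpr (Ideal.mul_mem_right _ _ (Ideal.mem_span_singleton_self xS))
    have hassR : IsAssociatedPrime (p.comap (algebraMap R S)) (R ⧸ Ideal.span {a}) := by
      refine isAssociatedPrime_iff.mpr ⟨inferInstance, Ideal.Quotient.mk _ (e * y₀), ?_⟩
      ext t
      rw [hmem₀, Submodule.mem_colon_singleton, Submodule.mem_bot, Algebra.smul_def, Ideal.Quotient.algebraMap_eq,
        ← map_mul, Ideal.Quotient.eq_zero_iff_dvd]
    refine ⟨hxp, hassR, ?_⟩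
    obtain ⟨hap, hdvr⟩ := AnUnram.isDVR_localization ha0 _ hassR
    haveI := hdvr
    let A := Localization.AtPrime (p.comap (algebraMap R S))
    have tr : ∀ b₁ b₂ : R, algebraMap R A b₁ ∣ algebraMap R A b₂ →
        ∃ t : R, t ∉ p.comap (algebraMap R S) ∧ ∃ c, t * b₂ = b₁ * c := by
      intro b₁ b₂ h
      rw [← Ideal.mem_span_singleton, ← Set.image_singleton, ← Ideal.map_span,
        IsLocalization.algebraMap_mem_map_algebraMap_iff (p.comap (algebraMap R S)).primeCompl A] at h
      obtain ⟨t, ht, htb⟩ := h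
      obtain ⟨c, hc⟩ := Ideal.mem_span_singleton.mp htb
      exact ⟨t, ht, c, hc⟩
    have hno : ¬ algebraMap R A a ∣ algebraMap R A e := by
      intro h
      obtain ⟨t, ht, c, hc⟩ := tr _ _ h
      exact ht ((hmem₀ t).mpr ⟨c * y₀, by rw [← mul_assoc, hc, mul_assoc]⟩)
    obtain ⟨t, ht, c, hc⟩ := tr _ _ ((ValuationRing.dvd_total (algebraMap R A e) (algebraMap R A a)).resolve_right hno)
    refine ⟨t, ht, c, ?_, hc⟩
    by_contra hcp
    apply hno
    have hu : IsUnit (algebraMap R A c) := IsLocalization.map_units A (⟨c, hcp⟩ : (p.comap (algebraMap R S)).primeCompl)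
    refine ⟨↑hu.unit⁻¹ * algebraMap R A t, ?_⟩
    rw [mul_comm (↑hu.unit⁻¹ : A), ← mul_assoc, ← map_mul, mul_comm a t, hc, map_mul, mul_assoc, IsUnit.mul_val_inv, mul_one]
  have hloc : ∀ p : Ideal S, IsAssociatedPrime p (S ⧸ Ideal.span {xS}) → ∃ (π : S) (s : S), π ≠ 0 ∧ s ∉ p ∧
      (∀ z ∈ p, s * z ∈ Ideal.span {π}) ∧ ∃ (k : ℕ) (u : S), u ∉ p ∧ u * π ^ k ∈ Ideal.span {xS} := by
    intro p hp
    haveI := hp.isPrime
    obtain ⟨hxp, hassR, t, ht, c, hc, htc⟩ := hass p hp
    obtain ⟨-, π, s, hπ, hs, hsp, k, u, hu, hux⟩ := AnUnram.exists_local_generator ha0 _ hassR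
    refine ⟨algebraMap R S π, algebraMap R S (s * t), fun h => hπ (hinjK ((congrArg Subtype.val h).trans (map_zero _).symm)),
      fun h => (Ideal.IsPrime.mem_or_mem inferInstance (show s * t ∈ p.comap (algebraMap R S) from h)).elim hs ht,
      fun z hz => ?_, k, algebraMap R S u, hu, ?_⟩
    · obtain ⟨r, w, hzw⟩ := hdec z
      have hr : r ∈ p.comap (algebraMap R S) := by
        rw [Ideal.mem_comap, show algebraMap R S r = z - xS * w by rw [hzw]; ring]
        exact sub_mem hz (Ideal.mul_mem_right _ _ hxp)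
      have htx : algebraMap R S t * xS = algebraMap R S c := Subtype.ext (by
        show algebraMap R K t * x = algebraMap R K c
        apply mul_left_cancel₀ he0
        rw [mul_left_comm, ← hea, ← map_mul, ← map_mul, htc])
      obtain ⟨d₁, hd₁⟩ := Ideal.mem_span_singleton.mp (hsp r hr)
      obtain ⟨d₂, hd₂⟩ := Ideal.mem_span_singleton.mp (hsp c hc)
      refine Ideal.mem_span_singleton.mpr ⟨algebraMap R S (t * d₁) + algebraMap R S d₂ * w, ?_⟩
      have e₁ := congrArg (algebraMap R S) hd₁
      have e₂ := congrArg (algebraMap R S) hd₂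
      simp only [map_mul] at e₁ e₂ ⊢
      rw [hzw]
      linear_combination (algebraMap R S t) * e₁ + w * e₂ + (algebraMap R S s * w) * htx
    · obtain ⟨r, hr⟩ := Ideal.mem_span_singleton'.mp hux
      refine Ideal.mem_span_singleton'.mpr ⟨algebraMap R S (r * e), Subtype.ext ?_⟩
      show algebraMap R K (r * e) * x = algebraMap R K u * algebraMap R K π ^ k
      rw [map_mul, mul_assoc, ← hea, ← map_mul, hr, map_mul, map_pow]
  haveI := CplLocH7.faithfullyFlat_cpl (Localization.AtPrime m)
  haveI := CplLocH7.isNoetherianRing_cpl (Localization.AtPrime m)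
  let L := Localization.AtPrime m
  let A := AdicCompletion (maximalIdeal L) L
  haveI : IsScalarTower S L A := inferInstance
  haveI : Module.Flat S L := IsLocalization.flat L m.primeCompl
  haveI : Module.Flat S A := Module.Flat.trans S L A
  refine AnUnram.isReduced_of_reduced_quotients A hxS hloc (fun p hp => ?_) fun z hz => ?_
  · haveI := hp.isPrime
    obtain ⟨hxp, -⟩ := hass p hp
    by_cases hpm : p ≤ m
    · haveI : (p.map (algebraMap S L)).IsPrime := IsLocalization.isPrime_of_isPrime_disjoint m.primeCompl L p inferInstance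
        (Set.disjoint_left.mpr fun z hz hzp => hz (hpm hzp))
      have hcomap : (p.map (algebraMap S L)).comap (algebraMap S L) = p :=
        IsLocalization.comap_map_of_isPrime_disjoint m.primeCompl L inferInstance
          (Set.disjoint_left.mpr fun z hz hzp => hz (hpm hzp))
      have hN : ∀ (q : Ideal L) [q.IsPrime], p.map (algebraMap S L) ≤ q → CAlg.IsN2 (L ⧸ q) := by
        intro q _ hq
        have hpq : p ≤ q.comap (algebraMap S L) := Ideal.map_le_iff_le_comap.mp hq
        haveI : Module.Finite R (S ⧸ q.comap (algebraMap S L)) :=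
          Module.Finite.of_surjective (Algebra.linearMap R _) fun z => by
            obtain ⟨z, rfl⟩ := Ideal.Quotient.mk_surjective z
            obtain ⟨r, w, rfl⟩ := hdec z
            refine ⟨r, ?_⟩
            rw [map_add, Ideal.Quotient.eq_zero_iff_mem.mpr (Ideal.mul_mem_right w _ (hpq hxp)), add_zero]
            rfl
        exact isN2_quotient_of_isLocalization m.primeCompl q (isN2_of_finite (R := R) hR)
      rw [IsScalarTower.algebraMap_eq S L A, ← Ideal.map_map]
      exact isReduced_quotient_map_cpl L (p.map (algebraMap S L)) hN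
    · have htop : p.map (algebraMap S A) = ⊤ := by
        obtain ⟨z, hzp, hzm⟩ := SetLike.not_le_iff_exists.mp hpm
        refine Ideal.eq_top_of_isUnit_mem _ (Ideal.mem_map_of_mem _ hzp) ?_
        rw [IsScalarTower.algebraMap_apply S L A]
        exact (IsLocalization.map_units L (⟨z, hzm⟩ : m.primeCompl)).map _
      haveI : Subsingleton (A ⧸ p.map (algebraMap S A)) := Ideal.Quotient.subsingleton_iff.mpr htop
      exact ⟨fun z _ => Subsingleton.elim _ _⟩
  · rw [← Submodule.mem_bot A, ← Ideal.iInf_pow_eq_bot_of_isLocalRing (maximalIdeal A)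
      (IsLocalRing.maximalIdeal.isMaximal A).ne_top, Submodule.mem_iInf]
    intro n
    obtain ⟨w, rfl⟩ := hz n
    rw [Algebra.smul_def, map_pow]
    refine Ideal.mul_mem_right _ _ (Ideal.pow_mem_pow ?_ n)
    rw [CplLocH7.maximalIdeal_cpl L, IsScalarTower.algebraMap_apply S L A]
    exact Ideal.mem_map_of_mem _ ((IsLocalization.AtPrime.to_map_mem_maximal_iff L m xS).mpr hxm)

end Groth.Agent.CAlgLow
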