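import Groth.Agent.Lib.CAlgLow.Monogenic

/-! # N-1 for monogenic birational extensions -/

set_option autoImplicit false
universe u

open Polynomial IsLocalRing

namespace Groth.Agent.CAlgLow

/-- Finite normalisation passes to a birational integral-up-to-units overring. -/
theorem isN1_transfer {A₁ A₂ K : Type u} [CommRing A₁] [IsDomain A₁] [CommRing A₂] [IsDomain A₂] [Field K]
    [Algebra A₁ K] [IsFractionRing A₁ K] [Algebra A₂ K] [IsFractionRing A₂ K] (f : A₁ →+* A₂)
    (hf : ∀ a, algebraMap A₂ K (f a) = algebraMap A₁ K a)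
    (hI : ∀ z : K, IsIntegral A₂ z → ∃ u : A₂, IsUnit u ∧ IsIntegral A₁ (algebraMap A₂ K u * z))
    (h : CAlg.IsN1 A₁) : CAlg.IsN1 A₂ := by
  classical
  letI : Algebra A₁ A₂ := f.toAlgebra
  haveI : IsScalarTower A₁ A₂ K := .of_algebraMap_eq fun a => (hf a).symm
  have hfin := finite_integralClosure_of_isN1 K h
  obtain ⟨s, hs⟩ := hfin.fg_top
  let φ : integralClosure A₁ K →ₗ[A₁] K := (integralClosure A₁ K).val.toLinearMap
  have key : Subalgebra.toSubmodule (integralClosure A₂ K) = Submodule.span A₂ ((s.image φ : Finset K) : Set K) := by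
    refine le_antisymm (fun z hz => ?_) (Submodule.span_le.2 fun y hy => ?_)
    · obtain ⟨u, hu, hint⟩ := hI z hz
      have h1 : algebraMap A₂ K u * z ∈ Submodule.span A₁ ((s.image φ : Finset K) : Set K) := by
        rw [Finset.coe_image, ← Submodule.map_span, hs]
        exact ⟨⟨_, hint⟩, Submodule.mem_top, rfl⟩
      have h2 := Submodule.span_le_restrictScalars A₁ A₂ ((s.image φ : Finset K) : Set K) h1
      have h3 := Submodule.smul_mem (Submodule.span A₂ ((s.image φ : Finset K) : Set K)) (↑hu.unit⁻¹ : A₂) h2
      rwa [Algebra.smul_def, ← mul_assoc, ← map_mul, IsUnit.val_inv_mul, map_one, one_mul] at h3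
    · obtain ⟨z, -, rfl⟩ := Finset.mem_image.1 hy
      exact (z.2 : IsIntegral A₁ (z : K)).tower_top
  haveI : Module.Finite A₂ (integralClosure A₂ K) := Module.Finite.iff_fg.2 ⟨_, key.symm⟩
  exact Module.Finite.equiv (FractionRing.algEquiv A₂ K).symm.mapIntegralClosure.toLinearEquiv

/-- A localization at a prime maps to the fraction field. -/
theorem exists_atPrime_fraction {S K : Type u} [CommRing S] [IsDomain S] [Field K] [Algebra S K] [IsFractionRing S K]
    (m : Ideal S) [m.IsPrime] :
    ∃ (_ : Algebra (Localization.AtPrime m) K) (_ : IsScalarTower S (Localization.AtPrime m) K),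
      IsFractionRing (Localization.AtPrime m) K := by
  have hu : ∀ y : m.primeCompl, IsUnit (algebraMap S K y) := fun y =>
    IsLocalization.map_units K (⟨y, m.primeCompl_le_nonZeroDivisors y.2⟩ : nonZeroDivisors S)
  let _ : Algebra (Localization.AtPrime m) K := (IsLocalization.lift hu).toAlgebra
  have : IsScalarTower S (Localization.AtPrime m) K :=
    IsScalarTower.of_algebraMap_eq fun r => (IsLocalization.lift_eq hu r).symm
  exact ⟨_, this, IsFractionRing.isFractionRing_of_isLocalization m.primeCompl _ K m.primeCompl_le_nonZeroDivisors⟩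

variable {R : Type u} [CommRing R] [IsDomain R] {K : Type u} [Field K] [Algebra R K] [IsFractionRing R K]

instance isFractionRing_subalgebra (S : Subalgebra R K) : IsFractionRing S K := by
  refine ⟨fun y => IsUnit.mk0 _ fun h => nonZeroDivisors.ne_zero y.2 (Subtype.ext h), fun z => ?_,
    fun {a b} h => ⟨1, by rw [Subtype.ext h]⟩⟩
  obtain ⟨a, b, hb, rfl⟩ := IsFractionRing.div_surjective (A := R) z
  have hb0 : algebraMap R K b ≠ 0 := IsFractionRing.to_map_ne_zero_of_mem_nonZeroDivisors hb
  refine ⟨⟨algebraMap R S a, ⟨algebraMap R S b, mem_nonZeroDivisors_of_ne_zero fun h => hb0 (congrArg Subtype.val h)⟩⟩, ?_⟩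
  show algebraMap R K a / algebraMap R K b * algebraMap R K b = algebraMap R K a
  exact div_mul_cancel₀ _ hb0

theorem isNoetherianRing_adjoin_atPrime [IsNoetherianRing R] (x : K) (m : Ideal (Algebra.adjoin R ({x} : Set K)))
    [m.IsPrime] : IsNoetherianRing (Localization.AtPrime m) := by
  haveI : Algebra.FiniteType R (Algebra.adjoin R ({x} : Set K)) :=
    (Subalgebra.fg_iff_finiteType _).mp (Subalgebra.fg_def.mpr ⟨_, Set.finite_singleton x, rfl⟩)
  haveI : IsNoetherianRing (Algebra.adjoin R ({x} : Set K)) := Algebra.FiniteType.isNoetherianRing R _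
  exact IsLocalization.isNoetherianRing m.primeCompl _ inferInstance

variable [IsIntegrallyClosed R] [IsNoetherianRing R]

theorem isN1_atPrime_of_mem (hR : CAlg.IsNagata R) {x : K} (m : Ideal (Algebra.adjoin R ({x} : Set K))) [m.IsMaximal]
    (hxm : (⟨x, Algebra.self_mem_adjoin_singleton R x⟩ : Algebra.adjoin R ({x} : Set K)) ∈ m) :
    CAlg.IsN1 (Localization.AtPrime m) := by
  haveI := isNoetherianRing_adjoin_atPrime x m
  haveI := isReduced_cpl_monogenic hR m hxm
  exact S2072.result

/-- The local case with arbitrary residual value of `x`. -/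
theorem isN1_atPrime_local [IsLocalRing R] (hR : CAlg.IsNagata R) {x : K}
    (m : Ideal (Algebra.adjoin R ({x} : Set K))) [m.IsMaximal]
    (hm : m.comap (algebraMap R (Algebra.adjoin R ({x} : Set K))) = maximalIdeal R) :
    CAlg.IsN1 (Localization.AtPrime m) := by
  classical
  let S := Algebra.adjoin R ({x} : Set K)
  let xS : S := ⟨x, Algebra.self_mem_adjoin_singleton R x⟩
  letI := Ideal.Quotient.field m
  obtain ⟨f, hfm, hf⟩ : ∃ f : R[X], f.Monic ∧ aeval xS f ∈ m := by
    let ψ : (ResidueField R)[X] →+* S ⧸ m :=
      eval₂RingHom (Ideal.Quotient.lift (maximalIdeal R) ((Ideal.Quotient.mk m).comp (algebraMap R S))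
        fun r hr => Ideal.Quotient.eq_zero_iff_mem.mpr (by rw [← hm] at hr; exact hr)) (Ideal.Quotient.mk m xS)
    have hψ : ∀ g : R[X], ψ (g.map (residue R)) = Ideal.Quotient.mk m (aeval xS g) := fun g => by
      induction g using Polynomial.induction_on' with
      | add a b ha hb => rw [Polynomial.map_add, map_add, ha, hb, map_add, map_add]
      | monomial n r =>
        simp only [Polynomial.map_monomial, ψ, coe_eval₂RingHom, eval₂_monomial, aeval_monomial, map_mul, map_pow]
        rfl
    have hker : RingHom.ker ψ ≠ ⊥ := fun hbot => by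
      have hinj : Function.Injective ψ := (RingHom.injective_iff_ker_eq_bot ψ).mpr hbot
      have hsurj : Function.Surjective ψ := fun z => by
        obtain ⟨z, rfl⟩ := Ideal.Quotient.mk_surjective z
        obtain ⟨g, hg⟩ := exists_aeval_eq z
        refine ⟨g.map (residue R), ?_⟩
        rw [hψ]
        exact congrArg _ (Subtype.ext ((Polynomial.aeval_algHom_apply S.val xS g).symm.trans hg))
      exact Polynomial.not_isField _ (MulEquiv.isField (Field.toIsField (S ⧸ m)) (RingEquiv.ofBijective ψ ⟨hinj, hsurj⟩).toMulEquiv)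
    obtain ⟨g, hg, hg0⟩ := Submodule.exists_mem_ne_zero_of_ne_bot hker
    have hmon := monic_mul_leadingCoeff_inv hg0
    obtain ⟨f, hf, -, hfm⟩ := lifts_and_degree_eq_and_monic
      ((mem_lifts _).mpr (map_surjective _ residue_surjective _)) hmon
    refine ⟨f, hfm, Ideal.Quotient.eq_zero_iff_mem.mp ?_⟩
    rw [← hψ, hf, map_mul, RingHom.mem_ker.mp hg, zero_mul]
  let y : K := aeval x f
  have hyS : y ∈ S := by
    show aeval x f ∈ S
    rw [show aeval x f = S.val (aeval xS f) from Polynomial.aeval_algHom_apply S.val xS f]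
    exact (aeval xS f).2
  let C := Algebra.adjoin R ({y} : Set K)
  have hCS : C ≤ S := Algebra.adjoin_le (Set.singleton_subset_iff.mpr hyS)
  letI : Algebra C S := (Subalgebra.inclusion hCS).toAlgebra
  haveI : IsScalarTower C S K := .of_algebraMap_eq fun _ => rfl
  haveI : IsScalarTower R C S := .of_algebraMap_eq fun _ => rfl
  let yC : C := ⟨y, Algebra.self_mem_adjoin_singleton R y⟩
  have hxint : IsIntegral C x := by
    refine ⟨f.map (algebraMap R C) - Polynomial.C yC, ?_, ?_⟩
    · rcases Nat.eq_zero_or_pos f.natDegree with h0 | hpos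
      · exfalso
        have : (1 : S) ∈ m := by
          have h2 := hf
          rwa [hfm.natDegree_eq_zero.mp h0, map_one] at h2
        exact (Ideal.IsMaximal.ne_top inferInstance) ((Ideal.eq_top_iff_one m).mpr this)
      · refine (hfm.map _).sub_of_left (lt_of_le_of_lt degree_C_le ?_)
        rw [hfm.degree_map]
        exact natDegree_pos_iff_degree_pos.mp hpos
    · rw [eval₂_sub, eval₂_C, eval₂_map, ← IsScalarTower.algebraMap_eq]
      exact sub_self y
  have hSint : ∀ s : S, IsIntegral C (s : K) := fun s => by
    exact Algebra.adjoin_le (S := (integralClosure C K).restrictScalars R) (Set.singleton_subset_iff.mpr hxint) s.2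
  haveI : Algebra.IsIntegral C S :=
    ⟨fun s => (isIntegral_algHom_iff (IsScalarTower.toAlgHom C S K) Subtype.val_injective).mp (hSint s)⟩
  let n := m.comap (algebraMap C S)
  haveI : n.IsMaximal := Ideal.isMaximal_comap_of_isIntegral_of_isMaximal (R := C) m
  have hy : (⟨y, Algebra.self_mem_adjoin_singleton R y⟩ : Algebra.adjoin R ({y} : Set K)) ∈ n := by
    show Subalgebra.inclusion hCS yC ∈ m
    convert hf using 1
    exact Subtype.ext (Polynomial.aeval_algHom_apply S.val xS f)
  have h1 := isN1_atPrime_of_mem hR n hy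
  obtain ⟨_, _, _⟩ := exists_atPrime_fraction (K := K) n
  obtain ⟨_, _, _⟩ := exists_atPrime_fraction (K := K) m
  refine isN1_transfer (K := K) (Localization.localRingHom n m (algebraMap C S) rfl) (fun a => ?_) (fun z hz => ?_) h1
  · obtain ⟨c, t, rfl⟩ := IsLocalization.exists_mk'_eq n.primeCompl a
    have h := congrArg (algebraMap (Localization.AtPrime n) K) (IsLocalization.mk'_spec (Localization.AtPrime n) c t)
    have h2 := congrArg (fun w => algebraMap (Localization.AtPrime m) K (Localization.localRingHom n m (algebraMap C S) rfl w))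
      (IsLocalization.mk'_spec (Localization.AtPrime n) c t)
    simp only [map_mul, Localization.localRingHom_to_map, ← IsScalarTower.algebraMap_apply] at h h2
    change _ * algebraMap C K t = algebraMap C K c at h2
    rw [← h] at h2
    exact mul_right_cancel₀ (fun h0 => t.2 (by
      have : (t : C) = 0 := IsFractionRing.injective C K (h0.trans (map_zero _).symm)
      rw [this]; exact n.zero_mem)) h2
  · obtain ⟨s, hs⟩ := IsIntegral.exists_multiple_integral_of_isLocalization m.primeCompl z hz
    refine ⟨algebraMap S (Localization.AtPrime m) s, IsLocalization.map_units _ s, ?_⟩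
    rw [← IsScalarTower.algebraMap_apply, ← Algebra.smul_def]
    exact (isIntegral_trans (R := C) ((s : S) • z) hs).tower_top

/-- A monogenic birational extension of a normal Nagata domain is N-1. -/
theorem isN1_adjoin (hR : CAlg.IsNagata R) (x : K) : CAlg.IsN1 (Algebra.adjoin R ({x} : Set K)) := by
  classical
  let S := Algebra.adjoin R ({x} : Set K)
  haveI : Algebra.FiniteType R S :=
    (Subalgebra.fg_iff_finiteType S).mp (Subalgebra.fg_def.mpr ⟨_, Set.finite_singleton x, rfl⟩)
  haveI : IsNoetherianRing S := Algebra.FiniteType.isNoetherianRing R S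
  obtain ⟨a, e, he, hae⟩ := IsFractionRing.div_surjective (A := R) x
  have he0 : e ≠ 0 := nonZeroDivisors.ne_zero he
  have heK : algebraMap R K e ≠ 0 := IsFractionRing.to_map_ne_zero_of_mem_nonZeroDivisors he
  have heS : algebraMap R S e ≠ 0 := fun h => heK (congrArg Subtype.val h)
  have hscale : ∀ s : S, ∃ (N : ℕ) (r : R), algebraMap R K (e ^ N) * (s : K) = algebraMap R K r := by
    intro s
    obtain ⟨g, hg⟩ := exists_aeval_eq s
    rw [← hg]
    clear hg
    induction g using Polynomial.induction_on' with
    | add p q hp hq =>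
      obtain ⟨N, r, hr⟩ := hp
      obtain ⟨M, w, hw⟩ := hq
      refine ⟨N + M, r * e ^ M + w * e ^ N, ?_⟩
      simp only [map_add, map_mul, map_pow, ← hr, ← hw, mul_add]
      ring
    | monomial k c =>
      refine ⟨k, c * a ^ k, ?_⟩
      rw [aeval_monomial, ← hae, div_pow, map_mul, map_pow, map_pow]
      field_simp
  refine isN1_of_exists_normal_localization S (algebraMap R S e) heS ?_ fun m _ => ?_
  · haveI : IsDomain (Localization.Away e) :=
      IsLocalization.isDomain_localization (powers_le_nonZeroDivisors_of_noZeroDivisors he0)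
    haveI : IsIntegrallyClosed (Localization.Away e) := isIntegrallyClosed_of_isLocalization _ (Submonoid.powers e)
      (powers_le_nonZeroDivisors_of_noZeroDivisors he0)
    haveI : IsLocalization (Submonoid.powers e) (Localization.Away (algebraMap R S e)) := by
      refine ⟨?_, fun z => ?_, fun {p q} h => ⟨1, ?_⟩⟩
      · rintro ⟨_, i, rfl⟩
        rw [map_pow, IsScalarTower.algebraMap_apply R S (Localization.Away (algebraMap R S e))]
        exact (IsLocalization.Away.algebraMap_isUnit (algebraMap R S e)).pow i
      · obtain ⟨⟨s, _, i, rfl⟩, hz⟩ := IsLocalization.surj (Submonoid.powers (algebraMap R S e)) z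
        obtain ⟨N, r, hr⟩ := hscale s
        refine ⟨⟨r, ⟨e ^ (i + N), i + N, rfl⟩⟩, ?_⟩
        have hs : algebraMap R S e ^ N * s = algebraMap R S r := Subtype.ext (by
          rw [Subalgebra.coe_mul, Subalgebra.coe_pow, Subalgebra.coe_algebraMap, Subalgebra.coe_algebraMap, ← map_pow, hr])
        simp only [map_pow, IsScalarTower.algebraMap_apply R S (Localization.Away (algebraMap R S e))] at hz ⊢
        rw [← hs, map_mul, map_pow, ← hz, pow_add]
        ring
      · have h' : algebraMap R S p = algebraMap R S q := IsLocalization.injective (Localization.Away (algebraMap R S e))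
          (powers_le_nonZeroDivisors_of_noZeroDivisors heS)
          (by rw [← IsScalarTower.algebraMap_apply, ← IsScalarTower.algebraMap_apply]; exact h)
        rw [IsFractionRing.injective R K (congrArg Subtype.val h' : algebraMap R K p = algebraMap R K q)]
    exact IsIntegrallyClosed.of_equiv
      (IsLocalization.algEquiv (Submonoid.powers e) (Localization.Away e) (Localization.Away (algebraMap R S e))).toRingEquiv
  · let p := m.comap (algebraMap R S)
    haveI : p.IsPrime := Ideal.IsPrime.comap _
    let R' := Localization.AtPrime p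
    obtain ⟨_, _, _⟩ := exists_atPrime_fraction (K := K) p
    haveI : IsNoetherianRing R' := IsLocalization.isNoetherianRing p.primeCompl _ inferInstance
    haveI : IsIntegrallyClosed R' := isIntegrallyClosed_of_isLocalization R' p.primeCompl p.primeCompl_le_nonZeroDivisors
    have hR' : CAlg.IsNagata R' := ⟨inferInstance, fun q _ =>
      isN2_quotient_of_isLocalization p.primeCompl q (hR.2 _)⟩
    let D := Algebra.adjoin R' ({x} : Set K)
    have hSD : S ≤ D.restrictScalars R := Algebra.adjoin_le (Set.singleton_subset_iff.mpr (Algebra.self_mem_adjoin_singleton R' x))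
    let ι : S →ₐ[R] D.restrictScalars R := Subalgebra.inclusion hSD
    letI : Algebra S D := (ι.toRingHom : S →+* D).toAlgebra
    haveI : IsScalarTower S D K := .of_algebraMap_eq fun _ => rfl
    have hD : ∀ d : D, ∃ t : R, t ∉ p ∧ algebraMap R K t * (d : K) ∈ S := by
      intro d
      obtain ⟨g, hg⟩ := exists_aeval_eq (R := R') d
      rw [← hg]
      clear hg
      induction g using Polynomial.induction_on' with
      | add u v hu hv =>
        obtain ⟨t, ht, htu⟩ := hu
        obtain ⟨t', ht', htv⟩ := hv
        refine ⟨t * t', fun h => (Ideal.IsPrime.mem_or_mem inferInstance h).elim ht ht', ?_⟩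
        rw [map_add, map_mul, mul_add, mul_right_comm, mul_assoc (algebraMap R K t) _ (aeval x v)]
        exact add_mem (mul_mem htu (S.algebraMap_mem t')) (mul_mem (S.algebraMap_mem t) htv)
      | monomial k c =>
        obtain ⟨⟨r, t⟩, hrt⟩ := IsLocalization.surj p.primeCompl c
        refine ⟨t, t.2, ?_⟩
        rw [aeval_monomial, ← mul_assoc, IsScalarTower.algebraMap_apply R R' K t, ← map_mul, mul_comm _ c, hrt,
          ← IsScalarTower.algebraMap_apply]
        exact mul_mem (S.algebraMap_mem r) (pow_mem (Algebra.self_mem_adjoin_singleton R x) k)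
    let n : Ideal D :=
      { carrier := {d | ∃ t : R, t ∉ p ∧ ∃ s : S, s ∈ m ∧ algebraMap R K t * (d : K) = s}
        zero_mem' := ⟨1, fun h => (Ideal.IsPrime.ne_top inferInstance) ((Ideal.eq_top_iff_one p).mpr h), 0, m.zero_mem, by simp⟩
        add_mem' := by
          rintro d d' ⟨t, ht, s, hs, hd⟩ ⟨t', ht', s', hs', hd'⟩
          refine ⟨t * t', fun h => (Ideal.IsPrime.mem_or_mem inferInstance h).elim ht ht',
            algebraMap R S t' * s + algebraMap R S t * s', add_mem (m.mul_mem_left _ hs) (m.mul_mem_left _ hs'), ?_⟩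
          simp only [Subalgebra.coe_add, Subalgebra.coe_mul, Subalgebra.coe_algebraMap, ← hd, ← hd', map_mul]
          ring
        smul_mem' := by
          rintro c d ⟨t, ht, s, hs, hd⟩
          obtain ⟨t', ht', hc⟩ := hD c
          refine ⟨t * t', fun h => (Ideal.IsPrime.mem_or_mem inferInstance h).elim ht ht',
            ⟨_, hc⟩ * s, m.mul_mem_left _ hs, ?_⟩
          simp only [smul_eq_mul, Subalgebra.coe_mul, ← hd, map_mul]
          ring }
    have hn_comap : ∀ s : S, algebraMap S D s ∈ n ↔ s ∈ m := by
      refine fun s => ⟨?_, fun hs => ⟨1, fun h => (Ideal.IsPrime.ne_top inferInstance) ((Ideal.eq_top_iff_one p).mpr h), s, hs,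
        by rw [map_one, one_mul]; rfl⟩⟩
      rintro ⟨t, ht, s', hs', h⟩
      have h2 : algebraMap R S t * s = s' := Subtype.ext h
      exact (Ideal.IsPrime.mem_or_mem inferInstance (h2 ▸ hs' : algebraMap R S t * s ∈ m)).resolve_left ht
    haveI hnmax : n.IsMaximal := by
      rw [Ideal.isMaximal_iff]
      refine ⟨fun h => ?_, fun J d hnJ hdn hdJ => ?_⟩
      · have := (hn_comap 1).mp (by rwa [map_one])
        exact (Ideal.IsPrime.ne_top inferInstance) ((Ideal.eq_top_iff_one m).mpr this)
      · obtain ⟨t, ht, htd⟩ := hD d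
        have hsm : (⟨_, htd⟩ : S) ∉ m := fun h => hdn ⟨t, ht, ⟨_, htd⟩, h, rfl⟩
        obtain ⟨w, i, hi, hwi⟩ := Ideal.IsMaximal.exists_inv inferInstance hsm
        have hsJ : algebraMap S D ⟨_, htd⟩ ∈ J := by
          have : algebraMap S D ⟨_, htd⟩ = algebraMap S D (algebraMap R S t) * d := Subtype.ext rfl
          rw [this]; exact J.mul_mem_left _ hdJ
        have := congrArg (algebraMap S D) hwi
        rw [map_add, map_mul, map_one] at this
        rw [← this]
        exact add_mem (J.mul_mem_left _ hsJ) (hnJ ((hn_comap i).mpr hi))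
    have hnp : n.comap (algebraMap R' D) = maximalIdeal R' := by
      refine ((IsLocalRing.maximalIdeal.isMaximal R').eq_of_le (Ideal.IsPrime.ne_top inferInstance) fun r hr => ?_).symm
      obtain ⟨b, t, rfl⟩ := IsLocalization.exists_mk'_eq p.primeCompl r
      have hb : b ∈ p := (IsLocalization.AtPrime.mk'_mem_maximal_iff R' p b t).mp hr
      refine ⟨t, t.2, algebraMap R S b, hb, ?_⟩
      show algebraMap R K t * algebraMap R' K (IsLocalization.mk' R' b t) = algebraMap R K b
      rw [IsScalarTower.algebraMap_apply R R' K t, ← map_mul, IsLocalization.mk'_spec', ← IsScalarTower.algebraMap_apply]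
    have h1 := isN1_atPrime_local hR' n hnp
    obtain ⟨_, _, _⟩ := exists_atPrime_fraction (K := K) n
    obtain ⟨_, _, _⟩ := exists_atPrime_fraction (K := K) m
    have htow : ∀ s : S, algebraMap (Localization.AtPrime m) K (algebraMap S (Localization.AtPrime m) s) = (s : K) :=
      fun s => (IsScalarTower.algebraMap_apply S (Localization.AtPrime m) K s).symm
    have hto : ∀ d : D, ∃ w : Localization.AtPrime m, algebraMap _ K w = (d : K) := by
      intro d
      obtain ⟨t, ht, htd⟩ := hD d
      refine ⟨IsLocalization.mk' _ (⟨_, htd⟩ : S) (⟨algebraMap R S t, ht⟩ : m.primeCompl), ?_⟩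
      have h := congrArg (algebraMap (Localization.AtPrime m) K)
        (IsLocalization.mk'_spec (Localization.AtPrime m) (⟨_, htd⟩ : S) (⟨algebraMap R S t, ht⟩ : m.primeCompl))
      rw [map_mul, htow, htow] at h
      change _ * algebraMap R K t = algebraMap R K t * (d : K) at h
      replace h := h.trans (mul_comm _ _)
      refine mul_right_cancel₀ (fun h0 => ht ?_) h
      rw [show t = 0 from IsFractionRing.injective R K (h0.trans (map_zero _).symm)]
      exact p.zero_mem
    choose j hj using hto
    have hinj : Function.Injective (algebraMap (Localization.AtPrime m) K) := IsFractionRing.injective _ K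
    let f₀ : D →+* Localization.AtPrime m :=
      { toFun := j
        map_one' := hinj (by rw [hj, map_one]; rfl)
        map_mul' := fun a b => hinj (by rw [map_mul, hj, hj, hj]; rfl)
        map_zero' := hinj (by rw [hj, map_zero]; rfl)
        map_add' := fun a b => hinj (by rw [map_add, hj, hj, hj]; rfl) }
    have hunit : ∀ d : n.primeCompl, IsUnit (f₀ d) := by
      intro d
      obtain ⟨t, ht, htd⟩ := hD d
      have hsm : (⟨_, htd⟩ : S) ∉ m := fun h => d.2 ⟨t, ht, ⟨_, htd⟩, h, rfl⟩
      have he : algebraMap S (Localization.AtPrime m) (algebraMap R S t) * f₀ d = algebraMap S _ ⟨_, htd⟩ := hinj (by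
        rw [map_mul, htow, htow]
        show algebraMap R K t * algebraMap _ K (j d) = algebraMap R K t * ((d : D) : K)
        rw [hj])
      exact isUnit_of_mul_isUnit_right (he ▸ IsLocalization.map_units (Localization.AtPrime m) (⟨_, hsm⟩ : m.primeCompl))
    refine isN1_transfer (K := K) (IsLocalization.lift hunit) (fun a => ?_) (fun z hz => ?_) h1
    · obtain ⟨c, u, rfl⟩ := IsLocalization.exists_mk'_eq n.primeCompl a
      have h := congrArg (algebraMap (Localization.AtPrime n) K) (IsLocalization.mk'_spec (Localization.AtPrime n) c u)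
      have h2 := congrArg (fun w => algebraMap (Localization.AtPrime m) K (IsLocalization.lift hunit w))
        (IsLocalization.mk'_spec (Localization.AtPrime n) c u)
      simp only [map_mul, IsLocalization.lift_eq, ← IsScalarTower.algebraMap_apply] at h h2
      change _ * algebraMap _ K (j u) = algebraMap _ K (j c) at h2
      rw [hj, hj] at h2
      change _ * (u : D).1 = c.1 at h
      rw [← h] at h2
      refine mul_right_cancel₀ (fun h0 => u.2 ?_) h2
      rw [show (u : D) = 0 from Subtype.ext h0]
      exact n.zero_mem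
    · obtain ⟨s, hs⟩ := IsIntegral.exists_multiple_integral_of_isLocalization m.primeCompl z hz
      refine ⟨algebraMap S (Localization.AtPrime m) s, IsLocalization.map_units _ s, ?_⟩
      rw [← IsScalarTower.algebraMap_apply, ← Algebra.smul_def]
      exact ((hs : IsIntegral S ((s : S) • z)).tower_top (A := D)).tower_top

end Groth.Agent.CAlgLow
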