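import Groth.Agent.Lib.CAlgLow.N1Loc
import Mathlib.RingTheory.Localization.Away.Basic
import Mathlib.RingTheory.Ideal.Span
import Mathlib.LinearAlgebra.Span.Basic

/-!
# N-1 and N-2 are local properties
-/

set_option autoImplicit false

universe u

namespace Groth.Agent.CAlgLow

variable {R : Type u} [CommRing R] {ι : Type u} [Finite ι] (f : ι → R) (hf : Ideal.span (Set.range f) = ⊤)
  (Rf : ι → Type u) [∀ i, CommRing (Rf i)] [∀ i, Algebra R (Rf i)] [∀ i, IsLocalization.Away (f i) (Rf i)]

include hf in
theorem finite_integralClosure_of_span (L : Type u) [CommRing L] [Algebra R L]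
    [∀ i, Algebra (Rf i) L] [∀ i, IsScalarTower R (Rf i) L]
    (h : ∀ i, Module.Finite (Rf i) (integralClosure (Rf i) L)) :
    Module.Finite R (integralClosure R L) := by
  classical
  have := Fintype.ofFinite ι
  choose s hs using fun i => (Module.Finite.iff_fg (N := Subalgebra.toSubmodule (integralClosure (Rf i) L))).1 (h i)
  have hmult : ∀ i (y : L), y ∈ s i → ∃ m : Submonoid.powers (f i), IsIntegral R (m • y) := fun i y hy =>
    IsIntegral.exists_multiple_integral_of_isLocalization (Submonoid.powers (f i)) (Rₘ := Rf i) y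
      (show y ∈ integralClosure (Rf i) L from (hs i).le (Submodule.subset_span hy))
  choose m hm using hmult
  let T : Finset L := Finset.univ.biUnion fun i => (s i).attach.image fun y => (m i y.1 y.2 • y.1 : L)
  let N : Submodule R L := Submodule.span R (T : Set L)
  have key : ∀ i (x : L), x ∈ Submodule.span (Rf i) (s i : Set L) → ∃ k : ℕ, f i ^ k • x ∈ N := by
    intro i x hx
    induction hx using Submodule.span_induction with
    | mem y hy =>
      obtain ⟨k, hk⟩ := (m i y hy).2
      refine ⟨k, ?_⟩
      rw [show f i ^ k • y = m i y hy • y from by rw [Submonoid.smul_def, ← hk]]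
      exact Submodule.subset_span (Finset.mem_biUnion.2 ⟨i, Finset.mem_univ _,
        Finset.mem_image.2 ⟨⟨y, hy⟩, Finset.mem_attach _ _, rfl⟩⟩)
    | zero => exact ⟨0, by simp⟩
    | add a b _ _ ha hb =>
      obtain ⟨p, hp⟩ := ha
      obtain ⟨q, hq⟩ := hb
      refine ⟨p + q, ?_⟩
      rw [smul_add]
      refine add_mem ?_ ?_
      · rw [add_comm, pow_add, ← smul_smul]
        exact N.smul_mem _ hp
      · rw [pow_add, ← smul_smul]
        exact N.smul_mem _ hq
    | smul c a _ ha =>
      obtain ⟨p, hp⟩ := ha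
      obtain ⟨⟨r, ⟨_, q, rfl⟩⟩, hc⟩ := IsLocalization.surj (Submonoid.powers (f i)) c
      refine ⟨q + p, ?_⟩
      have e : f i ^ q • (c • a) = r • a := by
        rw [← algebraMap_smul (Rf i) (f i ^ q), smul_smul, mul_comm, hc, algebraMap_smul]
      rw [add_comm, pow_add, ← smul_smul, e, smul_comm]
      exact N.smul_mem _ hp
  refine (Module.Finite.iff_fg (N := Subalgebra.toSubmodule (integralClosure R L))).2 ⟨T, le_antisymm ?_ fun x hx => ?_⟩
  · refine Submodule.span_le.2 fun z hz => ?_
    obtain ⟨i, -, hi⟩ := Finset.mem_biUnion.1 hz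
    obtain ⟨y, -, rfl⟩ := Finset.mem_image.1 hi
    exact hm i y.1 y.2
  · choose k hk using fun i => key i x ((hs i).ge (show IsIntegral (Rf i) x from IsIntegral.tower_top hx))
    refine Submodule.mem_of_span_top_of_smul_mem N _
      (Ideal.span_range_pow_eq_top (Set.range f) hf fun y => k y.2.choose) x ?_
    rintro ⟨_, ⟨y, hy⟩, rfl⟩
    have h2 := hk hy.choose
    rw [hy.choose_spec] at h2
    exact h2

end Groth.Agent.CAlgLow
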