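import Groth.Agent.Lib.CAlgLow.UI
import Mathlib.RingTheory.Idempotents
import Mathlib.RingTheory.TensorProduct.Maps
import Mathlib.LinearAlgebra.TensorProduct.Quotient

/-!
# Lifting bijectivity and projectivity along a nilpotent ideal
-/

set_option autoImplicit false

universe u

open TensorProduct

namespace Groth.Agent.CAlgLow

variable {R : Type u} [CommRing R] {M P : Type u} [AddCommGroup M] [Module R M] [AddCommGroup P] [Module R P]

theorem one_tmul_eq_zero_iff (I : Ideal R) (m : M) :
    (1 : R ⧸ I) ⊗ₜ[R] m = 0 ↔ m ∈ I • (⊤ : Submodule R M) := by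
  rw [← (TensorProduct.quotTensorEquivQuotSMul M I).map_eq_zero_iff, ← map_one (Ideal.Quotient.mk I),
    TensorProduct.quotTensorEquivQuotSMul_mk_tmul, Submodule.Quotient.mk_eq_zero, one_smul]

theorem eq_bot_of_le_smul {I : Ideal R} (hI : IsNilpotent I) (K : Submodule R M) (h : K ≤ I • K) : K = ⊥ := by
  obtain ⟨n, hn⟩ := hI
  have : ∀ j : ℕ, K ≤ I ^ j • K := fun j => by
    induction j with
    | zero => simp
    | succ j ih => exact h.trans ((Submodule.smul_mono (le_refl I) ih).trans_eq (by rw [← Submodule.mul_smul, pow_succ']))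
  simpa [hn] using this n

/-- A map into a flat module which is bijective modulo a nilpotent ideal is bijective. -/
theorem bijective_of_bijective_baseChange_nilpotent [Module.Flat R M] {I : Ideal R} (hI : IsNilpotent I)
    (f : P →ₗ[R] M) (hf : Function.Bijective (f.baseChange (R ⧸ I))) : Function.Bijective f := by
  have hs : Function.Surjective f := by
    rw [← LinearMap.range_eq_top]
    have hQ : (⊤ : Submodule R (M ⧸ LinearMap.range f)) = ⊥ := by
      refine eq_bot_of_le_smul hI _ fun x _ => ?_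
      obtain ⟨m, rfl⟩ := Submodule.mkQ_surjective _ x
      obtain ⟨z, hz⟩ := hf.2 ((1 : R ⧸ I) ⊗ₜ m)
      rw [← one_tmul_eq_zero_iff]
      have h2 := congrArg ((LinearMap.range f).mkQ.baseChange (R ⧸ I)) hz
      rw [LinearMap.baseChange_tmul, ← LinearMap.comp_apply, ← LinearMap.baseChange_comp,
        (LinearMap.exact_map_mkQ_range f).linearMap_comp_eq_zero, LinearMap.baseChange_zero, LinearMap.zero_apply] at h2
      exact h2.symm
    refine le_antisymm le_top fun m _ => (Submodule.Quotient.mk_eq_zero _).1 ?_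
    exact (Submodule.mem_bot R).1 (hQ ▸ Submodule.mem_top)
  refine ⟨LinearMap.ker_eq_bot.1 (eq_bot_of_le_smul hI _ fun x hx => ?_), hs⟩
  have hui : CAlgX.UniversallyInjective R (LinearMap.ker f).subtype :=
    ui_of_flat_coker (LinearMap.ker f).injective_subtype (LinearMap.exact_subtype_ker_map f) hs
  have h0 : (1 : R ⧸ I) ⊗ₜ[R] (⟨x, hx⟩ : LinearMap.ker f) = 0 := by
    refine lTensor_injective_of_ui hui (R ⧸ I) ?_
    rw [map_zero, LinearMap.lTensor_tmul]
    refine hf.1 ?_
    rw [map_zero, LinearMap.baseChange_tmul, Submodule.subtype_apply, LinearMap.mem_ker.1 hx, tmul_zero]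
  rw [one_tmul_eq_zero_iff] at h0
  have h1 := Submodule.mem_map_of_mem (f := (LinearMap.ker f).subtype) h0
  rwa [Submodule.map_smul'', Submodule.map_subtype_top] at h1

theorem exists_baseChange_eq (I : Ideal R) (N : Type u) [AddCommGroup N] [Module R N] [Module.Projective R N]
    (g : (R ⧸ I) ⊗[R] N →ₗ[R ⧸ I] (R ⧸ I) ⊗[R] N) : ∃ h : N →ₗ[R] N, h.baseChange (R ⧸ I) = g := by
  let mk1 : N →ₗ[R] (R ⧸ I) ⊗[R] N := TensorProduct.mk R _ _ 1
  have hmk : Function.Surjective mk1 := fun z => by
    induction z with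
    | zero => exact ⟨0, map_zero _⟩
    | add a b ha hb =>
      obtain ⟨x, rfl⟩ := ha
      obtain ⟨y, rfl⟩ := hb
      exact ⟨x + y, map_add _ _ _⟩
    | tmul c v =>
      obtain ⟨r, rfl⟩ := Ideal.Quotient.mk_surjective c
      exact ⟨r • v, by rw [map_smul, TensorProduct.mk_apply, smul_tmul', ← Algebra.algebraMap_eq_smul_one]; rfl⟩
  obtain ⟨h, hh⟩ := Module.projective_lifting_property mk1 (g.restrictScalars R ∘ₗ mk1) hmk
  refine ⟨h, TensorProduct.AlgebraTensorModule.ext fun c v => ?_⟩
  have hv := DFunLike.congr_fun hh v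
  simp [mk1] at hv
  rw [LinearMap.baseChange_tmul, show c ⊗ₜ[R] v = c • ((1 : R ⧸ I) ⊗ₜ[R] v) by rw [smul_tmul', smul_eq_mul, mul_one],
    map_smul, ← hv, smul_tmul', smul_eq_mul, mul_one]

theorem isNilpotent_of_baseChange_eq_zero {I : Ideal R} (hI : IsNilpotent I) (N : Type u) [AddCommGroup N] [Module R N]
    (h : Module.End R N) (hh : h.baseChange (R ⧸ I) = 0) : IsNilpotent h := by
  obtain ⟨n, hn⟩ := hI
  refine ⟨n, ?_⟩
  have hmem : ∀ x, h x ∈ I • (⊤ : Submodule R N) := fun x => by
    rw [← one_tmul_eq_zero_iff]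
    exact DFunLike.congr_fun hh ((1 : R ⧸ I) ⊗ₜ[R] x)
  have : ∀ (j : ℕ) x, (h ^ j) x ∈ I ^ j • (⊤ : Submodule R N) := by
    intro j
    induction j with
    | zero => simp
    | succ j ih =>
      intro x
      rw [pow_succ' h, Module.End.mul_apply, pow_succ I, Submodule.mul_smul]
      have := Submodule.mem_map_of_mem (f := h) (ih x)
      rw [Submodule.map_smul''] at this
      refine Submodule.smul_mono (le_refl _) ?_ this
      rintro _ ⟨y, -, rfl⟩
      exact hmem y
  refine LinearMap.ext fun x => ?_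
  have := this n x
  rw [hn, show (0 : Ideal R) = ⊥ from rfl, Submodule.bot_smul, Submodule.mem_bot] at this
  rw [this]; rfl

theorem exists_idem_lift {I : Ideal R} (hI : IsNilpotent I) (N : Type u) [AddCommGroup N] [Module R N] [Module.Projective R N]
    (ē : (R ⧸ I) ⊗[R] N →ₗ[R ⧸ I] (R ⧸ I) ⊗[R] N) (hid : ē ∘ₗ ē = ē) :
    ∃ e : N →ₗ[R] N, e ∘ₗ e = e ∧ e.baseChange (R ⧸ I) = ē := by
  have hid' : @IsIdempotentElem (Module.End (R ⧸ I) ((R ⧸ I) ⊗[R] N)) _ ē := hid
  obtain ⟨e, he, he'⟩ := exists_isIdempotentElem_eq_of_ker_isNilpotent (R := Module.End R N)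
    (S := Module.End (R ⧸ I) ((R ⧸ I) ⊗[R] N)) (Module.End.baseChangeHom R (R ⧸ I) N).toRingHom
    (fun h hh => isNilpotent_of_baseChange_eq_zero hI N h (RingHom.mem_ker.1 hh)) ē
    (RingHom.mem_range.2 (exists_baseChange_eq I N ē)) hid'
  exact ⟨e, he, he'⟩

theorem projective_of_surjective [Module.Flat R M] {I : Ideal R} (hI : IsNilpotent I)
    (hproj : Module.Projective (R ⧸ I) ((R ⧸ I) ⊗[R] M)) {F : Type u} [AddCommGroup F] [Module R F]
    [Module.Projective R F] (q : F →ₗ[R] M) (hq : Function.Surjective q) : Module.Projective R M := by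
  have hqb : Function.Surjective (q.baseChange (R ⧸ I)) := LinearMap.lTensor_surjective _ hq
  obtain ⟨σ, hσ⟩ := Module.projective_lifting_property (q.baseChange (R ⧸ I)) LinearMap.id hqb
  obtain ⟨e, he, heb⟩ := exists_idem_lift hI F (σ ∘ₗ q.baseChange (R ⧸ I)) (by
    rw [LinearMap.comp_assoc, ← LinearMap.comp_assoc (q.baseChange (R ⧸ I)) σ, hσ, LinearMap.id_comp])
  let incl := (LinearMap.range e).subtype
  have hfix : e.rangeRestrict ∘ₗ incl = LinearMap.id := by
    refine LinearMap.ext fun x => Subtype.ext ?_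
    obtain ⟨y, hy⟩ := x.2
    change e x.1 = x.1
    rw [← hy, ← LinearMap.comp_apply, he]
  have hP : Module.Projective R (LinearMap.range e) := Module.Projective.of_split incl e.rangeRestrict hfix
  have hbij : Function.Bijective ((q ∘ₗ incl).baseChange (R ⧸ I)) := by
    constructor
    · rw [injective_iff_map_eq_zero]
      intro z hz
      rw [LinearMap.baseChange_comp, LinearMap.comp_apply] at hz
      have h1 : incl.baseChange (R ⧸ I) z = e.baseChange (R ⧸ I) (incl.baseChange (R ⧸ I) z) := by
        rw [← LinearMap.comp_apply (e.baseChange _), ← LinearMap.baseChange_comp]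
        congr 2
        exact LinearMap.ext fun x => (congrArg Subtype.val (DFunLike.congr_fun hfix x)).symm
      rw [heb, LinearMap.comp_apply, hz, map_zero] at h1
      have h2 := congrArg (e.rangeRestrict.baseChange (R ⧸ I)) h1
      rwa [map_zero, ← LinearMap.comp_apply, ← LinearMap.baseChange_comp, hfix, LinearMap.baseChange_id,
        LinearMap.id_apply] at h2
    · intro w
      obtain ⟨z, rfl⟩ := hqb w
      refine ⟨e.rangeRestrict.baseChange (R ⧸ I) z, ?_⟩
      have := DFunLike.congr_fun hσ (q.baseChange (R ⧸ I) z)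
      simp only [LinearMap.comp_apply, LinearMap.id_apply] at this
      rw [LinearMap.baseChange_comp, LinearMap.comp_apply, ← LinearMap.comp_apply (incl.baseChange _),
        ← LinearMap.baseChange_comp, show incl ∘ₗ e.rangeRestrict = e from rfl, heb, LinearMap.comp_apply, this]
  exact Module.Projective.of_equiv (LinearEquiv.ofBijective (q ∘ₗ incl)
    (bijective_of_bijective_baseChange_nilpotent hI (q ∘ₗ incl) hbij))

theorem projective_of_baseChange_nilpotent [Module.Flat R M] {I : Ideal R} (hI : IsNilpotent I)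
    (hproj : Module.Projective (R ⧸ I) ((R ⧸ I) ⊗[R] M)) : Module.Projective R M :=
  projective_of_surjective hI hproj (Finsupp.linearCombination R id) (Finsupp.linearCombination_id_surjective R M)

end Groth.Agent.CAlgLow
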