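import Groth.Agent.Lib.CAlgLow.Smallest
import Mathlib.RingTheory.Flat.Tensor
import Mathlib.RingTheory.Noetherian.Basic

/-!
# Products of copies of the ring
-/

set_option autoImplicit false

universe u

open TensorProduct

namespace Groth.Agent.CAlgLow

variable (R : Type u) [CommRing R] (M : Type u) [AddCommGroup M] [Module R M] (A : Type u)

/-- The map `M ⊗ R^A → M^A`. -/
noncomputable def piComp : M ⊗[R] (A → R) →ₗ[R] (A → M) :=
  LinearMap.pi fun a => (TensorProduct.rid R M).toLinearMap ∘ₗ (LinearMap.proj a).lTensor M

variable {R M A}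

@[simp] theorem piComp_tmul (m : M) (φ : A → R) (a : A) : piComp R M A (m ⊗ₜ φ) a = φ a • m := by
  simp [piComp]

theorem piComp_natural {N : Type u} [AddCommGroup N] [Module R N] (f : M →ₗ[R] N) (z : M ⊗[R] (A → R)) (a : A) :
    piComp R N A (f.rTensor (A → R) z) a = f (piComp R M A z a) := by
  induction z with
  | zero => simp
  | add x y hx hy => simp only [map_add, Pi.add_apply, hx, hy]
  | tmul m φ => simp

theorem piComp_eq (z : M ⊗[R] (A → R)) :
    piComp R M A z = fun a => TensorProduct.rid R M (piRightHom R R M (fun _ : A => R) z a) := by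
  induction z with
  | zero => ext; simp
  | add x y hx hy => ext; simp [hx, hy]
  | tmul m φ => ext; simp

theorem piComp_bijective [Module.FinitePresentation R M] : Function.Bijective (piComp R M A) := by
  have h : (piComp R M A : M ⊗[R] (A → R) → A → M) =
      (Equiv.piCongrRight fun _ : A => (TensorProduct.rid R M).toEquiv) ∘ piRightHom R R M (fun _ : A => R) :=
    funext fun z => piComp_eq z
  rw [h]
  exact (Equiv.bijective _).comp piRightHom_bijective

theorem finitePresentation_of_piComp_injective [Module.Finite R M]
    (h : ∀ A : Type u, Function.Injective (piComp R M A)) : Module.FinitePresentation R M := by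
  obtain ⟨n, q, hq⟩ := Module.Finite.exists_fin' R M
  refine Module.finitePresentation_of_surjective q hq ?_
  let z : (Fin n → R) ⊗[R] (LinearMap.ker q → R) :=
    ∑ j, Pi.single (M := fun _ : Fin n => R) j 1 ⊗ₜ (fun k : LinearMap.ker q => (k : Fin n → R) j)
  have hz : ∀ k, piComp R (Fin n → R) _ z k = (k : Fin n → R) := fun k => by
    ext j; simp [z, Finset.sum_apply, Pi.single_apply]
  have h0 : q.rTensor _ z = 0 := h _ ((funext fun k => by
    rw [piComp_natural, hz, LinearMap.mem_ker.1 k.2]; rfl).trans (map_zero _).symm)
  obtain ⟨w, hw⟩ := (rTensor_exact _ (LinearMap.exact_subtype_ker_map q) hq z).1 h0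
  obtain ⟨m, f, y, hy⟩ := exists_fin_preimage w
  have hrange : LinearMap.ker q = LinearMap.range ((LinearMap.ker q).subtype ∘ₗ f) := by
    refine le_antisymm (fun k hk => ⟨piComp R (Fin m → R) _ y ⟨k, hk⟩, ?_⟩)
      (by rw [LinearMap.range_comp]; exact Submodule.map_subtype_le _ _)
    rw [← piComp_natural, LinearMap.rTensor_comp_apply, hy, hw, hz]
  rw [hrange]
  exact Submodule.fg_range _

theorem coherent_iff_pi_flat :
    (∀ I : Ideal R, I.FG → Module.FinitePresentation R I) ↔ ∀ (A : Type u), Module.Flat R (A → R) := by
  refine ⟨fun h A => Module.Flat.iff_rTensor_injective.2 fun I hI => ?_, fun h I hI => ?_⟩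
  · have := h I hI
    intro x y hxy
    refine (piComp_bijective (R := R) (M := I) (A := A)).1 (funext fun a => Subtype.ext ?_)
    exact ((piComp_natural I.subtype x a).symm.trans (by rw [hxy])).trans (piComp_natural I.subtype y a)
  · have : Module.Finite R I := .of_fg hI
    refine finitePresentation_of_piComp_injective fun A x y hxy => ?_
    refine Module.Flat.iff_rTensor_injective.1 (h A) hI (piComp_bijective.1 (funext fun a => ?_))
    rw [piComp_natural, piComp_natural, hxy]

theorem isMittagLeffler_pi_of_isNoetherianRing [IsNoetherianRing R] [Module.Flat R (A → R)] :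
    CAlg.IsMittagLeffler R (A → R) := by
  refine isMittagLeffler_of_smallest fun n x => ?_
  let F' : Submodule R (Fin n → R) := Submodule.span R (Set.range (piComp R (Fin n → R) A x))
  refine ⟨F', ?_, fun F'' hF => ?_⟩
  · have : Module.FinitePresentation R F' := Module.finitePresentation_of_finite R _
    obtain ⟨y, hy⟩ := (piComp_bijective (R := R) (M := F') (A := A)).2
      fun a => ⟨piComp R (Fin n → R) A x a, Submodule.subset_span ⟨a, rfl⟩⟩
    refine ⟨y, (piComp_bijective (R := R) (M := Fin n → R)).1 (funext fun a => ?_)⟩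
    rw [piComp_natural, hy]; rfl
  · obtain ⟨y, hy⟩ := hF
    rw [Submodule.span_le]
    rintro _ ⟨a, rfl⟩
    rw [← hy, piComp_natural]
    exact (piComp R F'' A y a).2

end Groth.Agent.CAlgLow
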