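import Groth.Agent.Lib.CAlgLow.UI
import Groth.Agent.Lib.CAlgLow.PiFlat
import Mathlib.RingTheory.Filtration
import Mathlib.RingTheory.AdicCompletion.Basic
import Mathlib.RingTheory.AdicCompletion.Functoriality
import Mathlib.RingTheory.AdicCompletion.Completeness

/-!
# Null families and completions of free modules
-/

set_option autoImplicit false

universe u

open TensorProduct

namespace Groth.Agent.CAlgLow

variable {R : Type u} [CommRing R] (I : Ideal R) (α : Type u)

/-- The families tending to zero for the `I`-adic topology. -/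
def nullFun : Submodule R (α → R) where
  carrier := {f | ∀ n, {a | f a ∉ I ^ n}.Finite}
  add_mem' := fun {f g} hf hg n => ((hf n).union (hg n)).subset fun a ha => by
    by_contra h
    simp only [Set.mem_union, Set.mem_setOf_eq, not_or, not_not] at h
    exact ha (add_mem h.1 h.2)
  zero_mem' := fun n => by simp
  smul_mem' := fun r f hf n => (hf n).subset fun a ha h => ha (Ideal.mul_mem_left _ r h)

theorem mem_nullFun {f : α → R} : f ∈ nullFun I α ↔ ∀ n, {a | f a ∉ I ^ n}.Finite := Iff.rfl

/-- The null families form a universally injective submodule of the product. -/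
theorem universallyInjective_nullFun [IsNoetherianRing R] [IsHausdorff I R] :
    CAlgX.UniversallyInjective R (nullFun I α).subtype := by
  classical
  intro Q _ _
  rw [injective_iff_map_eq_zero]
  intro z hz
  obtain ⟨s, rfl⟩ := TensorProduct.exists_finset z
  let N := s.card
  let e := s.equivFin
  let v : α → (Fin N → R) := fun a j => (e.symm j).1.1.1 a
  let π : (Fin N → R) →ₗ[R] Q := Fintype.linearCombination R fun j => (e.symm j).1.2
  let ev : ((Fin N → R)) := 0
  -- the value in `Q` at each index vanishes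
  have hK : ∀ a, v a ∈ LinearMap.ker π := fun a => by
    have h := congrArg (TensorProduct.lift ((LinearMap.lsmul R Q).comp (LinearMap.proj a : (α → R) →ₗ[R] R))) hz
    rw [map_sum, map_sum, map_zero] at h
    rw [LinearMap.mem_ker, Fintype.linearCombination_apply, ← Equiv.sum_comp e]
    simp only [v, Equiv.symm_apply_apply]
    rw [Finset.sum_coe_sort s fun p => (p.1 : α → R) a • p.2]
    simpa using h
  obtain ⟨n, k, hk⟩ := Submodule.fg_iff_exists_fin_generating_family.1
    (IsNoetherian.noetherian (LinearMap.ker π))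
  obtain ⟨c, hc⟩ := Ideal.exists_pow_inf_eq_pow_smul I (LinearMap.ker π)
  have hsm : ∀ m, ∀ w, (∀ j, w j ∈ I ^ m) → w ∈ I ^ m • (⊤ : Submodule R (Fin N → R)) := fun m w hw => by
    rw [show w = ∑ j, w j • (Pi.single j 1 : Fin N → R) from pi_eq_sum_univ' w]
    exact sum_mem fun j _ => Submodule.smul_mem_smul (hw j) Submodule.mem_top
  -- coefficients as small as the vector
  have hcoef : ∀ a, ∃ d : Fin n → R, v a = ∑ i, d i • k i ∧ ∀ m, (∀ j, v a j ∈ I ^ (m + c)) → ∀ i, d i ∈ I ^ m := by
    intro a
    by_cases h0 : v a = 0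
    · exact ⟨0, by simp [h0], fun m _ i => zero_mem _⟩
    obtain ⟨j₀, hj₀⟩ : ∃ j, v a j ≠ 0 := Function.ne_iff.1 h0
    obtain ⟨M, hM⟩ : ∃ M, v a j₀ ∉ I ^ M := by
      by_contra h
      simp only [not_exists, not_not] at h
      exact hj₀ (IsHausdorff.haus ‹_› _ fun M => by rw [SModEq.zero, smul_eq_mul, Ideal.mul_top]; exact h M)
    let m₀ := Nat.findGreatest (fun m => ∀ j, v a j ∈ I ^ (m + c)) M
    have hbound : ∀ m, (∀ j, v a j ∈ I ^ (m + c)) → m ≤ M := fun m hm => by
      by_contra hlt
      exact hM (Ideal.pow_le_pow_right (by omega) (hm j₀))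
    have hle : ∀ m, (∀ j, v a j ∈ I ^ (m + c)) → m ≤ m₀ := fun m hm => Nat.le_findGreatest (hbound m hm) hm
    by_cases hex : ∃ m, ∀ j, v a j ∈ I ^ (m + c)
    · have hm₀ : ∀ j, v a j ∈ I ^ (m₀ + c) := by
        obtain ⟨m, hm⟩ := hex
        exact Nat.findGreatest_spec (P := fun m => ∀ j, v a j ∈ I ^ (m + c)) (hbound m hm) hm
      have h1 : v a ∈ I ^ m₀ • Submodule.span R (Set.range k) := by
        rw [hk]
        have h2 : v a ∈ I ^ (m₀ + c) • ⊤ ⊓ LinearMap.ker π := ⟨hsm _ _ hm₀, hK a⟩
        rw [hc (m₀ + c) (Nat.le_add_left c m₀), Nat.add_sub_cancel] at h2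
        exact Submodule.smul_mono le_rfl inf_le_right h2
      obtain ⟨d, hd, hsum⟩ := (Submodule.mem_ideal_smul_span_iff_exists_sum (I ^ m₀) k _).1 h1
      refine ⟨d, ?_, fun m hm i => Ideal.pow_le_pow_right (hle m hm) (hd i)⟩
      rw [← hsum, Finsupp.sum_fintype]
      simp
    · obtain ⟨d, hd⟩ := (Submodule.mem_span_range_iff_exists_fun R).1 (hk ▸ hK a)
      exact ⟨d, hd.symm, fun m hm => absurd ⟨m, hm⟩ hex⟩
  choose d hd hdsmall using hcoef
  have hdnull : ∀ i, (fun a => d a i) ∈ nullFun I α := fun i m => by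
    refine (Set.finite_iUnion fun j : Fin N => ((e.symm j).1.1.2 (m + c))).subset fun a ha => ?_
    by_contra h
    simp only [Set.mem_iUnion, Set.mem_setOf_eq, not_exists, not_not] at h
    exact ha (hdsmall a m h i)
  let D : Fin n → nullFun I α := fun i => ⟨fun a => d a i, hdnull i⟩
  have hs : ∀ j : Fin N, (e.symm j).1.1 = ∑ i, k i j • D i := fun j => by
    refine Subtype.ext (funext fun a => ?_)
    have h := congrFun (hd a) j
    simp only [Finset.sum_apply, Pi.smul_apply, smul_eq_mul] at h
    simp only [Submodule.coe_sum, Finset.sum_apply, Submodule.coe_smul, Pi.smul_apply, smul_eq_mul, D]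
    exact h.trans (Finset.sum_congr rfl fun i _ => mul_comm _ _)
  calc ∑ p ∈ s, p.1 ⊗ₜ[R] p.2 = ∑ p : s, p.1.1 ⊗ₜ[R] p.1.2 := (Finset.sum_coe_sort s fun p => p.1 ⊗ₜ[R] p.2).symm
    _ = ∑ j : Fin N, (e.symm j).1.1 ⊗ₜ[R] (e.symm j).1.2 := (Equiv.sum_comp e.symm fun p : s => p.1.1 ⊗ₜ[R] p.1.2).symm
    _ = ∑ i, D i ⊗ₜ[R] π (k i) := by
      simp only [hs, TensorProduct.sum_tmul, TensorProduct.smul_tmul, π, Fintype.linearCombination_apply,
        TensorProduct.tmul_sum]
      exact Finset.sum_comm
    _ = 0 := Finset.sum_eq_zero fun i _ => by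
      rw [LinearMap.mem_ker.1 (hk.le (Submodule.subset_span ⟨i, rfl⟩)), TensorProduct.tmul_zero]

theorem flat_nullFun [IsNoetherianRing R] [IsHausdorff I R] : Module.Flat R (nullFun I α) :=
  have : Module.Flat R (α → R) := coherent_iff_pi_flat.1 (fun J _ => Module.finitePresentation_of_finite R J) α
  flat_left_of_ui (universallyInjective_nullFun I α)

theorem isMittagLeffler_nullFun [IsNoetherianRing R] [IsHausdorff I R] :
    CAlg.IsMittagLeffler R (nullFun I α) :=
  have : Module.Flat R (α → R) := coherent_iff_pi_flat.1 (fun J _ => Module.finitePresentation_of_finite R J) α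
  isMittagLeffler_of_ui (universallyInjective_nullFun I α) isMittagLeffler_pi_of_isNoetherianRing

section completion

/-- The coordinates of the completion of a free module. -/
noncomputable def coordMap : AdicCompletion I (α →₀ R) →ₗ[R] (α → AdicCompletion I R) :=
  LinearMap.pi fun a : α => AdicCompletion.map I (Finsupp.lapply a : (α →₀ R) →ₗ[R] R)

theorem coordMap_val (x : AdicCompletion I (α →₀ R)) (a : α) (n : ℕ) (g : α →₀ R)
    (hg : Submodule.Quotient.mk g = x.val n) : (coordMap I α x a).val n = Submodule.Quotient.mk (g a) := by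
  simp [coordMap, AdicCompletion.map_val_apply, ← hg]
  rfl

theorem finsupp_mem_smul_top {n : ℕ} (g : α →₀ R) (h : ∀ a, g a ∈ I ^ n) :
    g ∈ I ^ n • (⊤ : Submodule R (α →₀ R)) := by
  rw [← Finsupp.sum_single g]
  refine Submodule.sum_mem _ fun a _ => ?_
  show Finsupp.single a (g a) ∈ _
  rw [show Finsupp.single a (g a) = g a • Finsupp.single a (1 : R) by rw [Finsupp.smul_single, smul_eq_mul, mul_one]]
  exact Submodule.smul_mem_smul (h a) Submodule.mem_top

theorem coordMap_injective : Function.Injective (coordMap I α) := by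
  rw [injective_iff_map_eq_zero]
  intro x hx
  refine AdicCompletion.ext fun n => ?_
  obtain ⟨g, hg⟩ := Submodule.Quotient.mk_surjective _ (x.val n)
  rw [← hg, AdicCompletion.val_zero_apply, Submodule.Quotient.mk_eq_zero]
  refine finsupp_mem_smul_top I α g fun a => ?_
  have h := coordMap_val I α x a n g hg
  rw [hx] at h
  have h' := (Submodule.Quotient.mk_eq_zero _).1 h.symm
  rwa [smul_eq_mul, Ideal.mul_top] at h'

theorem range_coordMap (f : α → AdicCompletion I R) :
    f ∈ LinearMap.range (coordMap I α) ↔ ∀ n, {a | (f a).val n ≠ 0}.Finite := by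
  classical
  constructor
  · rintro ⟨x, rfl⟩ n
    obtain ⟨g, hg⟩ := Submodule.Quotient.mk_surjective _ (x.val n)
    refine g.support.finite_toSet.subset fun a ha => ?_
    simp only [Finset.mem_coe, Finsupp.mem_support_iff]
    intro h0
    exact ha (by rw [coordMap_val I α x a n g hg, h0]; rfl)
  · intro hf
    let r : ℕ → α → R := fun n a => if (f a).val n = 0 then 0 else ((f a).val n).out
    have hr : ∀ n a, Submodule.Quotient.mk (r n a) = (f a).val n := fun n a => by
      simp only [r]
      split_ifs with h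
      · rw [h]; rfl
      · exact Quotient.out_eq _
    let g : ℕ → α →₀ R := fun n => Finsupp.ofSupportFinite (r n) ((hf n).subset fun a ha h => ha (by simp [r, h]))
    let x : AdicCompletion I (α →₀ R) := ⟨fun n => Submodule.Quotient.mk (g n), fun {m n} hmn => by
      refine (Submodule.Quotient.eq _).2 (finsupp_mem_smul_top I α _ fun a => ?_)
      have h := (f a).prop hmn
      rw [← hr m a, ← hr n a] at h
      have h' := (Submodule.Quotient.eq _).1 h
      rw [smul_eq_mul, Ideal.mul_top] at h'
      exact h'⟩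
    refine ⟨x, funext fun a => AdicCompletion.ext fun n => ?_⟩
    rw [coordMap_val I α x a n (g n) rfl, ← hr n a]
    rfl

end completion

end Groth.Agent.CAlgLow
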