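import Groth.Agent.Lib.DMod.Basic
import Mathlib

/-! # Ext out of a pseudo-coherent object as classes of cocycles on a free complex -/

set_option autoImplicit false
universe u

open CategoryTheory CategoryTheory.Limits HomologicalComplex

attribute [local instance] HasDerivedCategory.standard

namespace Groth.Agent.PCExt

variable {A : Type u} [CommRing A] {E : DRing.Cx A}

/-- The map of complexes attached to a cocycle. -/
noncomputable def toSingle (j : ℤ) {M : ModuleCat.{u} A} (φ : E.X j →ₗ[A] M)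
    (h : φ ∘ₗ (E.d (j - 1) j).hom = 0) : E ⟶ (single (ModuleCat.{u} A) (ComplexShape.up ℤ) j).obj M :=
  mkHomToSingle (ModuleCat.ofHom φ) fun i hi => by
    obtain rfl : i = j - 1 := by simp at hi; omega
    ext1; exact h

theorem toSingle_f (j : ℤ) {M : ModuleCat.{u} A} (φ : E.X j →ₗ[A] M) (h : φ ∘ₗ (E.d (j - 1) j).hom = 0) :
    (toSingle j φ h).f j = ModuleCat.ofHom φ ≫ (singleObjXSelf (ComplexShape.up ℤ) j M).inv :=
  mkHomToSingle_f _ _

theorem toSingle_surjective (j : ℤ) {M : ModuleCat.{u} A} (g : E ⟶ (single (ModuleCat.{u} A) (ComplexShape.up ℤ) j).obj M) :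
    ∃ φ h, toSingle j φ h = g := by
  let φ' : E.X j ⟶ M := g.f j ≫ (singleObjXSelf (ComplexShape.up ℤ) j M).hom
  have h : E.d (j - 1) j ≫ φ' = 0 := by
    simp only [φ', ← Category.assoc, ← g.comm (j - 1) j, single_obj_d, comp_zero, zero_comp]
  refine ⟨φ'.hom, by have := congrArg ModuleCat.Hom.hom h; simpa [ModuleCat.hom_comp] using this, ?_⟩
  apply to_single_hom_ext
  rw [toSingle_f]
  simp [φ']

theorem map_toSingle (j : ℤ) {M N : ModuleCat.{u} A} (f : M ⟶ N) (φ : E.X j →ₗ[A] M)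
    (h : φ ∘ₗ (E.d (j - 1) j).hom = 0) :
    toSingle j φ h ≫ (single (ModuleCat.{u} A) (ComplexShape.up ℤ) j).map f =
      toSingle j (f.hom ∘ₗ φ) (by rw [LinearMap.comp_assoc, h, LinearMap.comp_zero]) := by
  apply to_single_hom_ext
  rw [comp_f, toSingle_f, toSingle_f, single_map_f_self]
  simp only [Category.assoc, Iso.inv_hom_id_assoc]
  rfl

theorem Q_toSingle_eq_zero_iff [E.IsKProjective] (j : ℤ) {M : ModuleCat.{u} A} (φ : E.X j →ₗ[A] M)
    (h : φ ∘ₗ (E.d (j - 1) j).hom = 0) :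
    DerivedCategory.Q.map (toSingle j φ h) = 0 ↔ ∃ θ : E.X (j + 1) →ₗ[A] M, φ = θ ∘ₗ (E.d j (j + 1)).hom := by
  let S := (single (ModuleCat.{u} A) (ComplexShape.up ℤ) j).obj M
  rw [DMod.map_eq_zero_iff]
  constructor
  · rintro ⟨H⟩
    have hc := H.comm j
    rw [toSingle_f, dNext_eq H.hom (show (ComplexShape.up ℤ).Rel j (j + 1) from rfl),
      prevD_eq H.hom (show (ComplexShape.up ℤ).Rel (j - 1) j from Int.sub_add_cancel j 1), single_obj_d, comp_zero,
      add_zero, zero_f, add_zero, Iso.comp_inv_eq, Category.assoc] at hc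
    exact ⟨(H.hom (j + 1) j ≫ (singleObjXSelf (ComplexShape.up ℤ) j M).hom).hom, congrArg ModuleCat.Hom.hom hc⟩
  · rintro ⟨θ, hθ⟩
    let hh : ∀ i k, (ComplexShape.up ℤ).Rel k i → (E.X i ⟶ S.X k) := fun i k _ =>
      if hik : i = j + 1 ∧ k = j then
        eqToHom (by rw [hik.1]) ≫ ModuleCat.ofHom θ ≫ (singleObjXSelf (ComplexShape.up ℤ) j M).inv ≫ eqToHom (by rw [hik.2])
      else 0
    have : toSingle j φ h = Homotopy.nullHomotopicMap' hh := by
      apply to_single_hom_ext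
      rw [toSingle_f, Homotopy.nullHomotopicMap'_f (k₂ := j - 1) (k₀ := j + 1) (Int.sub_add_cancel j 1) rfl]
      simp [hh, hθ, ModuleCat.ofHom_comp, S]
    exact ⟨this ▸ Homotopy.nullHomotopy' hh⟩

/-- Cocycles. -/
abbrev Z (E : DRing.Cx A) (j : ℤ) (M : Type u) [AddCommGroup M] [Module A M] :
    Submodule A (E.X j →ₗ[A] M) :=
  LinearMap.ker (LinearMap.lcomp A M (E.d (j - 1) j).hom)

/-- From degree-`j` complexes to the shifted object. -/
noncomputable def shiftInD (j p : ℤ) (hjp : p + j = 0) :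
    (HomologicalComplex.single (ModuleCat.{u} A) (ComplexShape.up ℤ) j) ⋙ DerivedCategory.Q ≅
      DerivedCategory.singleFunctor (ModuleCat.{u} A) 0 ⋙ shiftFunctor (Dual.D A) p :=
  (DerivedCategory.singleFunctorIsoCompQ (ModuleCat.{u} A) j).symm ≪≫
    ((DerivedCategory.singleFunctors (ModuleCat.{u} A)).shiftIso p j 0 hjp).symm

variable [E.IsKProjective] {K : Dual.D A} (e : DRing.toD E ≅ K) (j p : ℤ) (hjp : p + j = 0)

/-- The class of a cocycle. -/
noncomputable def cls (M : Type u) [AddCommGroup M] [Module A M] :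
    Z E j M →ₗ[A] (K ⟶ (Dual.inD A M)⟦p⟧) where
  toFun φ := e.inv ≫ DerivedCategory.Q.map (toSingle j (M := ModuleCat.of A M) φ.1 φ.2) ≫
    (shiftInD j p hjp).hom.app (ModuleCat.of A M)
  map_add' φ ψ := by
    rw [show toSingle j (M := ModuleCat.of A M) (φ + ψ).1 (φ + ψ).2 =
        toSingle j (M := ModuleCat.of A M) φ.1 φ.2 + toSingle j (M := ModuleCat.of A M) ψ.1 ψ.2 from
      to_single_hom_ext (by rw [add_f_apply, toSingle_f, toSingle_f, toSingle_f, ← Preadditive.add_comp]; rfl),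
      Functor.map_add, Preadditive.add_comp, Preadditive.comp_add]
  map_smul' a φ := by
    rw [show toSingle j (M := ModuleCat.of A M) (a • φ).1 (a • φ).2 = a • toSingle j (M := ModuleCat.of A M) φ.1 φ.2 from
      to_single_hom_ext (by rw [smul_f_apply, toSingle_f, toSingle_f, ← Linear.smul_comp]; rfl),
      Functor.map_smul, Linear.smul_comp, Linear.comp_smul]
    rfl

theorem cls_surjective (M : Type u) [AddCommGroup M] [Module A M] : Function.Surjective (cls e j p hjp M) := by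
  intro x
  let s := (shiftInD j p hjp).app (ModuleCat.of A M)
  obtain ⟨g, hg⟩ := DMod.exists_map_eq (P := E)
    (L := (single (ModuleCat.{u} A) (ComplexShape.up ℤ) j).obj (ModuleCat.of A M)) (e.hom ≫ x ≫ s.inv)
  obtain ⟨φ, h, rfl⟩ := toSingle_surjective j g
  refine ⟨⟨φ, h⟩, ?_⟩
  show e.inv ≫ DerivedCategory.Q.map (toSingle j φ h) ≫ s.hom = x
  rw [hg, Category.assoc, Category.assoc]
  erw [s.inv_hom_id, Category.comp_id, e.inv_hom_id_assoc]

theorem cls_eq_zero_iff (M : Type u) [AddCommGroup M] [Module A M] (φ : Z E j M) :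
    cls e j p hjp M φ = 0 ↔ ∃ θ : E.X (j + 1) →ₗ[A] M, φ.1 = θ ∘ₗ (E.d j (j + 1)).hom := by
  rw [← Q_toSingle_eq_zero_iff j (M := ModuleCat.of A M) φ.1 φ.2]
  show e.inv ≫ _ ≫ _ = 0 ↔ _
  constructor
  · intro h
    exact (cancel_mono ((shiftInD j p hjp).hom.app (ModuleCat.of A M))).1
      ((cancel_epi e.inv).1 (h.trans comp_zero.symm) |>.trans zero_comp.symm)
  · intro h; rw [h, zero_comp, comp_zero]

theorem cls_natural {M N : Type u} [AddCommGroup M] [Module A M] [AddCommGroup N] [Module A N] (f : M →ₗ[A] N)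
    (φ : Z E j M) (ψ : Z E j N) (hψ : ψ.1 = f ∘ₗ φ.1) :
    cls e j p hjp M φ ≫ ((DerivedCategory.singleFunctor (ModuleCat.{u} A) 0).map (ModuleCat.ofHom f))⟦p⟧' =
      cls e j p hjp N ψ := by
  show (e.inv ≫ _ ≫ _) ≫ _ = e.inv ≫ _ ≫ _
  rw [Category.assoc, Category.assoc]
  have := (shiftInD j p hjp).hom.naturality (ModuleCat.ofHom f)
  rw [Functor.comp_map, Functor.comp_map] at this
  congr 1
  refine (congrArg (_ ≫ ·) this.symm).trans ?_
  rw [← Category.assoc, ← Functor.map_comp, map_toSingle]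
  congr 3
  exact hψ.symm

end Groth.Agent.PCExt
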