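import Groth.Agent.Lib.CAlgLow.PCExt
import Mathlib

/-! # Artin–Rees for Ext out of a pseudo-coherent object -/

set_option autoImplicit false
universe u

open CategoryTheory CategoryTheory.Limits

attribute [local instance] HasDerivedCategory.standard

namespace Groth.Agent.PCExt

variable {A : Type u} [CommRing A]

theorem mem_smul_top_of_range {P N : Type u} [AddCommGroup P] [Module A P] [Module.Finite A P] [Module.Free A P]
    [AddCommGroup N] [Module A N] (J : Ideal A) (φ : P →ₗ[A] N) (h : ∀ x, φ x ∈ J • (⊤ : Submodule A N)) :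
    φ ∈ J • (⊤ : Submodule A (P →ₗ[A] N)) := by
  classical
  let b := Module.Free.chooseBasis A P
  have hφ : φ = ∑ i, LinearMap.smulRightₗ (b.coord i) (φ (b i)) := b.ext fun k => by
    simp [LinearMap.smulRightₗ_apply, Finsupp.single_apply]
  rw [hφ]
  refine Submodule.sum_mem _ fun i _ => ?_
  have := Submodule.mem_map_of_mem (f := LinearMap.smulRightₗ (b.coord i)) (h (b i))
  rw [Submodule.map_smul''] at this
  exact Submodule.smul_mono le_rfl le_top this

variable [IsNoetherianRing A] {E : DRing.Cx A} [E.IsKProjective] {K : Dual.D A}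

theorem exists_cls_mem (hE : DRing.TermwiseFiniteFree E) (e : DRing.toD E ≅ K) (j p : ℤ) (hjp : p + j = 0)
    (I : Ideal A) (M : Type u) [AddCommGroup M] [Module A M] [Module.Finite A M] :
    ∃ c : ℕ, ∀ n, c ≤ n → ∀ φ : Z E j M, (∀ x, φ.1 x ∈ I ^ n • (⊤ : Submodule A M)) →
      cls e j p hjp M φ ∈ I ^ (n - c) • (⊤ : Submodule A (K ⟶ (Dual.inD A M)⟦p⟧)) := by
  haveI := (hE j).1
  haveI := (hE j).2
  haveI : Module.FinitePresentation A (E.X j) := Module.finitePresentation_of_finite A _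
  obtain ⟨k, hk⟩ := Ideal.exists_pow_inf_eq_pow_smul I (Z E j M)
  refine ⟨k, fun n hn φ hφ => ?_⟩
  have h1 : φ.1 ∈ I ^ n • (⊤ : Submodule A (E.X j →ₗ[A] M)) ⊓ Z E j M := ⟨mem_smul_top_of_range _ _ hφ, φ.2⟩
  rw [hk n hn] at h1
  have h2 : φ.1 ∈ Submodule.map (Z E j M).subtype (I ^ (n - k) • ⊤) := by
    rw [Submodule.map_smul'', Submodule.map_top, Submodule.range_subtype]
    exact Submodule.smul_mono le_rfl inf_le_right h1
  obtain ⟨φ', hφ', he⟩ := h2
  obtain rfl : φ' = φ := Subtype.ext he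
  have := Submodule.mem_map_of_mem (f := cls e j p hjp M) hφ'
  rw [Submodule.map_smul''] at this
  exact Submodule.smul_mono le_rfl le_top this

theorem exists_kill (hE : DRing.TermwiseFiniteFree E) (e : DRing.toD E ≅ K) (j p : ℤ) (hjp : p + j = 0)
    (I : Ideal A) (M : Type u) [AddCommGroup M] [Module A M] [Module.Finite A M]
    (htors : ∀ x : K ⟶ (Dual.inD A M)⟦p⟧, ∃ n : ℕ, ∀ a ∈ I ^ n, a • x = 0) :
    ∃ k : ℕ, ∀ x : K ⟶ (Dual.inD A M)⟦p⟧, ∀ a ∈ I ^ k, a • x = 0 := by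
  classical
  haveI := (hE j).1
  haveI := (hE j).2
  haveI : Module.Finite A (Z E j M) := Module.Finite.iff_fg.2 (IsNoetherian.noetherian _)
  haveI : Module.Finite A (K ⟶ (Dual.inD A M)⟦p⟧) := Module.Finite.of_surjective _ (cls_surjective e j p hjp M)
  obtain ⟨s, hs⟩ := ‹Module.Finite A (K ⟶ (Dual.inD A M)⟦p⟧)›
  choose n hn using htors
  refine ⟨s.sup n, fun x a ha => ?_⟩
  have hx : x ∈ Submodule.span A (↑s : Set (K ⟶ (Dual.inD A M)⟦p⟧)) := hs ▸ trivial
  induction hx using Submodule.span_induction with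
  | mem y hy => exact hn y a (Ideal.pow_le_pow_right (Finset.le_sup hy) ha)
  | zero => rw [smul_zero]
  | add y z _ _ hy hz => rw [smul_add, hy, hz, add_zero]
  | smul c y _ hy => rw [smul_comm, hy, smul_zero]

/-- Cocycles into a high power are coboundaries. -/
theorem exists_coboundary (hE : DRing.TermwiseFiniteFree E) (e : DRing.toD E ≅ K) (j p : ℤ) (hjp : p + j = 0)
    (I : Ideal A) (M : Type u) [AddCommGroup M] [Module A M] [Module.Finite A M]
    (htors : ∀ x : K ⟶ (Dual.inD A M)⟦p⟧, ∃ n : ℕ, ∀ a ∈ I ^ n, a • x = 0) :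
    ∃ m₀ : ℕ, ∀ m, m₀ ≤ m → ∀ φ : Z E j M, (∀ x, φ.1 x ∈ I ^ m • (⊤ : Submodule A M)) →
      ∃ θ : E.X (j + 1) →ₗ[A] M, φ.1 = θ ∘ₗ (E.d j (j + 1)).hom := by
  obtain ⟨c, hc⟩ := exists_cls_mem hE e j p hjp I M
  obtain ⟨k, hk⟩ := exists_kill hE e j p hjp I M htors
  refine ⟨c + k, fun m hm φ hφ => (cls_eq_zero_iff e j p hjp M φ).1 ?_⟩
  have h1 := Submodule.smul_mono (Ideal.pow_le_pow_right (show k ≤ m - c by omega)) le_rfl (hc m (by omega) φ hφ)
  have h0 : I ^ k • (⊤ : Submodule A (K ⟶ (Dual.inD A M)⟦p⟧)) ≤ ⊥ :=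
    Submodule.smul_le.2 fun a ha x _ => (Submodule.mem_bot A).2 (hk x a ha)
  exact (Submodule.mem_bot A).1 (h0 h1)

end Groth.Agent.PCExt
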