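import Groth.Agent.Lib.CAlgLow.CountableML
import Groth.Agent.Lib.CAlgLow.FFDescent
import Groth.Agent.Lib.Kap.Summand
import Mathlib.LinearAlgebra.Projection
import Mathlib.Algebra.Module.Projective
import Mathlib.RingTheory.Flat.Basic

/-!
# Projectivity: flat, Mittag-Leffler, and a sum of countably generated modules
-/

set_option autoImplicit false

universe u

open TensorProduct

namespace Groth.Agent.CAlgLow

variable {R : Type u} [CommRing R] {M : Type u} [AddCommGroup M] [Module R M]

theorem isMittagLeffler_self : CAlg.IsMittagLeffler R R := isMittagLeffler_of_finitePresentation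

theorem isMittagLeffler_of_projective [Module.Projective R M] : CAlg.IsMittagLeffler R M := by
  classical
  obtain ⟨s, hs⟩ := Module.projective_def'.1 ‹Module.Projective R M›
  refine isMittagLeffler_of_ui (ui_of_leftInverse (f := s) (g := Finsupp.linearCombination R id) hs) ?_
  exact isMittagLeffler_congr (finsuppLEquivDirectSum R R M)
    ((isMittagLeffler_directSum fun _ : M => R).2 fun _ => isMittagLeffler_self)

theorem exists_cg_decomposition [Module.Projective R M] :
    ∃ (κ : Type u) (L : κ → Submodule R M), iSupIndep L ∧ ⨆ k, L k = ⊤ ∧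
      ∀ k, CAlg.IsCountablyGenerated R (L k) := by
  classical
  obtain ⟨s, hs⟩ := Module.projective_def'.1 ‹Module.Projective R M›
  let N : M → Submodule R (M →₀ R) := fun m => LinearMap.range (Finsupp.lsingle m)
  have hind : iSupIndep N := by
    intro i
    have h := Finsupp.disjoint_lsingle_lsingle (M := R) (R := R) {i} {j | j ≠ i}
      (Set.disjoint_singleton_left.2 (by simp))
    simpa [N] using h
  obtain ⟨κ, L, hL1, hL2, hL3⟩ := Groth.Agent.Kap.exists_isInternal_summand N hind Finsupp.iSup_lsingle_range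
    (fun m => (Groth.Agent.Kap.cg_iff_exists (R := R) (N m)).2 ⟨{Finsupp.single m 1}, Set.countable_singleton _, by
      refine le_antisymm (Submodule.span_le.2 ?_) ?_
      · rintro _ rfl; exact ⟨1, rfl⟩
      · rintro _ ⟨r, rfl⟩
        exact Submodule.mem_span_singleton.2 ⟨r, by rw [Finsupp.smul_single, smul_eq_mul, mul_one]; rfl⟩⟩)
    (LinearMap.range s) (LinearMap.ker (Finsupp.linearCombination R id)) (by
      refine ⟨Submodule.disjoint_def.2 ?_, codisjoint_iff.2 (eq_top_iff.2 fun x _ => ?_)⟩
      · rintro _ ⟨m, rfl⟩ hm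
        have : Finsupp.linearCombination R id (s m) = m := DFunLike.congr_fun hs m
        rw [show m = 0 from this.symm.trans hm, map_zero]
      · refine Submodule.mem_sup.2 ⟨s (Finsupp.linearCombination R id x), ⟨_, rfl⟩, _, ?_, add_sub_cancel _ x⟩
        rw [LinearMap.mem_ker, map_sub, sub_eq_zero]
        exact (DFunLike.congr_fun hs _).symm)
  have hinj : Function.Injective s :=
    Function.LeftInverse.injective (g := Finsupp.linearCombination R id) (DFunLike.congr_fun hs)
  let e : M ≃ₗ[R] LinearMap.range s := LinearEquiv.ofInjective s hinj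
  refine ⟨κ, fun k => (L k).map e.symm.toLinearMap, ?_, ?_, fun k => by exact Groth.Agent.Kap.cg_map (R := R) (M := ↥(LinearMap.range s)) (M' := M) (N := L k) (hL3 k) e.symm.toLinearMap⟩
  · exact hL1.map_orderIso (Submodule.orderIsoMapComap e.symm)
  · rw [← Submodule.map_iSup, hL2, Submodule.map_top, LinearEquiv.range]

theorem projective_of_isInternal {κ : Type u} (L : κ → Submodule R M) [DecidableEq κ] (hI : DirectSum.IsInternal L)
    (h : ∀ k, Module.Projective R (L k)) : Module.Projective R M :=
  Module.Projective.of_equiv (M := DirectSum κ fun k => ↥(L k)) (LinearEquiv.ofBijective (DirectSum.coeLinearMap L) hI)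

theorem exists_retraction_of_isInternal {κ : Type u} (L : κ → Submodule R M) [DecidableEq κ]
    (hI : DirectSum.IsInternal L) (k : κ) : ∃ p : M →ₗ[R] L k, p ∘ₗ (L k).subtype = LinearMap.id := by
  let e := LinearEquiv.ofBijective (DirectSum.coeLinearMap L) hI
  refine ⟨DirectSum.component R κ (fun k => ↥(L k)) k ∘ₗ e.symm.toLinearMap, LinearMap.ext fun c => ?_⟩
  have : e.symm (c : M) = DirectSum.lof R κ (fun k => ↥(L k)) k c :=
    (LinearEquiv.symm_apply_eq _).2 (DirectSum.coeLinearMap_of L k c).symm
  simp [this]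

/-- A flat Mittag-Leffler module which is a sum of countably generated submodules is projective. -/
theorem projective_of_flat_mittagLeffler {κ : Type u} (L : κ → Submodule R M) [DecidableEq κ]
    (hI : DirectSum.IsInternal L) (hc : ∀ k, CAlg.IsCountablyGenerated R (L k)) [Module.Flat R M]
    (hM : CAlg.IsMittagLeffler R M) : Module.Projective R M := by
  refine projective_of_isInternal L hI fun k => ?_
  obtain ⟨p, hp⟩ := exists_retraction_of_isInternal L hI k
  have hui := ui_of_leftInverse (f := (L k).subtype) (g := p) hp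
  haveI : Module.Flat R (L k) := flat_left_of_ui hui
  exact projective_of_flat_mittagLeffler_countablyGenerated (isMittagLeffler_of_ui hui hM) (hc k)

/-- Adding a complement to an independent family. -/
theorem sSupIndep_insert' {𝓛 : Set (Submodule R M)} (h : sSupIndep 𝓛) {L : Submodule R M}
    (hd : Disjoint (sSup 𝓛) L) : sSupIndep (insert L 𝓛) := by
  intro x hx
  rcases eq_or_ne x L with rfl | hne
  · refine hd.symm.mono_right (sSup_le_sSup fun y hy => ?_)
    exact hy.1.resolve_left hy.2
  have hx' : x ∈ 𝓛 := hx.resolve_left hne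
  refine Submodule.disjoint_def.2 fun y hy hy' => ?_
  have hle : sSup (insert L 𝓛 \ {x}) ≤ sSup (𝓛 \ {x}) ⊔ L := sSup_le fun z hz => by
    rcases hz.1 with rfl | hz'
    · exact le_sup_right
    · exact le_sup_of_le_left (le_sSup ⟨hz', hz.2⟩)
  obtain ⟨a, ha, b, hb, rfl⟩ := Submodule.mem_sup.1 (hle hy')
  have hb0 : b = 0 := Submodule.disjoint_def.1 hd b (by
    rw [show b = (a + b) - a by abel]
    exact sub_mem (le_sSup hx' hy) ((sSup_le_sSup (Set.diff_subset : 𝓛 \ {x} ⊆ 𝓛) : sSup (𝓛 \ {x}) ≤ sSup 𝓛) ha)) hb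
  rw [hb0, add_zero] at hy ⊢
  exact Submodule.disjoint_def.1 (h hx') a hy ha

theorem projective_of_ker_eq {A X Y Z : Type u} [CommRing A] [AddCommGroup X] [Module A X] [AddCommGroup Y]
    [Module A Y] [AddCommGroup Z] [Module A Z] (φ : X →ₗ[A] Y) (q : X →ₗ[A] Z) (hφ : Function.Surjective φ)
    (hq : Function.Surjective q) (hker : LinearMap.ker φ = LinearMap.ker q) [Module.Projective A Y] :
    Module.Projective A Z := by
  let e : Y ≃ₗ[A] Z := ((φ.quotKerEquivOfSurjective hφ).symm.trans (Submodule.quotEquivOfEq _ _ hker)).trans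
    (q.quotKerEquivOfSurjective hq)
  exact Module.Projective.of_split e.symm.toLinearMap e.toLinearMap (LinearMap.ext e.apply_symm_apply)

section descent

variable {S : Type u} [CommRing S] [Algebra R S]

/-- The image of `S ⊗ N` in `S ⊗ M`. -/
noncomputable def img (S : Type u) [CommRing S] [Algebra R S] (N : Submodule R M) : Submodule S (S ⊗[R] M) :=
  Submodule.span S ((TensorProduct.mk R S M 1) '' N)

theorem img_span (E : Set M) : img S (Submodule.span R E) = Submodule.span S ((TensorProduct.mk R S M 1) '' E) := by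
  refine le_antisymm (Submodule.span_le.2 ?_) (Submodule.span_mono (Set.image_mono Submodule.subset_span))
  rintro _ ⟨x, hx, rfl⟩
  induction hx using Submodule.span_induction with
  | mem x hx => exact Submodule.subset_span ⟨x, hx, rfl⟩
  | zero => rw [map_zero]; exact zero_mem _
  | add x y _ _ hx hy => rw [map_add]; exact add_mem hx hy
  | smul r x _ hx => rw [map_smul]; exact Submodule.smul_of_tower_mem _ r hx

theorem img_sup (A B : Submodule R M) : img S (A ⊔ B) = img S A ⊔ img S B := by
  conv_lhs => rw [← Submodule.span_eq A, ← Submodule.span_eq B, ← Submodule.span_union, img_span,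
    Set.image_union, Submodule.span_union]
  rfl

theorem range_baseChange_subtype (N : Submodule R M) : LinearMap.range (N.subtype.baseChange S) = img S N := by
  refine le_antisymm ?_ (Submodule.span_le.2 ?_)
  · rintro _ ⟨z, rfl⟩
    induction z with
    | zero => rw [map_zero]; exact zero_mem _
    | add a b ha hb => rw [map_add]; exact add_mem ha hb
    | tmul s n =>
      rw [LinearMap.baseChange_tmul, show s ⊗ₜ[R] N.subtype n = s • ((1 : S) ⊗ₜ[R] (n : M)) by
        rw [TensorProduct.smul_tmul', smul_eq_mul, mul_one]; rfl]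
      exact Submodule.smul_mem _ _ (Submodule.subset_span ⟨n, n.2, rfl⟩)
  · rintro _ ⟨n, hn, rfl⟩
    exact ⟨1 ⊗ₜ ⟨n, hn⟩, rfl⟩

variable {ι : Type u} (Q : ι → Submodule S (S ⊗[R] M))

theorem exists_countable_closure (htop : ⨆ i, Q i = ⊤) (hc : ∀ i, CAlg.IsCountablyGenerated S (Q i))
    (J : Set ι) (m : M) :
    ∃ (E : Set M) (K : Set ι), E.Countable ∧ K.Countable ∧ m ∈ E ∧ Disjoint J K ∧
      img S (Submodule.span R E) ≤ (⨆ i ∈ J, Q i) ⊔ ⨆ i ∈ K, Q i ∧ (⨆ i ∈ K, Q i) ≤ img S (Submodule.span R E) := by
  classical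
  choose t ht hspan using fun i => (Groth.Agent.Kap.cg_iff_exists (Q i)).1 (hc i)
  have h1 : ∀ x : S ⊗[R] M, ∃ s : Finset ι, x ∈ ⨆ i ∈ s, Q i := fun x =>
    Submodule.mem_iSup_iff_exists_finset.1 (htop ▸ Submodule.mem_top)
  choose sK hsK using h1
  choose sE hsE using fun x : S ⊗[R] M => TensorProduct.exists_finset x
  let stepK : Set M → Set ι := fun E => ⋃ e ∈ E, ↑(sK (1 ⊗ₜ e))
  let stepE : Set ι → Set M := fun K => ⋃ i ∈ K \ J, ⋃ x ∈ t i, ↑((sE x).image Prod.snd)
  let F : ℕ → Set M := fun n => Nat.rec {m} (fun _ E => E ∪ stepE (stepK E)) n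
  have hFc : ∀ n, (F n).Countable := by
    intro n
    induction n with
    | zero => exact Set.countable_singleton m
    | succ n ih =>
      refine ih.union (Set.Countable.biUnion ?_ fun i _ => (ht i).biUnion fun x _ => Finset.countable_toSet _)
      exact (ih.biUnion fun e _ => Finset.countable_toSet _).mono Set.diff_subset
  let E := ⋃ n, F n
  let K := stepK E \ J
  have hEc : E.Countable := Set.countable_iUnion hFc
  refine ⟨E, K, hEc, (hEc.biUnion fun e _ => Finset.countable_toSet _).mono Set.diff_subset,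
    Set.mem_iUnion.2 ⟨0, rfl⟩, Set.disjoint_sdiff_right, ?_, ?_⟩
  · rw [img_span, Submodule.span_le]
    rintro _ ⟨e, he, rfl⟩
    refine (iSup₂_le fun i hi => ?_ : (⨆ i ∈ sK (1 ⊗ₜ e), Q i) ≤ _) (hsK _)
    by_cases hiJ : i ∈ J
    · exact le_sup_of_le_left (le_biSup Q hiJ)
    · exact le_sup_of_le_right (le_biSup Q (show i ∈ K from ⟨Set.mem_biUnion he hi, hiJ⟩))
  · refine iSup₂_le fun i hi => ?_
    rw [← hspan i, Submodule.span_le]
    intro x hx
    rw [SetLike.mem_coe, img_span, hsE x]
    refine sum_mem fun p hp => ?_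
    rw [show p.1 ⊗ₜ[R] p.2 = p.1 • ((1 : S) ⊗ₜ[R] p.2) by rw [TensorProduct.smul_tmul', smul_eq_mul, mul_one]]
    refine Submodule.smul_mem _ _ (Submodule.subset_span ⟨p.2, ?_, rfl⟩)
    obtain ⟨e, he, hie⟩ := Set.mem_iUnion₂.1 hi.1
    obtain ⟨n, hn⟩ := Set.mem_iUnion.1 he
    refine Set.mem_iUnion.2 ⟨n + 1, Or.inr ?_⟩
    exact Set.mem_biUnion (show i ∈ stepK (F n) \ J from ⟨Set.mem_biUnion hn hie, hi.2⟩)
      (Set.mem_biUnion hx (Finset.mem_image_of_mem _ hp))

/-- Projectivity descends along faithfully flat ring maps. -/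
theorem projective_of_faithfullyFlat [Module.FaithfullyFlat R S] [Module.Projective S (S ⊗[R] M)] :
    Module.Projective R M := by
  classical
  obtain ⟨ι, Q, hind, htop, hc⟩ := exists_cg_decomposition (R := S) (M := S ⊗[R] M)
  let good : Set (Submodule R M) × Set ι → Prop := fun a =>
    sSupIndep a.1 ∧ (∀ L ∈ a.1, Module.Projective R L) ∧ img S (sSup a.1) = ⨆ i ∈ a.2, Q i
  have h0 : good (∅, ∅) := ⟨sSupIndep_empty, fun L hL => hL.elim, by
    simp only [sSup_empty, img, Set.mem_empty_iff_false, iSup_false, iSup_bot]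
    rw [Submodule.span_eq_bot]
    rintro _ ⟨x, hx, rfl⟩
    rw [(Submodule.mem_bot R).1 hx, map_zero]⟩
  obtain ⟨⟨𝓛, J⟩, -, ⟨hgood, hmax⟩⟩ := zorn_le_nonempty₀ {a | good a} (fun C hC hchain a ha => by
    refine ⟨(⋃ b ∈ C, b.1, ⋃ b ∈ C, b.2), ⟨?_, ?_, ?_⟩, fun b hb => ?_⟩
    · rw [← Set.sUnion_image]
      refine iSupIndep_sUnion_of_directed (directedOn_image.2 ?_) ?_
      · intro x hx y hy
        rcases hchain.total hx hy with h | h
        · exact ⟨y, hy, h.1, subset_rfl⟩
        · exact ⟨x, hx, subset_rfl, h.1⟩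
      · rintro _ ⟨b, hb, rfl⟩
        exact (hC hb).1
    · intro L hL
      obtain ⟨b, hb, hLb⟩ := Set.mem_iUnion₂.1 hL
      exact (hC hb).2.1 L hLb
    · simp only [sSup_iUnion, iSup_iUnion]
      refine le_antisymm (Submodule.span_le.2 ?_) (iSup₂_le fun b hb => ?_)
      · rintro _ ⟨x, hx, rfl⟩
        rw [SetLike.mem_coe, iSup_subtype'] at hx
        haveI : Nonempty C := ⟨⟨a, ha⟩⟩
        have hdir : Directed (· ≤ ·) fun b : C => sSup b.1.1 := by
          intro x y
          rcases hchain.total x.2 y.2 with h | h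
          · exact ⟨y, sSup_le_sSup h.1, le_rfl⟩
          · exact ⟨x, le_rfl, sSup_le_sSup h.1⟩
        obtain ⟨⟨b, hb⟩, hxb⟩ := (Submodule.mem_iSup_of_directed _ hdir).1 hx
        have : TensorProduct.mk R S M 1 x ∈ img S (sSup b.1) := Submodule.subset_span ⟨x, hxb, rfl⟩
        rw [(hC hb).2.2] at this
        exact le_iSup₂ (f := fun b _ => ⨆ i ∈ b.2, Q i) b hb this
      · rw [← (hC hb).2.2]
        exact Submodule.span_mono (Set.image_mono (SetLike.coe_subset_coe.2
          (le_iSup₂ (f := fun b _ => sSup b.1) b hb)))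
    · exact ⟨Set.subset_biUnion_of_mem (u := Prod.fst) hb, Set.subset_biUnion_of_mem (u := Prod.snd) hb⟩) (∅, ∅) h0
  obtain ⟨hindL, hprojL, himg⟩ := hgood
  by_cases hN : sSup 𝓛 = ⊤
  · have hI : DirectSum.IsInternal fun L : 𝓛 => L.1 :=
      DirectSum.isInternal_submodule_of_iSupIndep_of_iSup_eq_top ((sSupIndep_iff 𝓛).1 hindL)
        (by rw [← sSup_eq_iSup']; exact hN)
    exact projective_of_isInternal _ hI fun L => hprojL L.1 L.2
  · exfalso
    obtain ⟨m, -, hm⟩ := SetLike.exists_of_lt (lt_top_iff_ne_top.2 hN)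
    obtain ⟨E, K, hEc, hKc, hmE, hJK, hle, hge⟩ := exists_countable_closure Q htop hc J m
    set N := sSup 𝓛
    let N' := N ⊔ Submodule.span R E
    have himg' : img S N' = (⨆ i ∈ J, Q i) ⊔ ⨆ i ∈ K, Q i := by
      rw [img_sup, himg]
      exact le_antisymm (sup_le le_sup_left hle) (sup_le le_sup_left (le_sup_of_le_right hge))
    -- the quotient is projective
    let A := N.comap N'.subtype
    let W₁ := ⨆ i ∈ J, Q i
    let V := ⨆ i ∈ K, Q i
    let rest := ⨆ i ∈ Kᶜ, Q i
    have hcompl : IsCompl V rest := by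
      refine ⟨hind.disjoint_biSup_biSup disjoint_compl_right, codisjoint_iff.2 ?_⟩
      rw [← iSup_union, Set.union_compl_self, eq_top_iff, ← htop]
      exact iSup_le fun i => le_biSup Q (Set.mem_univ i)
    let pr := V.projectionOnto rest hcompl
    haveI : Module.Projective S V := Module.Projective.of_split V.subtype pr
      (LinearMap.ext fun x => Submodule.projectionOnto_apply_left hcompl x)
    have hW₁ : W₁ ≤ rest := iSup₂_le fun i hi => le_biSup Q (fun hiK => Set.disjoint_left.1 hJK hi hiK)
    let φ : S ⊗[R] N' →ₗ[S] V := pr ∘ₗ N'.subtype.baseChange S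
    have hφ : Function.Surjective φ := by
      intro v
      have : (v : S ⊗[R] M) ∈ LinearMap.range (N'.subtype.baseChange S) := by
        rw [range_baseChange_subtype, himg']
        exact Submodule.mem_sup_right v.2
      obtain ⟨z, hz⟩ := this
      exact ⟨z, by simp only [φ, LinearMap.comp_apply, hz]; exact Submodule.projectionOnto_apply_left hcompl v⟩
    let q := A.mkQ.baseChange S
    have hqs : Function.Surjective q := LinearMap.lTensor_surjective S A.mkQ_surjective
    have hker : LinearMap.ker φ = LinearMap.ker q := by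
      have hinj : Function.Injective (N'.subtype.baseChange S) :=
        Module.Flat.lTensor_preserves_injective_linearMap (M := S) N'.subtype N'.injective_subtype
      refine le_antisymm (fun z hz => ?_) (fun z hz => ?_)
      · rw [LinearMap.mem_ker] at hz ⊢
        have h1 : N'.subtype.baseChange S z ∈ rest :=
          (Submodule.projectionOnto_apply_eq_zero_iff hcompl).1 hz
        have h2 : N'.subtype.baseChange S z ∈ W₁ ⊔ V := himg' ▸ range_baseChange_subtype (S := S) N' ▸ ⟨z, rfl⟩
        obtain ⟨a, ha, b, hb, hab⟩ := Submodule.mem_sup.1 h2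
        have hb0 : b = 0 := Submodule.disjoint_def.1 hcompl.1 b hb (by
          rw [show b = N'.subtype.baseChange S z - a by rw [← hab]; abel]
          exact sub_mem h1 (hW₁ ha))
        rw [hb0, add_zero] at hab
        have h3 : a ∈ LinearMap.range (N.subtype.baseChange S) := by
          rw [range_baseChange_subtype, himg]; exact ha
        obtain ⟨w, hw⟩ := h3
        have h4 : z = (Submodule.inclusion (le_sup_left : N ≤ N')).baseChange S w := by
          apply hinj
          rw [← hab, ← hw, ← LinearMap.comp_apply, ← LinearMap.baseChange_comp]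
          rfl
        rw [h4, ← LinearMap.comp_apply, ← LinearMap.baseChange_comp,
          show A.mkQ ∘ₗ Submodule.inclusion le_sup_left = 0 from
            LinearMap.ext fun x => (Submodule.Quotient.mk_eq_zero A).2 x.2, LinearMap.baseChange_zero,
          LinearMap.zero_apply]
      · have hex : Function.Exact (A.subtype.baseChange S) q :=
          lTensor_exact S (LinearMap.exact_subtype_mkQ A) A.mkQ_surjective
        obtain ⟨w, rfl⟩ := (hex z).1 hz
        rw [LinearMap.mem_ker, LinearMap.comp_apply]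
        refine (Submodule.projectionOnto_apply_eq_zero_iff hcompl).2 (hW₁ ?_)
        show _ ∈ ⨆ i ∈ J, Q i
        rw [← himg, ← range_baseChange_subtype]
        refine ⟨(LinearMap.codRestrict N (N'.subtype ∘ₗ A.subtype) fun x => x.2).baseChange S w, ?_⟩
        rw [← LinearMap.comp_apply, ← LinearMap.baseChange_comp, ← LinearMap.comp_apply, ← LinearMap.baseChange_comp]
        rfl
    haveI : Module.Projective S (S ⊗[R] (N' ⧸ A)) := by
      exact projective_of_ker_eq (X := S ⊗[R] N') (Y := V) (Z := S ⊗[R] (N' ⧸ A)) φ q hφ hqs hker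
    haveI : Module.Flat R (N' ⧸ A) := Module.Flat.of_flat_tensorProduct R (N' ⧸ A) S
    have hcg : CAlg.IsCountablyGenerated R (N' ⧸ A) :=
      Groth.Agent.Kap.cg_of_surjective
        (M := ↥(Submodule.span R E)) ((Groth.Agent.Kap.cg_iff_exists _).2 ⟨E, hEc, rfl⟩)
        (A.mkQ ∘ₗ Submodule.inclusion le_sup_right) (fun x => by
          obtain ⟨⟨x, hx⟩, rfl⟩ := A.mkQ_surjective x
          obtain ⟨a, ha, b, hb, rfl⟩ := Submodule.mem_sup.1 hx
          refine ⟨⟨b, hb⟩, (Submodule.Quotient.eq A).2 ?_⟩
          show b - (a + b) ∈ N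
          rw [sub_add_cancel_right]
          exact neg_mem ha)
    haveI : Module.Projective R (N' ⧸ A) := projective_of_flat_mittagLeffler_countablyGenerated
      (isMittagLeffler_of_faithfullyFlat (S := S) isMittagLeffler_of_projective) hcg
    obtain ⟨σ, hσ⟩ := Module.projective_lifting_property A.mkQ LinearMap.id A.mkQ_surjective
    let σ' : (N' ⧸ A) →ₗ[R] M := N'.subtype ∘ₗ σ
    let L := LinearMap.range σ'
    have hσA : ∀ x, A.mkQ (σ x) = x := DFunLike.congr_fun hσ
    have hσ'inj : Function.Injective σ' := fun x y h => by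
      rw [← hσA x, ← hσA y, Subtype.ext h]
    have hdisj : Disjoint N L := Submodule.disjoint_def.2 fun x hxN hxL => by
      obtain ⟨y, rfl⟩ := hxL
      have : A.mkQ (σ y) = 0 := (Submodule.Quotient.mk_eq_zero A).2 hxN
      rw [← hσA y, this, map_zero]
    have hsup : N ⊔ L = N' := by
      refine le_antisymm (sup_le le_sup_left ?_) fun x hx => ?_
      · rintro _ ⟨y, rfl⟩; exact (σ y).2
      · refine Submodule.mem_sup.2 ⟨x - σ' (A.mkQ ⟨x, hx⟩), ?_, _, ⟨_, rfl⟩, sub_add_cancel _ _⟩
        exact (Submodule.Quotient.eq A).1 (hσA (A.mkQ ⟨x, hx⟩)).symm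
    have hLne : L ∉ 𝓛 := fun hL => by
      have : L ≤ N := le_sSup hL
      refine hm ?_
      rw [← sup_eq_left.2 this, hsup]
      exact Submodule.mem_sup_right (Submodule.subset_span hmE)
    have hgood' : good (insert L 𝓛, J ∪ K) := by
      refine ⟨?_, ?_, ?_⟩
      · exact sSupIndep_insert' hindL hdisj
      · rintro L' (rfl | hL')
        · exact Module.Projective.of_equiv (LinearEquiv.ofInjective σ' hσ'inj)
        · exact hprojL L' hL'
      · rw [sSup_insert, sup_comm, hsup, himg', iSup_union]
    exact hLne ((hmax hgood' ⟨Set.subset_insert _ _, Set.subset_union_left⟩).1 (Set.mem_insert _ _))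

end descent

end Groth.Agent.CAlgLow
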