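import Groth.Agent.Lib.CAlgLow.NilLift
import Mathlib.Algebra.Module.Torsion.Basic

/-!
# Projectivity from projectivity modulo two ideals with trivial intersection
-/

set_option autoImplicit false

universe u

open TensorProduct

namespace Groth.Agent.CAlgLow

variable {R : Type u} [CommRing R]

theorem exists_lift_killed {I : Ideal R} {P : Type u} [AddCommGroup P] [Module R P]
    (hP : Module.Projective (R ⧸ I) ((R ⧸ I) ⊗[R] P)) {X L : Type u} [AddCommGroup X] [Module R X]
    [AddCommGroup L] [Module R L] (hX : Module.IsTorsionBySet R X I) (hL : Module.IsTorsionBySet R L I)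
    (p : X →ₗ[R] L) (hp : Function.Surjective p) (g : P →ₗ[R] L) : ∃ h : P →ₗ[R] X, p ∘ₗ h = g := by
  let _ := hX.module
  let _ := hL.module
  have hs : Function.Surjective (algebraMap R (R ⧸ I)) := Ideal.Quotient.mk_surjective
  have : IsScalarTower R (R ⧸ I) X := IsScalarTower.of_algebraMap_smul fun _ _ => rfl
  have : IsScalarTower R (R ⧸ I) L := IsScalarTower.of_algebraMap_smul fun _ _ => rfl
  obtain ⟨h, hh⟩ := Module.projective_lifting_property (p.extendScalarsOfSurjective hs) (g.liftBaseChange (R ⧸ I)) hp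
  refine ⟨h.restrictScalars R ∘ₗ TensorProduct.mk R (R ⧸ I) P 1, LinearMap.ext fun x => ?_⟩
  have := DFunLike.congr_fun hh (1 ⊗ₜ x)
  simpa using this

theorem isTorsionBySet_quotient (I : Ideal R) {F : Type u} [AddCommGroup F] [Module R F] (K : Submodule R F)
    (hK : I • (⊤ : Submodule R F) ≤ K) : Module.IsTorsionBySet R (F ⧸ K) I := fun z r => by
  obtain ⟨y, rfl⟩ := K.mkQ_surjective z
  rw [← map_smul]
  exact (Submodule.Quotient.mk_eq_zero K).2 (hK (Submodule.smul_mem_smul r.2 Submodule.mem_top))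

theorem projective_of_two_ideals (I J : Ideal R) (hIJ : I ⊓ J = ⊥) (P : Type u) [AddCommGroup P] [Module R P]
    (hI : Module.Projective (R ⧸ I) ((R ⧸ I) ⊗[R] P)) (hJ : Module.Projective (R ⧸ J) ((R ⧸ J) ⊗[R] P)) :
    Module.Projective R P := by
  classical
  let F := P →₀ R
  let π : F →ₗ[R] P := Finsupp.linearCombination R id
  have hπ : Function.Surjective π := Finsupp.linearCombination_id_surjective R P
  let KI : Submodule R F := I • ⊤
  let KJ : Submodule R F := J • ⊤
  let K : Submodule R F := (I ⊔ J) • ⊤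
  have hmap : ∀ A : Ideal R, (A • (⊤ : Submodule R F)).map π = A • (⊤ : Submodule R P) := fun A => by
    rw [Submodule.map_smul'', Submodule.map_top, LinearMap.range_eq_top.2 hπ]
  let πI := Submodule.mapQ KI (I • ⊤) π (Submodule.map_le_iff_le_comap.1 (hmap I).le)
  let πJ := Submodule.mapQ KJ (J • ⊤) π (Submodule.map_le_iff_le_comap.1 (hmap J).le)
  obtain ⟨s₁, hs₁⟩ := exists_lift_killed hI (isTorsionBySet_quotient I KI le_rfl)
    (isTorsionBySet_quotient I (I • (⊤ : Submodule R P)) le_rfl) πI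
    (fun z => by obtain ⟨y, rfl⟩ := Submodule.mkQ_surjective _ z; obtain ⟨v, rfl⟩ := hπ y; exact ⟨KI.mkQ v, rfl⟩)
    (Submodule.mkQ _)
  obtain ⟨s₂, hs₂⟩ := exists_lift_killed hJ (isTorsionBySet_quotient J KJ le_rfl)
    (isTorsionBySet_quotient J (J • (⊤ : Submodule R P)) le_rfl) πJ
    (fun z => by obtain ⟨y, rfl⟩ := Submodule.mkQ_surjective _ z; obtain ⟨v, rfl⟩ := hπ y; exact ⟨KJ.mkQ v, rfl⟩)
    (Submodule.mkQ _)
  have hIK : KI ≤ K := Submodule.smul_mono le_sup_left le_rfl
  have hJK : KJ ≤ K := Submodule.smul_mono le_sup_right le_rfl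
  let D : P →ₗ[R] F ⧸ K := Submodule.factor hIK ∘ₗ s₁ - Submodule.factor hJK ∘ₗ s₂
  let N := LinearMap.ker π
  have hD : ∀ x, D x ∈ N.map K.mkQ := by
    intro x
    obtain ⟨a, ha⟩ := KI.mkQ_surjective (s₁ x)
    obtain ⟨b, hb⟩ := KJ.mkQ_surjective (s₂ x)
    have e1 := DFunLike.congr_fun hs₁ x
    have e2 := DFunLike.congr_fun hs₂ x
    rw [LinearMap.comp_apply, ← ha] at e1
    rw [LinearMap.comp_apply, ← hb] at e2
    have e1' : π a - x ∈ I • (⊤ : Submodule R P) := (Submodule.Quotient.eq _).1 e1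
    have e2' : π b - x ∈ J • (⊤ : Submodule R P) := (Submodule.Quotient.eq _).1 e2
    have h3 : π (a - b) ∈ (K : Submodule R F).map π := by
      rw [hmap, map_sub, show π a - π b = (π a - x) - (π b - x) by abel]
      exact sub_mem (Submodule.smul_mono le_sup_left le_rfl e1') (Submodule.smul_mono le_sup_right le_rfl e2')
    obtain ⟨c, hc, hπc⟩ := h3
    refine ⟨a - b - c, by rw [SetLike.mem_coe, LinearMap.mem_ker, map_sub, hπc, sub_self], ?_⟩
    rw [map_sub, map_sub, Submodule.mkQ_apply _ c, (Submodule.Quotient.mk_eq_zero K).2 hc, sub_zero]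
    simp only [D, LinearMap.sub_apply, LinearMap.comp_apply, ← ha, ← hb]
    rfl
  let p : N.map KJ.mkQ →ₗ[R] N.map K.mkQ := (Submodule.factor hJK).restrict (by
    rintro _ ⟨y, hy, rfl⟩; exact ⟨y, hy, rfl⟩)
  obtain ⟨d, hd⟩ := exists_lift_killed hJ (X := N.map KJ.mkQ) (L := N.map K.mkQ)
    (fun z r => by apply Subtype.ext; exact @isTorsionBySet_quotient R _ J F _ _ KJ le_rfl (z : F ⧸ KJ) r)
    (fun z r => by apply Subtype.ext; exact @isTorsionBySet_quotient R _ J F _ _ K hJK (z : F ⧸ K) r)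
    p (by rintro ⟨_, y, hy, rfl⟩; exact ⟨⟨_, y, hy, rfl⟩, rfl⟩) (D.codRestrict _ hD)
  let s₂' : P →ₗ[R] F ⧸ KJ := s₂ + (N.map KJ.mkQ).subtype ∘ₗ d
  let Δ : F →ₗ[R] (F ⧸ KI) × (F ⧸ KJ) := KI.mkQ.prod KJ.mkQ
  have hcoord : ∀ (A : Ideal R), ∀ v ∈ A • (⊤ : Submodule R F), ∀ a, v a ∈ A := fun A v hv a => by
    have := Submodule.mem_map_of_mem (f := Finsupp.lapply (R := R) a) hv
    rw [Submodule.map_smul''] at this
    exact (Submodule.smul_mono le_rfl le_top).trans (le_of_eq (by simp)) this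
  have hΔ : Function.Injective Δ := by
    rw [injective_iff_map_eq_zero]
    intro v hv
    ext a
    have h1 := hcoord I v ((Submodule.Quotient.mk_eq_zero KI).1 (congrArg Prod.fst hv)) a
    have h2 := hcoord J v ((Submodule.Quotient.mk_eq_zero KJ).1 (congrArg Prod.snd hv)) a
    exact (Submodule.mem_bot R).1 (hIJ ▸ (⟨h1, h2⟩ : v a ∈ I ⊓ J))
  have hrange : ∀ x, (s₁.prod s₂') x ∈ LinearMap.range Δ := by
    intro x
    obtain ⟨a, ha⟩ := KI.mkQ_surjective (s₁ x)
    obtain ⟨b, hb⟩ := KJ.mkQ_surjective (s₂' x)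
    have e : Submodule.factor hJK ((d x : F ⧸ KJ)) = D x :=
      congrArg Subtype.val (DFunLike.congr_fun hd x)
    have : K.mkQ a = K.mkQ b := by
      change Submodule.factor hIK (KI.mkQ a) = Submodule.factor hJK (KJ.mkQ b)
      rw [ha, hb]
      change _ = Submodule.factor hJK (s₂ x + (d x : F ⧸ KJ))
      rw [map_add, e]
      simp [D]
    have h4 : a - b ∈ KI ⊔ KJ := by
      rw [← Submodule.sup_smul]
      exact (Submodule.Quotient.eq K).1 this
    obtain ⟨i, hi, j, hj, hij⟩ := Submodule.mem_sup.1 h4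
    refine ⟨a - i, Prod.ext ?_ ?_⟩
    · change KI.mkQ (a - i) = s₁ x
      rw [← ha]; exact (Submodule.Quotient.eq KI).2 (by simpa using neg_mem hi)
    · change KJ.mkQ (a - i) = s₂' x
      rw [← hb]
      refine (Submodule.Quotient.eq KJ).2 ?_
      rw [show a - i - b = j by rw [sub_right_comm, ← hij, add_sub_cancel_left]]
      exact hj
  obtain ⟨σ, hσ⟩ : ∃ σ : P →ₗ[R] F, Δ ∘ₗ σ = s₁.prod s₂' :=
    ⟨(LinearEquiv.ofInjective Δ hΔ).symm.toLinearMap ∘ₗ (s₁.prod s₂').codRestrict _ hrange,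
      LinearMap.ext fun x => by
        simp only [LinearMap.comp_apply, LinearEquiv.coe_coe]
        exact congrArg Subtype.val ((LinearEquiv.ofInjective Δ hΔ).apply_symm_apply ⟨_, hrange x⟩)⟩
  let u : Module.End R P := π ∘ₗ σ - 1
  have hu : ∀ x, u x ∈ I • (⊤ : Submodule R P) ∧ u x ∈ J • (⊤ : Submodule R P) := by
    intro x
    have h1 := congrArg Prod.fst (DFunLike.congr_fun hσ x)
    have h2 := congrArg Prod.snd (DFunLike.congr_fun hσ x)
    constructor
    · refine (Submodule.Quotient.eq _).1 ?_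
      change πI (KI.mkQ (σ x)) = Submodule.mkQ _ x
      rw [show KI.mkQ (σ x) = s₁ x from h1, ← LinearMap.comp_apply, hs₁]
    · refine (Submodule.Quotient.eq _).1 ?_
      change πJ (KJ.mkQ (σ x)) = Submodule.mkQ _ x
      rw [show KJ.mkQ (σ x) = s₂ x + (d x : F ⧸ KJ) from h2, map_add, ← LinearMap.comp_apply, hs₂]
      obtain ⟨v, hv, hv'⟩ := (d x).2
      rw [← hv', show πJ (KJ.mkQ v) = Submodule.mkQ _ (π v) from rfl, LinearMap.mem_ker.1 hv, map_zero, add_zero]
  have hu2 : u * u = 0 := by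
    refine LinearMap.ext fun x => ?_
    have h5 := Submodule.mem_map_of_mem (f := u) (hu x).1
    rw [Submodule.map_smul''] at h5
    have h6 : u (u x) ∈ I • J • (⊤ : Submodule R P) :=
      Submodule.smul_mono le_rfl (by rintro _ ⟨y, -, rfl⟩; exact (hu y).2) h5
    rw [← Submodule.mul_smul, show I * J = ⊥ from le_bot_iff.1 (hIJ ▸ Ideal.mul_le_inf), Submodule.bot_smul] at h6
    exact (Submodule.mem_bot R).1 h6
  have hnil : IsNilpotent u := ⟨2, by rw [pow_two, hu2]⟩
  obtain ⟨w, hw⟩ := hnil.isUnit_add_one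
  refine Module.Projective.of_split (σ ∘ₗ (↑w⁻¹ : Module.End R P)) π ?_
  refine LinearMap.ext fun x => ?_
  have : π ∘ₗ σ = (w : Module.End R P) := by rw [hw]; simp [u]
  rw [← LinearMap.comp_assoc, this, LinearMap.comp_apply, ← Module.End.mul_apply, Units.mul_inv]
  rfl

/-- Finite projective modules lift along locally nilpotent ideals. -/
theorem exists_projective_lift (I : Ideal R) (hI : ∀ x ∈ I, IsNilpotent x) (Pb : Type u) [AddCommGroup Pb]
    [Module (R ⧸ I) Pb] [Module.Projective (R ⧸ I) Pb] [Module.Finite (R ⧸ I) Pb] :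
    ∃ (P : Type u) (_ : AddCommGroup P) (_ : Module R P), Module.Projective R P ∧ Module.Finite R P ∧
      Nonempty (((R ⧸ I) ⊗[R] P) ≃ₗ[R ⧸ I] Pb) := by
  classical
  obtain ⟨n, π, hπ⟩ := Module.Finite.exists_fin' (R ⧸ I) Pb
  obtain ⟨σ, hσ⟩ := Module.projective_lifting_property π LinearMap.id hπ
  let ρ := TensorProduct.piScalarRight R (R ⧸ I) (R ⧸ I) (Fin n)
  let ebar : Module.End (R ⧸ I) ((R ⧸ I) ⊗[R] (Fin n → R)) :=
    ρ.symm.toLinearMap ∘ₗ (σ ∘ₗ π) ∘ₗ ρ.toLinearMap
  have hid : IsIdempotentElem ebar := by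
    refine LinearMap.ext fun z => ?_
    have := DFunLike.congr_fun hσ (π (ρ z))
    simp only [LinearMap.comp_apply, LinearMap.id_apply] at this
    simp [ebar, this]
  have hker : ∀ h : Module.End R (Fin n → R), h.baseChange (R ⧸ I) = 0 → IsNilpotent h := by
    intro h hh
    let J : Ideal R := Ideal.span (Set.range fun ij : Fin n × Fin n => h (Pi.single ij.1 1) ij.2)
    have hJI : J ≤ I := by
      rw [Ideal.span_le]
      rintro _ ⟨⟨i, j⟩, rfl⟩
      have h1 : h (Pi.single i 1) ∈ I • (⊤ : Submodule R (Fin n → R)) := by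
        rw [← one_tmul_eq_zero_iff]
        exact DFunLike.congr_fun hh ((1 : R ⧸ I) ⊗ₜ[R] Pi.single i 1)
      have h2 := Submodule.mem_map_of_mem (f := LinearMap.proj (R := R) j) h1
      rw [Submodule.map_smul''] at h2
      exact ((Submodule.smul_mono le_rfl le_top).trans (le_of_eq (by simp))) h2
    obtain ⟨m, hm⟩ : IsNilpotent J := (Ideal.FG.isNilpotent_iff_le_nilradical
      ⟨Finset.univ.image fun ij : Fin n × Fin n => h (Pi.single ij.1 1) ij.2, by simp [J]⟩).2
        fun x hx => mem_nilradical.2 (hI x (hJI hx))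
    refine isNilpotent_of_baseChange_eq_zero ⟨m, hm⟩ _ h ?_
    refine TensorProduct.AlgebraTensorModule.ext fun c v => ?_
    rw [LinearMap.baseChange_tmul, LinearMap.zero_apply,
      show c ⊗ₜ[R] h v = c • ((1 : R ⧸ J) ⊗ₜ[R] h v) by rw [smul_tmul', smul_eq_mul, mul_one]]
    suffices h v ∈ J • (⊤ : Submodule R (Fin n → R)) by
      rw [(one_tmul_eq_zero_iff J _).2 this, smul_zero]
    rw [← (Pi.basisFun R (Fin n)).sum_repr v, map_sum]
    refine sum_mem fun i _ => ?_
    rw [map_smul]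
    refine Submodule.smul_mem _ _ ?_
    rw [← (Pi.basisFun R (Fin n)).sum_repr (h _)]
    refine sum_mem fun j _ => Submodule.smul_mem_smul (Ideal.subset_span ⟨(i, j), ?_⟩) Submodule.mem_top
    simp
  obtain ⟨e, he, he'⟩ := exists_isIdempotentElem_eq_of_ker_isNilpotent (R := Module.End R (Fin n → R))
    (S := Module.End (R ⧸ I) ((R ⧸ I) ⊗[R] (Fin n → R))) (Module.End.baseChangeHom R (R ⧸ I) (Fin n → R)).toRingHom
    (fun h hh => hker h (RingHom.mem_ker.1 hh)) ebar
    (RingHom.mem_range.2 (exists_baseChange_eq I _ ebar)) hid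
  let e₀ : (Fin n → R) →ₗ[R] (Fin n → R) := e
  let incl := (LinearMap.range e₀).subtype
  have hfix : e₀.rangeRestrict ∘ₗ incl = LinearMap.id := by
    refine LinearMap.ext fun x => Subtype.ext ?_
    obtain ⟨y, hy⟩ := x.2
    change e₀ x.1 = x.1
    rw [← hy]
    exact DFunLike.congr_fun he.eq y
  refine ⟨LinearMap.range e₀, inferInstance, inferInstance,
    Module.Projective.of_split incl e₀.rangeRestrict hfix,
    inferInstance, ⟨LinearEquiv.ofLinearMap (π ∘ₗ ρ.toLinearMap ∘ₗ incl.baseChange (R ⧸ I))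
      (e₀.rangeRestrict.baseChange (R ⧸ I) ∘ₗ ρ.symm.toLinearMap ∘ₗ σ) ?_ ?_⟩⟩
  · refine LinearMap.ext fun z => ?_
    simp only [LinearMap.comp_apply, LinearEquiv.coe_coe]
    rw [← LinearMap.comp_apply (incl.baseChange _), ← LinearMap.baseChange_comp,
      show incl ∘ₗ e₀.rangeRestrict = e₀ from rfl, show e₀.baseChange (R ⧸ I) = ebar from he']
    have := DFunLike.congr_fun hσ z
    simp only [LinearMap.comp_apply, LinearMap.id_apply] at this
    simp [ebar, this]
  · refine LinearMap.ext fun z => ?_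
    simp only [LinearMap.comp_apply, LinearEquiv.coe_coe, LinearMap.id_apply]
    have : ρ.symm (σ (π (ρ (incl.baseChange (R ⧸ I) z)))) = incl.baseChange (R ⧸ I) z := by
      change ebar _ = _
      rw [show ebar = e₀.baseChange (R ⧸ I) from he'.symm, ← LinearMap.comp_apply, ← LinearMap.baseChange_comp]
      congr 2
      exact LinearMap.ext fun x => congrArg Subtype.val (DFunLike.congr_fun hfix x)
    rw [this, ← LinearMap.comp_apply, ← LinearMap.baseChange_comp, hfix, LinearMap.baseChange_id, LinearMap.id_apply]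

end Groth.Agent.CAlgLow
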