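import Mathlib.RingTheory.ZariskisMainTheorem
import Mathlib.RingTheory.Ideal.MinimalPrime.Noetherian
import Mathlib.RingTheory.FiniteType

/-!
# Isolated points of fibres over a maximal ideal are quasi-finite
-/

set_option autoImplicit false

universe u

namespace Groth.Agent.CAlgLow

theorem quasiFiniteAt_of_isolated {A B : Type u} [CommRing A] [CommRing B] [Algebra A B] [Algebra.FiniteType A B]
    (m : Ideal A) [m.IsMaximal] (n : Ideal B) [n.IsMaximal] (hn : n.comap (algebraMap A B) = m)
    (hmin : ∀ q : Ideal B, q.IsPrime → q.comap (algebraMap A B) = m → q ≤ n → q = n) :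
    Algebra.QuasiFiniteAt A n := by
  classical
  let J := m.map (algebraMap A B)
  have hJfin : J.minimalPrimes.Finite := by
    let := Ideal.Quotient.field m
    have : Algebra.FiniteType (A ⧸ m) (B ⧸ J) := by
      have : Algebra.FiniteType A (B ⧸ J) := .of_surjective (Ideal.Quotient.mkₐ A J) Ideal.Quotient.mk_surjective
      exact .of_restrictScalars_finiteType A _ _
    have : IsNoetherianRing (B ⧸ J) := Algebra.FiniteType.isNoetherianRing (A ⧸ m) (B ⧸ J)
    rw [Ideal.minimalPrimes_eq_comap]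
    exact (minimalPrimes.finite_of_isNoetherianRing _).image _
  let P : PrimeSpectrum B := ⟨n, inferInstance⟩
  let U : Set (PrimeSpectrum B) := (⋃ Q ∈ J.minimalPrimes \ {n}, PrimeSpectrum.zeroLocus (Q : Set B))ᶜ
  have hU : IsOpen U := ((hJfin.sdiff).isClosed_biUnion fun Q _ => PrimeSpectrum.isClosed_zeroLocus _).isOpen_compl
  refine Algebra.QuasiFiniteAt.of_isOpen_singleton_fiber P ?_
  refine isOpen_induced_iff.2 ⟨U, hU, ?_⟩
  ext ⟨q, hq⟩
  have hq' : q.asIdeal.comap (algebraMap A B) = m := (congrArg PrimeSpectrum.asIdeal hq).trans hn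
  simp only [U, Set.mem_preimage, Set.mem_compl_iff, Set.mem_iUnion, PrimeSpectrum.mem_zeroLocus,
    SetLike.coe_subset_coe, Set.mem_singleton_iff, Subtype.mk.injEq, Set.mem_sdiff, not_exists]
  have hJ : ∀ Q, Q ∈ J.minimalPrimes → Q ≤ n → Q = n := fun Q hQ hle => by
    have : Q.IsPrime := hQ.1.1
    refine hmin Q hQ.1.1 ((Ideal.IsMaximal.eq_of_le inferInstance ?_ ?_).symm) hle
    · exact (Ideal.IsPrime.comap _).ne_top
    · exact Ideal.map_le_iff_le_comap.1 hQ.1.2
  constructor
  · intro h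
    obtain ⟨Q, hQ, hQq⟩ := Ideal.exists_minimalPrimes_le (I := J) (J := q.asIdeal)
      (Ideal.map_le_iff_le_comap.2 hq'.ge)
    have hQn : Q = n := by_contra fun hne => h Q ⟨hQ, hne⟩ hQq
    exact PrimeSpectrum.ext ((Ideal.IsMaximal.eq_of_le inferInstance q.isPrime.ne_top
      (show n ≤ q.asIdeal by rw [← hQn]; exact hQq)).symm)
  · rintro h Q ⟨hQ, hne⟩ hle
    exact hne (hJ Q hQ (by subst h; exact hle))

end Groth.Agent.CAlgLow
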