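import Mathlib

/-! # A monic change of variables (after Mathlib.RingTheory.NoetherNormalization, Apache 2.0) -/

open Polynomial MvPolynomial Ideal Nat RingHom List

namespace Groth.Agent.RefNorm

variable {k : Type*} [Field k] {n : ℕ} (f : MvPolynomial (Fin (n + 1)) k)
variable (v w : Fin (n + 1) →₀ ℕ)

section equivT

/-- `up` is defined as `2 + f.totalDegree`. Any big enough number would work. -/
local notation3 "up" => 2 + f.totalDegree

variable {f v} in
lemma lt_up (vlt : ∀ i, v i < up) : ∀ l ∈ ofFn v, l < up := by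
  grind

/-- `r` maps `(i : Fin (n + 1))` to `up ^ i`. -/
local notation3 "r" => fun (i : Fin (n + 1)) ↦ up ^ i.1

/-- We construct an algebra map `T1 f c` which maps `X_i` into `X_i + c • X_0 ^ r_i` when `i ≠ 0`
and `X_0` to `X_0`. -/
noncomputable abbrev T1 (c : k) :
    MvPolynomial (Fin (n + 1)) k →ₐ[k] MvPolynomial (Fin (n + 1)) k :=
  aeval fun i ↦ if i = 0 then X 0 else X i + c • X 0 ^ r i

lemma t1_comp_t1_neg (c : k) : (T1 f c).comp (T1 f (-c)) = AlgHom.id _ _ := by
  rw [comp_aeval, ← MvPolynomial.aeval_X_left]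
  ext i v
  cases i using Fin.cases <;> simp

/-- `T1 f 1` leads to an algebra equiv `T f`. -/
noncomputable abbrev T := AlgEquiv.ofAlgHom (T1 f 1) (T1 f (-1))
  (t1_comp_t1_neg f 1) (by simpa using t1_comp_t1_neg f (-1))

lemma sum_r_mul_ne (vlt : ∀ i, v i < up) (wlt : ∀ i, w i < up) (ne : v ≠ w) :
    ∑ x : Fin (n + 1), r x * v x ≠ ∑ x : Fin (n + 1), r x * w x := by
  intro h
  refine ne <| Finsupp.ext <| congrFun <| ofFn_inj.mp ?_
  apply ofDigits_inj_of_len_eq (Nat.lt_add_right f.totalDegree one_lt_two)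
    (by simp) (lt_up vlt) (lt_up wlt)
  simpa only [ofDigits_eq_sum_mapIdx, mapIdx_eq_ofFn, get_ofFn, length_ofFn,
    Fin.val_cast, mul_comm, sum_ofFn] using! h

lemma degreeOf_zero_t {a : k} (ha : a ≠ 0) : ((T f) (monomial v a)).degreeOf 0 =
    ∑ i : Fin (n + 1), (r i) * v i := by
  rw [← natDegree_finSuccEquiv, monomial_eq, Finsupp.prod_pow v fun a ↦ X a]
  simp only [Fin.prod_univ_succ, Fin.sum_univ_succ, map_mul, map_prod, map_pow,
    AlgEquiv.ofAlgHom_apply, MvPolynomial.aeval_C, MvPolynomial.aeval_X, if_pos, Fin.succ_ne_zero,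
    ite_false, one_smul, map_add, finSuccEquiv_X_zero, finSuccEquiv_X_succ, algebraMap_eq]
  have h (i : Fin n) :
      (Polynomial.C (X (R := k) i) + Polynomial.X ^ r i.succ) ^ v i.succ ≠ 0 :=
    pow_ne_zero (v i.succ) (leadingCoeff_ne_zero.mp <| by simp [add_comm, leadingCoeff_X_pow_add_C])
  rw [natDegree_mul (by simp [ha]) (mul_ne_zero (by simp) (Finset.prod_ne_zero_iff.mpr
    (fun i _ ↦ h i))), natDegree_mul (by simp) (Finset.prod_ne_zero_iff.mpr (fun i _ ↦ h i)),
    natDegree_prod _ _ (fun i _ ↦ h i), natDegree_finSuccEquiv, degreeOf_C]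
  simpa only [natDegree_pow, zero_add, natDegree_X, mul_one, Fin.val_zero, pow_zero, one_mul,
    add_right_inj] using Finset.sum_congr rfl (fun i _ ↦ by
    rw [add_comm (Polynomial.C _), natDegree_X_pow_add_C, mul_comm])

/-- `T` maps different monomials of `f` to polynomials with different degrees in `X_0`. -/
lemma degreeOf_t_ne_of_ne (hv : v ∈ f.support) (hw : w ∈ f.support) (ne : v ≠ w) :
    (T f <| monomial v <| coeff v f).degreeOf 0 ≠
    (T f <| monomial w <| coeff w f).degreeOf 0 := by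
  rw [degreeOf_zero_t _ _ <| mem_support_iff.mp hv, degreeOf_zero_t _ _ <| mem_support_iff.mp hw]
  refine sum_r_mul_ne f v w (fun i ↦ ?_) (fun i ↦ ?_) ne <;>
  exact lt_of_le_of_lt ((monomial_le_degreeOf i ‹_›).trans (degreeOf_le_totalDegree f i))
    (by lia)

lemma leadingCoeff_finSuccEquiv_t :
    (finSuccEquiv k n ((T f) ((monomial v) (coeff v f)))).leadingCoeff =
    algebraMap k _ (coeff v f) := by
  rw [monomial_eq, Finsupp.prod_fintype]
  · simp only [map_mul, map_prod, leadingCoeff_mul, leadingCoeff_prod]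
    rw [AlgEquiv.ofAlgHom_apply, algHom_C, algebraMap_eq, finSuccEquiv_apply,
      eval₂Hom_C, coe_comp]
    simp only [AlgEquiv.ofAlgHom_apply, Function.comp_apply, leadingCoeff_C, map_pow,
      leadingCoeff_pow, algebraMap_eq]
    have : ∀ j, ((finSuccEquiv k n) ((T1 f) 1 (X j))).leadingCoeff = 1 := fun j ↦ by
      by_cases h : j = 0
      · simp [h, finSuccEquiv_apply]
      · simp only [aeval_eq_bind₁, bind₁_X_right, if_neg h, one_smul, map_add, map_pow]
        obtain ⟨i, rfl⟩ := Fin.exists_succ_eq.mpr h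
        simp [finSuccEquiv_X_succ, finSuccEquiv_X_zero, add_comm]
    simp only [this, one_pow, Finset.prod_const_one, mul_one]
  exact fun i ↦ pow_zero _

/-- `T` maps `f` into some polynomial in `X_0` such that the leading coefficient is invertible. -/
lemma T_leadingcoeff_isUnit (fne : f ≠ 0) :
    IsUnit (finSuccEquiv k n (T f f)).leadingCoeff := by
  obtain ⟨v, vin, vs⟩ := Finset.exists_max_image f.support
    (fun v ↦ (T f ((monomial v) (coeff v f))).degreeOf 0) (support_nonempty.mpr fne)
  set h := fun w ↦ (MvPolynomial.monomial w) (coeff w f)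
  simp only [← natDegree_finSuccEquiv] at vs
  replace vs : ∀ x ∈ f.support \ {v}, (finSuccEquiv k n ((T f) (h x))).degree <
      (finSuccEquiv k n ((T f) (h v))).degree := by
    intro x hx
    obtain ⟨h1, h2⟩ := Finset.mem_sdiff.mp hx
    apply degree_lt_degree <| lt_of_le_of_ne (vs x h1) ?_
    simpa only [natDegree_finSuccEquiv]
      using degreeOf_t_ne_of_ne f _ _ h1 vin <| ne_of_not_mem_cons h2
  have coeff : (finSuccEquiv k n ((T f) (h v + ∑ x ∈ f.support \ {v}, h x))).leadingCoeff =
      (finSuccEquiv k n ((T f) (h v))).leadingCoeff := by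
    simp only [map_add, map_sum]
    rw [add_comm]
    apply leadingCoeff_add_of_degree_lt <| (lt_of_le_of_lt <| degree_sum_le _ _) ?_
    have h2 : h v ≠ 0 := by simpa [h] using mem_support_iff.mp vin
    replace h2 : (finSuccEquiv k n ((T f) (h v))) ≠ 0 := fun eq ↦ h2 <|
      by simpa only [map_eq_zero_iff _ (AlgEquiv.injective _)] using eq
    exact (Finset.sup_lt_iff <| Ne.bot_lt (fun x ↦ h2 <| degree_eq_bot.mp x)).mpr vs
  nth_rw 2 [← f.support_sum_monomial_coeff]
  rw [Finset.sum_eq_add_sum_sdiff_singleton_of_mem vin h]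
  rw [leadingCoeff_finSuccEquiv_t] at coeff
  simpa only [coeff, algebraMap_eq] using (mem_support_iff.mp vin).isUnit.map MvPolynomial.C

end equivT

/-- the last variable goes to `f`, the others to translated variables -/
noncomputable def phi (e₁ : MvPolynomial (Fin (n + 1)) k ≃ₐ[k] MvPolynomial (Fin (n + 1)) k) :
    MvPolynomial (Fin (n + 1)) k →ₐ[k] MvPolynomial (Fin (n + 1)) k :=
  MvPolynomial.aeval (Fin.lastCases f fun i => e₁.symm (MvPolynomial.X i.succ))

theorem phi_last (e₁ : MvPolynomial (Fin (n + 1)) k ≃ₐ[k] MvPolynomial (Fin (n + 1)) k) :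
    phi f e₁ (MvPolynomial.X (Fin.last n)) = f := by simp [phi]

set_option maxHeartbeats 400000 in
theorem integral_of {P : Type*} [CommRing P] {S : Type*} [CommRing S] (ι : P →+* S) (z : S) (g : S →+* Polynomial P)
    (hC : ∀ p, g (ι p) = Polynomial.C p) (hu : IsUnit (g z).leadingCoeff) (h0 : (g z).natDegree ≠ 0) :
    g.IsIntegral := by
  letI := g.toAlgebra
  have hX : IsIntegral S (Polynomial.X : Polynomial P) := by
    obtain ⟨c, hc⟩ := hu
    refine ⟨Polynomial.C (ι (↑c⁻¹ : P)) * ((g z).map ι - Polynomial.C z), ?_, ?_⟩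
    · refine Polynomial.monic_of_natDegree_le_of_coeff_eq_one (g z).natDegree ?_ ?_
      · refine le_trans (Polynomial.natDegree_C_mul_le _ _) (le_trans (Polynomial.natDegree_sub_le _ _) ?_)
        rw [Polynomial.natDegree_C, max_eq_left (Nat.zero_le _)]
        exact Polynomial.natDegree_map_le
      · rw [Polynomial.coeff_C_mul, Polynomial.coeff_sub, Polynomial.coeff_C_ne_zero h0, sub_zero,
          Polynomial.coeff_map, ← Polynomial.leadingCoeff, ← hc, ← map_mul, Units.inv_mul, map_one]
    · show Polynomial.eval₂ g Polynomial.X _ = 0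
      rw [Polynomial.eval₂_mul, Polynomial.eval₂_sub, Polynomial.eval₂_map, Polynomial.eval₂_C, Polynomial.eval₂_C,
        show g.comp ι = Polynomial.C from RingHom.ext hC, Polynomial.eval₂_C_X, sub_self, mul_zero]
  intro p
  show IsIntegral S p
  induction p using Polynomial.induction_on' with
  | add a b ha hb => exact ha.add hb
  | monomial j a =>
    rw [← Polynomial.C_mul_X_pow_eq_monomial, ← hC a]
    exact (isIntegral_algebraMap (x := ι a)).mul (hX.pow j)

set_option maxHeartbeats 400000 in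
theorem phi_isIntegral (e₁ : MvPolynomial (Fin (n + 1)) k ≃ₐ[k] MvPolynomial (Fin (n + 1)) k)
    (hf' : ¬ IsUnit f) (hu : IsUnit (finSuccEquiv k n (e₁ f)).leadingCoeff) :
    (phi f e₁).toRingHom.IsIntegral := by
  have hphi : ∀ i : Fin n, phi f e₁ (MvPolynomial.X i.castSucc) = e₁.symm (MvPolynomial.X i.succ) := fun i => by
    simp [phi]
  let e : MvPolynomial (Fin (n + 1)) k ≃ₐ[k] Polynomial (MvPolynomial (Fin n) k) := e₁.trans (finSuccEquiv k n)
  let g : MvPolynomial (Fin (n + 1)) k →ₐ[k] Polynomial (MvPolynomial (Fin n) k) := e.toAlgHom.comp (phi f e₁)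
  have hlast : g (MvPolynomial.X (Fin.last n)) = e f := by simp [g, phi_last]
  have hC : ∀ p, g (MvPolynomial.rename Fin.castSucc p) = Polynomial.C p := by
    intro p
    have : g.comp (MvPolynomial.rename Fin.castSucc) =
        (IsScalarTower.toAlgHom k (MvPolynomial (Fin n) k) (Polynomial (MvPolynomial (Fin n) k))) :=
      MvPolynomial.algHom_ext fun i => by
        simp only [AlgHom.comp_apply, MvPolynomial.rename_X, g, hphi, IsScalarTower.coe_toAlgHom',
          Polynomial.algebraMap_eq]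
        show finSuccEquiv k n (e₁ (e₁.symm (MvPolynomial.X i.succ))) = _
        rw [AlgEquiv.apply_symm_apply, finSuccEquiv_X_succ]
    exact DFunLike.congr_fun this p
  have h0 : (e f).natDegree ≠ 0 := fun h => by
    refine hf' ((isUnit_map_iff e f).1 ?_)
    rw [Polynomial.eq_C_of_natDegree_eq_zero h, Polynomial.isUnit_C]
    have : IsUnit (e f).leadingCoeff := hu
    rwa [Polynomial.leadingCoeff, h] at this
  have hg : g.toRingHom.IsIntegral :=
    integral_of (MvPolynomial.rename (R := k) Fin.castSucc).toRingHom (MvPolynomial.X (Fin.last n)) g.toRingHom hC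
      (by show IsUnit (g _).leadingCoeff; rw [hlast]; exact hu) (by show (g _).natDegree ≠ 0; rw [hlast]; exact h0)
  intro x
  obtain ⟨F, hF, hFx⟩ := hg (e x)
  refine ⟨F, hF, e.injective ?_⟩
  rw [map_zero, ← AlgEquiv.coe_toAlgHom, ← AlgHom.coe_toRingHom, Polynomial.hom_eval₂]
  exact hFx

set_option maxHeartbeats 400000 in
theorem exists_integral (hf : f ≠ 0) (hf' : ¬ IsUnit f) :
    ∃ ψ : MvPolynomial (Fin (n + 1)) k →ₐ[k] MvPolynomial (Fin (n + 1)) k,
      ψ (MvPolynomial.X (Fin.last n)) = f ∧ ψ.toRingHom.IsIntegral :=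
  ⟨phi f (T f), phi_last f (T f), phi_isIntegral f (T f) hf' (T_leadingcoeff_isUnit f hf)⟩

end Groth.Agent.RefNorm
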