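import Mathlib
import Groth.Agent.Lib.CAlgLow.GLChar

/-! # The special linear group consists of commutators étale locally -/

set_option autoImplicit false
universe u

open Matrix
open scoped commutatorElement

namespace Groth.Agent.SLComm

theorem local_case {B : Type u} [CommRing B] [IsLocalRing B] {n : ℕ} (u : Bˣ) (hu : IsUnit ((u : B) - 1))
    (M : GL (Fin n) B) (hM : GeneralLinearGroup.det M = 1) : M ∈ commutator (GL (Fin n) B) := by
  let f : GL (Fin n) B →* Abelianization (GL (Fin n) B) := Abelianization.of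
  suffices h : f M = 1 by
    have : M ∈ MonoidHom.ker f := h
    rwa [Abelianization.ker_of] at this
  have htv : ∀ i j (h : i ≠ j) (c : B), f (GLChar.tv i j h c) = 1 := by
    intro i j h c
    obtain ⟨w, hw⟩ := hu.exists_left_inv
    have h1 : ∀ c, f (GLChar.tv i j h c) = f (GLChar.tv i j h (↑u * c)) := fun c => by
      have := congrArg f (GLChar.dg_mul_tv i j h u c)
      rw [map_mul, map_mul, mul_comm] at this
      exact mul_right_cancel this
    have h2 : GLChar.tv i j h (↑u * (w * c)) = GLChar.tv i j h c * GLChar.tv i j h (w * c) := Units.ext (by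
      show transvection i j (↑u * (w * c)) = transvection i j c * transvection i j (w * c)
      rw [transvection_mul_transvection_same i j h]
      congr 1
      calc (u : B) * (w * c) = (w * ((u : B) - 1)) * c + w * c := by ring
        _ = c + w * c := by rw [hw, one_mul])
    have h3 := h1 (w * c)
    rw [h2, map_mul] at h3
    exact mul_eq_right.1 h3.symm
  cases n with
  | zero => rw [show M = 1 from Units.ext (Subsingleton.elim _ _), map_one]
  | succ m =>
    have hdg : ∀ i u, f (GLChar.dg i u) = (f.comp (GLChar.dg 0)) u := fun i u => by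
      obtain ⟨P, hP⟩ := GLChar.exists_conj_dg (B := B) i 0 u
      have := congrArg f hP
      rw [map_mul, map_mul, mul_comm] at this
      exact mul_right_cancel this
    rw [GLChar.fin_case (m + 1) f _ htv hdg M, hM, map_one]

section Spread

variable {A : Type u} [CommRing A] (q : Ideal A) [q.IsPrime]

/-- the map to the local ring -/
noncomputable def φ (g : q.primeCompl) : Localization.Away (g : A) →+* Localization.AtPrime q :=
  IsLocalization.Away.lift (g : A) (g := algebraMap A (Localization.AtPrime q)) (IsLocalization.map_units _ g)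

/-- refinement -/
noncomputable def ψ (g h : q.primeCompl) : Localization.Away (g : A) →+* Localization.Away ((g : A) * h) :=
  IsLocalization.Away.awayToAwayRight (g : A) (h : A)

theorem ψ_algebraMap (g h : q.primeCompl) (a : A) :
    ψ q g h (algebraMap A _ a) = algebraMap A _ a :=
  IsLocalization.Away.awayToAwayRight_eq _ _ _

theorem φ_algebraMap (g : q.primeCompl) (a : A) : φ q g (algebraMap A _ a) = algebraMap A _ a :=
  IsLocalization.Away.lift_eq _ _ _

theorem φ_ψ (g h : q.primeCompl) : (φ q (g * h)).comp (ψ q g h) = φ q g := by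
  refine IsLocalization.ringHom_ext (Submonoid.powers (g : A)) (RingHom.ext fun a => ?_)
  show φ q (g * h) (ψ q g h (algebraMap A _ a)) = φ q g (algebraMap A _ a)
  rw [ψ_algebraMap, φ_algebraMap]
  exact φ_algebraMap q (g * h) a

variable {n : ℕ}

theorem exists_zero (g : q.primeCompl) (Z : Matrix (Fin n) (Fin n) (Localization.Away (g : A)))
    (hZ : Z.map (φ q g) = 0) : ∃ h : q.primeCompl, Z.map (ψ q g h) = 0 := by
  classical
  choose k a ha using fun ij : Fin n × Fin n => IsLocalization.Away.surj (g : A) (Z ij.1 ij.2)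
  have h0 : ∀ ij, ∃ t : q.primeCompl, (t : A) * a ij = 0 := fun ij => by
    have h1 := congrArg (φ q g) (ha ij)
    have h2 : φ q g (Z ij.1 ij.2) = 0 := congrFun (congrFun hZ ij.1) ij.2
    rw [map_mul, h2, zero_mul, φ_algebraMap] at h1
    exact (IsLocalization.map_eq_zero_iff q.primeCompl _ _).1 h1.symm
  choose t ht using h0
  refine ⟨∏ ij, t ij, ?_⟩
  ext i j
  have h1 := congrArg (ψ q g (∏ ij, t ij)) (ha (i, j))
  rw [map_mul, map_pow, ψ_algebraMap, ψ_algebraMap] at h1
  have hu : IsUnit (algebraMap A (Localization.Away ((g : A) * ↑(∏ ij, t ij))) (g : A)) :=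
    IsLocalization.Away.isUnit_of_dvd ((g : A) * ↑(∏ ij, t ij)) (dvd_mul_right _ _)
  have hut : IsUnit (algebraMap A (Localization.Away ((g : A) * ↑(∏ ij, t ij))) (t (i, j) : A)) := by
    refine IsLocalization.Away.isUnit_of_dvd ((g : A) * ↑(∏ ij, t ij)) (Dvd.dvd.mul_left ?_ _)
    rw [Submonoid.coe_finsetProd]
    exact Finset.dvd_prod_of_mem (fun ij => (t ij : A)) (Finset.mem_univ _)
  have h2 : algebraMap A (Localization.Away ((g : A) * ↑(∏ ij, t ij))) (a (i, j)) = 0 := by
    refine hut.mul_right_eq_zero.1 ?_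
    rw [← map_mul, ht, map_zero]
  rw [h2] at h1
  exact (hu.pow _).mul_left_eq_zero.1 h1

theorem map_mul' (g h : q.primeCompl) (M : GL (Fin n) (Localization.Away (g : A))) :
    GeneralLinearGroup.map (φ q (g * h)) (GeneralLinearGroup.map (ψ q g h) M) =
      GeneralLinearGroup.map (φ q g) M := by
  refine Units.ext ?_
  show ((M.1).map (ψ q g h)).map (φ q (g * h)) = M.1.map (φ q g)
  rw [Matrix.map_map, ← φ_ψ q g h]
  rfl

theorem exists_lift (x : GL (Fin n) (Localization.AtPrime q)) :
    ∃ (g : q.primeCompl) (X : GL (Fin n) (Localization.Away (g : A))), GeneralLinearGroup.map (φ q g) X = x := by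
  classical
  obtain ⟨s, hs⟩ := IsLocalization.exist_integer_multiples_of_finite q.primeCompl
    (fun w : Bool × Fin n × Fin n => if w.1 then x.1 w.2.1 w.2.2 else (x⁻¹).1 w.2.1 w.2.2)
  choose a ha using hs
  let e (b : Bool) : Matrix (Fin n) (Fin n) (Localization.Away (s : A)) := fun i j =>
    algebraMap A _ (a (b, i, j)) * IsLocalization.Away.invSelf (s : A)
  have he : ∀ b, (e b).map (φ q s) = if b then x.1 else (x⁻¹).1 := fun b => by
    ext i j
    have hinv := congrArg (φ q s) (IsLocalization.Away.mul_invSelf (S := Localization.Away (s : A)) (s : A))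
    rw [map_mul, map_one, φ_algebraMap] at hinv
    show φ q s (algebraMap A _ (a (b, i, j)) * IsLocalization.Away.invSelf (s : A)) = _
    rw [map_mul, φ_algebraMap, ha, Algebra.smul_def, mul_right_comm, hinv, one_mul]
    cases b <;> rfl
  have h1 : ((e true) * (e false) - 1).map (φ q s) = 0 := by
    rw [← RingHom.mapMatrix_apply, map_sub, map_mul, map_one, RingHom.mapMatrix_apply, RingHom.mapMatrix_apply, he, he]
    show x.1 * (x⁻¹).1 - 1 = 0
    rw [Units.mul_inv, sub_self]
  obtain ⟨h, hh⟩ := exists_zero q s _ h1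
  rw [← RingHom.mapMatrix_apply, map_sub, map_mul, map_one, sub_eq_zero] at hh
  rw [show ((1 : Matrix (Fin n) (Fin n) (Localization.Away ((s : A) * h)))) = 1 from rfl] at hh
  refine ⟨s * h, ⟨(ψ q s h).mapMatrix (e true), (ψ q s h).mapMatrix (e false), hh,
    mul_eq_one_comm.1 hh⟩, Units.ext ?_⟩
  show ((e true).map (ψ q s h)).map (φ q (s * h)) = x.1
  rw [Matrix.map_map, show (φ q (s * h)) ∘ (ψ q s h) = φ q s from congrArg DFunLike.coe (φ_ψ q s h), he]
  rfl

/-- The commutator subgroup at the stalk spreads out. -/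
theorem exists_away_commutator (s : GL (Fin n) A)
    (hs : GeneralLinearGroup.map (algebraMap A (Localization.AtPrime q)) s ∈
      commutator (GL (Fin n) (Localization.AtPrime q))) :
    ∃ g : q.primeCompl, GeneralLinearGroup.map (algebraMap A (Localization.Away (g : A))) s ∈
      commutator (GL (Fin n) (Localization.Away (g : A))) := by
  let K : q.primeCompl → Subgroup (GL (Fin n) (Localization.AtPrime q)) := fun g =>
    (commutator (GL (Fin n) (Localization.Away (g : A)))).map (GeneralLinearGroup.map (φ q g))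
  have hmap : ∀ {R R' : Type u} [CommRing R] [CommRing R'] (χ : R →+* R') (M : GL (Fin n) R),
      M ∈ commutator (GL (Fin n) R) → GeneralLinearGroup.map χ M ∈ commutator (GL (Fin n) R') := by
    intro R R' _ _ χ M hM
    have h1 := Subgroup.mem_map_of_mem (GeneralLinearGroup.map χ) hM
    rw [commutator_def, Subgroup.map_commutator] at h1
    exact Subgroup.commutator_mono le_top le_top h1
  have hmono : ∀ g h : q.primeCompl, K g ≤ K (g * h) := by
    rintro g h _ ⟨M, hM, rfl⟩
    exact ⟨GeneralLinearGroup.map (ψ q g h) M,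
      hmap (ψ q g h) M hM, map_mul' q g h M⟩
  have hdir : Directed (· ≤ ·) K := fun g h => ⟨g * h, hmono g h, mul_comm h g ▸ hmono h g⟩
  have hle : commutator (GL (Fin n) (Localization.AtPrime q)) ≤ ⨆ g, K g := by
    rw [commutator_def, Subgroup.commutator_le]
    intro x _ y _
    obtain ⟨g, X, rfl⟩ := exists_lift q x
    obtain ⟨h, Y, rfl⟩ := exists_lift q y
    obtain ⟨X', hX'⟩ : ∃ X', GeneralLinearGroup.map (φ q (g * h)) X' = GeneralLinearGroup.map (φ q g) X :=
      ⟨_, map_mul' q g h X⟩
    obtain ⟨Y', hY'⟩ : ∃ Y', GeneralLinearGroup.map (φ q (g * h)) Y' = GeneralLinearGroup.map (φ q h) Y := by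
      rw [mul_comm g h]
      exact ⟨_, map_mul' q h g Y⟩
    refine Subgroup.mem_iSup_of_mem (g * h) ⟨⁅X', Y'⁆, ?_, ?_⟩
    · exact Subgroup.commutator_mem_commutator (Subgroup.mem_top _) (Subgroup.mem_top _)
    · rw [map_commutatorElement, hX', hY']
  obtain ⟨g, M, hM, hMs⟩ := (Subgroup.mem_iSup_of_directed hdir).1 (hle hs)
  have h0 : (M.1 - s.1.map (algebraMap A (Localization.Away (g : A)))).map (φ q g) = 0 := by
    rw [← RingHom.mapMatrix_apply, map_sub, sub_eq_zero, RingHom.mapMatrix_apply, RingHom.mapMatrix_apply,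
      Matrix.map_map, show (φ q g) ∘ (algebraMap A (Localization.Away (g : A))) =
        algebraMap A (Localization.AtPrime q) from funext (φ_algebraMap q g)]
    exact congrArg Units.val hMs
  obtain ⟨h, hh⟩ := exists_zero q g _ h0
  rw [← RingHom.mapMatrix_apply, map_sub, sub_eq_zero, RingHom.mapMatrix_apply, RingHom.mapMatrix_apply,
    Matrix.map_map, show (ψ q g h) ∘ (algebraMap A (Localization.Away (g : A))) =
      algebraMap A (Localization.Away ((g : A) * h)) from funext (ψ_algebraMap q g h)] at hh
  refine ⟨g * h, ?_⟩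
  have : GeneralLinearGroup.map (algebraMap A (Localization.Away ((g : A) * h))) s =
      GeneralLinearGroup.map (ψ q g h) M := Units.ext hh.symm
  exact this ▸ hmap (ψ q g h) M hM

end Spread

end Groth.Agent.SLComm
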