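import Groth.Agent.Lib.CAlgLow.Dominate
import Mathlib.RingTheory.Flat.Basic

/-!
# The smallest submodule carrying a tensor, for flat Mittag-Leffler modules
-/

set_option autoImplicit false

universe u

open TensorProduct

namespace Groth.Agent.CAlgLow

variable {R : Type u} [CommRing R] {M : Type u} [AddCommGroup M] [Module R M]

theorem mem_range_rTensor_iff [Module.Flat R M] {F G : Type u} [AddCommGroup F] [Module R F]
    [AddCommGroup G] [Module R G] (g : F →ₗ[R] G) (x : F ⊗[R] M) :
    x ∈ LinearMap.range ((LinearMap.ker g).subtype.rTensor M) ↔ g.rTensor M x = 0 := by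
  rw [← LinearMap.mem_ker, LinearMap.exact_iff.1 (Module.Flat.rTensor_exact M (LinearMap.exact_subtype_ker_map g))]

theorem range_rTensor_mono {F : Type u} [AddCommGroup F] [Module R F] {F' F'' : Submodule R F} (h : F' ≤ F'') :
    LinearMap.range (F'.subtype.rTensor M) ≤ LinearMap.range (F''.subtype.rTensor M) := by
  rw [show F'.subtype = F''.subtype ∘ₗ Submodule.inclusion h from rfl, LinearMap.rTensor_comp]
  exact LinearMap.range_comp_le_range _ _

theorem exists_smallest [Module.Flat R M] (hM : CAlg.IsMittagLeffler R M)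
    {F : Type u} [AddCommGroup F] [Module R F] (x : F ⊗[R] M) :
    ∃ F' : Submodule R F, F'.FG ∧ x ∈ LinearMap.range (F'.subtype.rTensor M) ∧
      ∀ F'' : Submodule R F, x ∈ LinearMap.range (F''.subtype.rTensor M) → F' ≤ F'' := by
  let ι := {F'' : Submodule R F // x ∈ LinearMap.range (F''.subtype.rTensor M)}
  let g : F →ₗ[R] (∀ j : ι, F ⧸ j.1) := LinearMap.pi fun j => j.1.mkQ
  have key : x ∈ LinearMap.range ((LinearMap.ker g).subtype.rTensor M) := by
    rw [mem_range_rTensor_iff]
    apply (TensorProduct.comm R _ M).injective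
    rw [map_zero]
    refine hM ι (fun j => F ⧸ j.1) ((funext fun j => ?_).trans (map_zero _).symm)
    have hj : j.1.mkQ.rTensor M x = 0 := by
      rw [← LinearMap.mem_ker, LinearMap.exact_iff.1 (Module.Flat.rTensor_exact M (LinearMap.exact_subtype_mkQ j.1))]
      exact j.2
    have e : ∀ z : F ⊗[R] M, TensorProduct.piRightHom R R M (fun j : ι => F ⧸ j.1)
        (TensorProduct.comm R _ M (g.rTensor M z)) j = TensorProduct.comm R _ M (j.1.mkQ.rTensor M z) := by
      intro z
      induction z with
      | zero => simp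
      | add a b ha hb => simp only [map_add, Pi.add_apply, ha, hb]
      | tmul a b => simp [g]
    rw [e, hj, map_zero, Pi.zero_apply]
  have hmin : ∀ F'' : Submodule R F, x ∈ LinearMap.range (F''.subtype.rTensor M) → LinearMap.ker g ≤ F'' :=
    fun F'' h y hy => by
      have := congrFun (LinearMap.mem_ker.1 hy) ⟨F'', h⟩
      simpa [g] using this
  obtain ⟨y, hy⟩ := key
  obtain ⟨n, f, w, hw⟩ := exists_fin_preimage y
  let F0 : Submodule R F := LinearMap.range ((LinearMap.ker g).subtype ∘ₗ f)
  have hx0 : x ∈ LinearMap.range (F0.subtype.rTensor M) := by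
    refine ⟨(((LinearMap.ker g).subtype ∘ₗ f).rangeRestrict).rTensor M w, ?_⟩
    rw [← LinearMap.rTensor_comp_apply, LinearMap.subtype_comp_codRestrict, LinearMap.rTensor_comp_apply, hw, hy]
  refine ⟨LinearMap.ker g, ?_, ⟨y, hy⟩, hmin⟩
  have : LinearMap.ker g = F0 := le_antisymm (hmin F0 hx0) (by
    simp only [F0, LinearMap.range_comp]; exact Submodule.map_subtype_le _ _)
  rw [this]
  exact Submodule.fg_range _

theorem isMittagLeffler_of_smallest [Module.Flat R M]
    (h : ∀ (n : ℕ) (x : (Fin n → R) ⊗[R] M), ∃ F' : Submodule R (Fin n → R),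
        x ∈ LinearMap.range (F'.subtype.rTensor M) ∧
        ∀ F'' : Submodule R (Fin n → R), x ∈ LinearMap.range (F''.subtype.rTensor M) → F' ≤ F'') :
    CAlg.IsMittagLeffler R M := by
  intro ι Q _ _
  rw [injective_iff_map_eq_zero]
  intro x hx
  obtain ⟨n, g, y, hy⟩ := exists_fin_preimage (TensorProduct.comm R M (∀ i, Q i) x)
  obtain ⟨F', hy', hF'⟩ := h n y
  have hle : F' ≤ LinearMap.ker g := fun v hv => LinearMap.mem_ker.2 <| funext fun i => by
    refine LinearMap.mem_ker.1 ((hF' (LinearMap.ker (LinearMap.proj i ∘ₗ g)) ?_) hv)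
    rw [mem_range_rTensor_iff, LinearMap.rTensor_comp_apply, hy]
    have e : ∀ z : M ⊗[R] (∀ i, Q i), (LinearMap.proj (R := R) i).rTensor M (TensorProduct.comm R M _ z) =
        TensorProduct.comm R M (Q i) (TensorProduct.piRightHom R R M Q z i) := by
      intro z
      induction z with
      | zero => simp
      | add a b ha hb => simp only [map_add, Pi.add_apply, ha, hb]
      | tmul a b => simp
    rw [e, hx, Pi.zero_apply, map_zero]
  have h0 : g.rTensor M y = 0 := (mem_range_rTensor_iff g y).1 (range_rTensor_mono hle hy')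
  rw [hy] at h0
  exact (TensorProduct.comm R M _).map_eq_zero_iff.1 h0

end Groth.Agent.CAlgLow
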