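import Groth.Agent.Lib.RegSmooth17.Basic
import Groth.Agent.Lib.SmoothReg17.Basic

/-! # Smooth at a prime iff regular, perfect ground field -/

universe u

namespace Groth.Agent.SmoothIffReg

theorem regular_of_isSmoothAt {k B : Type u} [Field k] [CommRing B] [Algebra k B] [Algebra.FiniteType k B]
    (q : Ideal B) [q.IsPrime] [Algebra.IsSmoothAt k q] : IsRegularLocalRing (Localization.AtPrime q) := by
  haveI : Algebra.FinitePresentation k B := Algebra.FinitePresentation.of_finiteType.1 inferInstance
  obtain ⟨g, hg, hs⟩ := Algebra.IsSmoothAt.exists_notMem_smooth (R := k) q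
  haveI := hs
  let Bg := Localization.Away g
  have hdisj : Disjoint ((Submonoid.powers g : Submonoid B) : Set B) (q : Set B) := by
    rw [Set.disjoint_left]
    rintro x ⟨i, rfl⟩ hx
    exact hg (Ideal.IsPrime.mem_of_pow_mem ‹_› i hx)
  let q' : Ideal Bg := q.map (algebraMap B Bg)
  haveI : q'.IsPrime := IsLocalization.isPrime_of_isPrime_disjoint (Submonoid.powers g) Bg q inferInstance hdisj
  have hcomap : q'.comap (algebraMap B Bg) = q :=
    IsLocalization.comap_map_of_isPrime_disjoint (Submonoid.powers g) Bg inferInstance hdisj
  haveI : IsRegularLocalRing (Localization.AtPrime q') :=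
    SmoothReg17.isRegularLocalRing_of_smooth (algebraMap k Bg) (RingHom.smooth_algebraMap.2 hs) q'
  haveI : IsLocalization.AtPrime (Localization.AtPrime q') q := by
    have := IsLocalization.isLocalization_isLocalization_atPrime_isLocalization (Submonoid.powers g)
      (Localization.AtPrime q') q'
    simpa only [hcomap] using this
  exact IsRegularLocalRing.of_ringEquiv
    (IsLocalization.algEquiv q.primeCompl (Localization.AtPrime q') (Localization.AtPrime q)).toRingEquiv

theorem isSmoothAt_iff_regular {k B : Type u} [Field k] [PerfectField k] [CommRing B] [Algebra k B]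
    [Algebra.FiniteType k B] (q : Ideal B) [q.IsPrime] :
    Algebra.IsSmoothAt k q ↔ IsRegularLocalRing (Localization.AtPrime q) := by
  refine ⟨fun h => regular_of_isSmoothAt (k := k) q, fun h => ?_⟩
  haveI : Algebra.EssFiniteType k q.ResidueField := Algebra.EssFiniteType.comp k B q.ResidueField
  exact RegSmooth17.isSmoothAt_of_isRegularLocalRing k B q

end Groth.Agent.SmoothIffReg
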