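import Groth.Agent.Lib.CAlgLow.UI
import Mathlib.RingTheory.AdicCompletion.Algebra
import Mathlib.RingTheory.AdicCompletion.Functoriality
import Mathlib.LinearAlgebra.Isomorphisms
import Mathlib.LinearAlgebra.TensorProduct.Quotient

/-!
# Sections on completions of surjections onto flat modules with projective reduction
-/

set_option autoImplicit false

universe u

open TensorProduct

namespace Groth.Agent.CAlgLow

variable {R : Type u} [CommRing R] (I : Ideal R) {M : Type u} [AddCommGroup M] [Module R M]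

theorem mapQ_injective_of_flat_coker {K P : Type u} [AddCommGroup K] [Module R K] [AddCommGroup P] [Module R P]
    {f : K →ₗ[R] P} {g : P →ₗ[R] M} (hf : Function.Injective f) (hfg : Function.Exact f g)
    (hg : Function.Surjective g) [Module.Flat R M] (J : Ideal R) (k : K)
    (hk : f k ∈ J • (⊤ : Submodule R P)) : k ∈ J • (⊤ : Submodule R K) := by
  have hui := ui_of_flat_coker hf hfg hg (R ⧸ J)
  let eP := TensorProduct.tensorQuotEquivQuotSMul P J
  let eK := TensorProduct.tensorQuotEquivQuotSMul K J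
  have hk' : f.rTensor (R ⧸ J) (k ⊗ₜ 1) = 0 := by
    apply eP.injective
    rw [map_zero, LinearMap.rTensor_tmul]
    exact (TensorProduct.tensorQuotEquivQuotSMul_tmul_mk J (f k) 1).trans (by simpa using hk)
  have h0 : k ⊗ₜ[R] (1 : R ⧸ J) = 0 := hui (hk'.trans (map_zero _).symm)
  have h1 : eK (k ⊗ₜ[R] (1 : R ⧸ J)) = Submodule.Quotient.mk k :=
    (TensorProduct.tensorQuotEquivQuotSMul_tmul_mk J k 1).trans (by rw [one_smul])
  rw [h0, map_zero] at h1
  exact (Submodule.Quotient.mk_eq_zero _).1 h1.symm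

/-- Maps out of a flat module with projective reduction lift along surjections with kernel killed by `I`. -/
theorem exists_lift_of_ker_killed [Module.Flat R M] [Module.Projective (R ⧸ I) (M ⧸ (I • ⊤ : Submodule R M))]
    {A B : Type u} [AddCommGroup A] [Module R A] [AddCommGroup B] [Module R B] (p : A →ₗ[R] B)
    (hp : Function.Surjective p) (hker : ∀ r ∈ I, ∀ a, p a = 0 → r • a = 0) (h : M →ₗ[R] B) :
    ∃ l : M →ₗ[R] A, p ∘ₗ l = h := by
  classical
  let g : (M →₀ R) →ₗ[R] M := Finsupp.linearCombination R id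
  have hg : Function.Surjective g := Finsupp.linearCombination_id_surjective R M
  let K : Submodule R (M →₀ R) := LinearMap.ker g
  letI : AddCommGroup K := Submodule.addCommGroup K
  obtain ⟨h₁, hh₁⟩ := Module.projective_lifting_property p (h ∘ₗ g) hp
  let gq : ((M →₀ R) ⧸ (I • ⊤ : Submodule R (M →₀ R))) →ₗ[R] M ⧸ (I • ⊤ : Submodule R M) :=
    Submodule.mapQ _ _ g (Submodule.smul_top_le_comap_smul_top I g)
  have hgq : Function.Surjective gq := fun y => by
    obtain ⟨y, rfl⟩ := Submodule.Quotient.mk_surjective _ y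
    obtain ⟨x, rfl⟩ := hg y
    exact ⟨Submodule.Quotient.mk x, rfl⟩
  let gq' : ((M →₀ R) ⧸ (I • ⊤ : Submodule R (M →₀ R))) →ₗ[R ⧸ I] M ⧸ (I • ⊤ : Submodule R M) :=
    { gq with
      map_smul' := fun r x => by
        obtain ⟨r, rfl⟩ := Ideal.Quotient.mk_surjective r
        exact map_smul gq r x }
  obtain ⟨s₀, hs₀⟩ := Module.projective_lifting_property gq' LinearMap.id hgq
  have hs₀R : ∀ (r : R) (x : M ⧸ (I • ⊤ : Submodule R M)), s₀ (r • x) = r • s₀ x := fun r x =>
    map_smul s₀ (Ideal.Quotient.mk I r) x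
  let mkF := (I • ⊤ : Submodule R (M →₀ R)).mkQ
  let d : (M →₀ R) →ₗ[R] (M →₀ R) ⧸ (I • ⊤ : Submodule R (M →₀ R)) :=
    mkF - ({ s₀.toAddMonoidHom with map_smul' := hs₀R } : (M ⧸ (I • ⊤ : Submodule R M)) →ₗ[R] _) ∘ₗ
      (I • ⊤ : Submodule R M).mkQ ∘ₗ g
  let i : (K ⧸ (I • ⊤ : Submodule R K)) →ₗ[R] (M →₀ R) ⧸ (I • ⊤ : Submodule R (M →₀ R)) :=
    Submodule.mapQ _ _ K.subtype (Submodule.smul_top_le_comap_smul_top I _)
  have hexact : Function.Exact K.subtype g := LinearMap.exact_subtype_ker_map g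
  have hi : Function.Injective i := by
    rw [injective_iff_map_eq_zero]
    intro k hk
    obtain ⟨k, rfl⟩ := Submodule.Quotient.mk_surjective _ k
    rw [Submodule.Quotient.mk_eq_zero]
    exact mapQ_injective_of_flat_coker K.injective_subtype hexact hg I k ((Submodule.Quotient.mk_eq_zero _).1 hk)
  have hd : ∀ x, d x ∈ LinearMap.range i := by
    intro x
    obtain ⟨y, hy⟩ := Submodule.Quotient.mk_surjective _ (d x)
    have h0 : gq (d x) = 0 := by
      show gq' (mkF x - s₀ (Submodule.Quotient.mk (g x))) = 0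
      rw [map_sub, ← LinearMap.comp_apply gq', hs₀]
      exact sub_self _
    rw [← hy] at h0 ⊢
    have h1 : g y ∈ (I • ⊤ : Submodule R M) := (Submodule.Quotient.mk_eq_zero _).1 h0
    rw [← LinearMap.range_eq_top.2 hg, LinearMap.range_eq_map, ← Submodule.map_smul''] at h1
    obtain ⟨z, hz, hzy⟩ := h1
    refine ⟨Submodule.Quotient.mk ⟨y - z, by rw [LinearMap.mem_ker, map_sub, hzy, sub_self]⟩, ?_⟩
    exact (Submodule.Quotient.eq _).2 (by simpa using neg_mem hz)
  let r : (M →₀ R) →ₗ[R] K ⧸ (I • ⊤ : Submodule R K) :=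
    (LinearEquiv.ofInjective i hi).symm.toLinearMap ∘ₗ LinearMap.codRestrict _ d hd
  have hr : ∀ k : K, r k.1 = Submodule.Quotient.mk k := fun k => by
    apply hi
    show i _ = mkF k.1
    have hk : d k.1 = mkF k.1 := by
      show mkF k.1 - s₀ (Submodule.Quotient.mk (g k.1)) = mkF k.1
      rw [show g k.1 = 0 from k.2, Submodule.Quotient.mk_zero, map_zero, sub_zero]
    rw [← hk]
    exact congrArg Subtype.val ((LinearEquiv.ofInjective i hi).apply_symm_apply ⟨d k.1, hd k.1⟩)
  -- the discrepancy on the kernel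
  let c : K →ₗ[R] LinearMap.ker p := LinearMap.codRestrict _ (h₁ ∘ₗ K.subtype) fun k => by
    show p (h₁ k.1) = 0
    rw [← LinearMap.comp_apply, hh₁, LinearMap.comp_apply, show g k.1 = 0 from k.2, map_zero]
  let cq : (K ⧸ (I • ⊤ : Submodule R K)) →ₗ[R] A :=
    Submodule.liftQ _ ((LinearMap.ker p).subtype ∘ₗ c) (Submodule.smul_le.2 fun r hr k _ => by
      rw [LinearMap.mem_ker, map_smul]
      exact hker r hr _ (c k).2)
  let h₂ : (M →₀ R) →ₗ[R] A := h₁ - cq ∘ₗ r
  have hK : K ≤ LinearMap.ker h₂ := fun k hk => by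
    show h₁ k - cq (r k) = 0
    rw [hr ⟨k, hk⟩]
    exact sub_self _
  refine ⟨K.liftQ h₂ hK ∘ₗ (g.quotKerEquivOfSurjective hg).symm.toLinearMap, LinearMap.ext fun m => ?_⟩
  obtain ⟨x, rfl⟩ := hg m
  have hx : (g.quotKerEquivOfSurjective hg).symm (g x) = Submodule.Quotient.mk x :=
    (LinearEquiv.symm_apply_eq _).2 rfl
  rw [LinearMap.comp_apply, LinearMap.comp_apply, LinearEquiv.coe_coe, hx, Submodule.liftQ_apply]
  show p (h₁ x - cq (r x)) = _
  have hcq : ∀ q, p (cq q) = 0 := fun q => by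
    obtain ⟨k, rfl⟩ := Submodule.Quotient.mk_surjective _ q
    exact (c k).2
  rw [map_sub, hcq, sub_zero, ← LinearMap.comp_apply, hh₁, LinearMap.comp_apply]

theorem exists_section_step [Module.Flat R M] [Module.Projective (R ⧸ I) (M ⧸ (I • ⊤ : Submodule R M))]
    {P : Type u} [AddCommGroup P] [Module R P] (g : P →ₗ[R] M) (hg : Function.Surjective g) (n : ℕ)
    (σ : M →ₗ[R] P ⧸ (I ^ n • ⊤ : Submodule R P))
    (hσ : ∀ m, LinearMap.reduceModIdeal (I ^ n) g (σ m) = Submodule.Quotient.mk m) :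
    ∃ σ' : M →ₗ[R] P ⧸ (I ^ (n + 1) • ⊤ : Submodule R P),
      (∀ m, LinearMap.reduceModIdeal (I ^ (n + 1)) g (σ' m) = Submodule.Quotient.mk m) ∧
      ∀ m, Submodule.factorPow I P (Nat.le_succ n) (σ' m) = σ m := by
  classical
  let A := P ⧸ (I ^ (n + 1) • ⊤ : Submodule R P)
  let Bn := P ⧸ (I ^ n • ⊤ : Submodule R P)
  let Cn := M ⧸ (I ^ (n + 1) • ⊤ : Submodule R M)
  let p₀ : A →ₗ[R] Bn × Cn :=
    LinearMap.prod (Submodule.factorPow I P (Nat.le_succ n)) ((LinearMap.reduceModIdeal (I ^ (n + 1)) g).restrictScalars R)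
  have hmem : ∀ m, (σ m, (Submodule.Quotient.mk m : Cn)) ∈ LinearMap.range p₀ := fun m => by
    obtain ⟨x, hx⟩ := Submodule.Quotient.mk_surjective _ (σ m)
    have h := hσ m
    rw [← hx] at h
    have h' : g x - m ∈ (I ^ n • ⊤ : Submodule R M) := (Submodule.Quotient.eq _).1 h
    rw [← LinearMap.range_eq_top.2 hg, LinearMap.range_eq_map, ← Submodule.map_smul''] at h'
    obtain ⟨z, hz, hzg⟩ := h'
    refine ⟨Submodule.Quotient.mk (x - z), Prod.ext ?_ ?_⟩
    · show Submodule.Quotient.mk (x - z) = σ m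
      rw [← hx]
      exact (Submodule.Quotient.eq _).2 (by simpa using neg_mem hz)
    · show Submodule.Quotient.mk (g (x - z)) = Submodule.Quotient.mk m
      rw [map_sub, hzg, sub_sub_cancel]
  obtain ⟨σ', hσ'⟩ := exists_lift_of_ker_killed I p₀.rangeRestrict p₀.surjective_rangeRestrict
    (fun r hr a ha => by
      have ha' : Submodule.factorPow I P (Nat.le_succ n) a = 0 := congrArg (fun z : LinearMap.range p₀ => z.1.1) ha
      obtain ⟨x, rfl⟩ := Submodule.Quotient.mk_surjective _ a
      rw [← Submodule.Quotient.mk_smul, Submodule.Quotient.mk_eq_zero, pow_succ', Submodule.mul_smul]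
      exact Submodule.smul_mem_smul hr ((Submodule.Quotient.mk_eq_zero _).1 ha'))
    (LinearMap.codRestrict _ (σ.prod (I ^ (n + 1) • ⊤ : Submodule R M).mkQ) hmem)
  refine ⟨σ', fun m => ?_, fun m => ?_⟩
  · exact congrArg (fun z : LinearMap.range p₀ => z.1.2) (DFunLike.congr_fun hσ' m)
  · exact congrArg (fun z : LinearMap.range p₀ => z.1.1) (DFunLike.congr_fun hσ' m)

/-- The completion of a surjection onto a flat module with projective reduction has a section. -/
theorem exists_section_completion [Module.Flat R M] [Module.Projective (R ⧸ I) (M ⧸ (I • ⊤ : Submodule R M))]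
    {P : Type u} [AddCommGroup P] [Module R P] (g : P →ₗ[R] M) (hg : Function.Surjective g) :
    ∃ s : AdicCompletion I M →ₗ[AdicCompletion I R] AdicCompletion I P,
      AdicCompletion.map I g ∘ₗ s = LinearMap.id := by
  classical
  let T : ℕ → Type u := fun n => {σ : M →ₗ[R] P ⧸ (I ^ n • ⊤ : Submodule R P) //
    ∀ m, LinearMap.reduceModIdeal (I ^ n) g (σ m) = Submodule.Quotient.mk m}
  haveI : Subsingleton (M ⧸ (I ^ 0 • ⊤ : Submodule R M)) := by
    rw [Submodule.Quotient.subsingleton_iff, pow_zero, Ideal.one_eq_top, Submodule.top_smul]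
  choose nxt h1 h2 using fun n (σ : T n) => exists_section_step I g hg n σ.1 σ.2
  let σ : ∀ n, T n := fun n => Nat.rec ⟨0, fun m => Subsingleton.elim _ _⟩ (fun n t => ⟨nxt n t, h1 n t⟩) n
  have hcomp : ∀ {a b : ℕ} (h : a ≤ b) m, Submodule.factorPow I P h ((σ b).1 m) = (σ a).1 m := by
    intro a b h
    induction b, h using Nat.le_induction with
    | base =>
      intro m
      obtain ⟨x, hx⟩ := Submodule.Quotient.mk_surjective _ ((σ a).1 m)
      rw [← hx]; rfl
    | succ b h ih =>
      intro m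
      rw [← ih m, ← h2 b (σ b) m]
      obtain ⟨x, hx⟩ := Submodule.Quotient.mk_surjective _ ((σ (b + 1)).1 m)
      rw [← show (σ (b + 1)).1 m = nxt b (σ b) m from rfl, ← hx]
      rfl
  have hkill : ∀ n, (I ^ n • ⊤ : Submodule R M) ≤ LinearMap.ker (σ n).1 := fun n =>
    Submodule.smul_le.2 fun r hr m _ => by
      obtain ⟨x, hx⟩ := Submodule.Quotient.mk_surjective _ ((σ n).1 m)
      rw [LinearMap.mem_ker, map_smul, ← hx, ← Submodule.Quotient.mk_smul, Submodule.Quotient.mk_eq_zero]
      exact Submodule.smul_mem_smul hr Submodule.mem_top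
  let L : ∀ n, (M ⧸ (I ^ n • ⊤ : Submodule R M)) →ₗ[R] P ⧸ (I ^ n • ⊤ : Submodule R P) := fun n =>
    Submodule.liftQ _ (σ n).1 (hkill n)
  have hprop : ∀ (x : AdicCompletion I M) {a b : ℕ} (hab : a ≤ b),
      AdicCompletion.transitionMap I P hab (L b (x.val b)) = L a (x.val a) := by
    intro x a b hab
    obtain ⟨m, hm⟩ := Submodule.Quotient.mk_surjective _ (x.val b)
    rw [← hm, ← x.prop hab, ← hm]
    exact hcomp hab m
  refine ⟨{ toFun := fun x => ⟨fun n => L n (x.val n), fun {a b} hab => hprop x hab⟩,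
            map_add' := fun x y => AdicCompletion.ext fun n => map_add (L n) (x.val n) (y.val n),
            map_smul' := fun r x => AdicCompletion.ext fun n => ?_ }, ?_⟩
  · obtain ⟨a, ha⟩ := Submodule.Quotient.mk_surjective _ (r.val n)
    show L n (r.val n • x.val n) = r.val n • L n (x.val n)
    rw [← ha]
    exact map_smul (L n) a (x.val n)
  · refine LinearMap.ext fun x => AdicCompletion.ext fun n => ?_
    obtain ⟨m, hm⟩ := Submodule.Quotient.mk_surjective _ (x.val n)
    rw [LinearMap.comp_apply, AdicCompletion.map_val_apply, LinearMap.id_apply, ← hm]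
    show LinearMap.reduceModIdeal (I ^ n) g (L n (x.val n)) = _
    rw [← hm]
    exact (σ n).2 m

end Groth.Agent.CAlgLow
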