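import Mathlib
import Groth.Prelude.Def_Found
import Groth.Agent.Lib.CplDomain.Normalization

/-! # Tate's criterion for the Japanese property -/

set_option autoImplicit false
universe u

namespace Groth.Agent.Tate

variable {R : Type u} [CommRing R] [IsDomain R] [IsNoetherianRing R] [IsIntegrallyClosed R]

/-- The key case: all `q`-th powers descend and `x` has a `q`-th root. -/
theorem finite_of_root (x : R) (hx : x ≠ 0) [hP : (Ideal.span ({x} : Set R)).IsPrime]
    (h2 : CAlg.IsN2 (R ⧸ Ideal.span ({x} : Set R))) [IsAdicComplete (Ideal.span ({x} : Set R)) R]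
    {L : Type u} [Field L] [Algebra R L] [Algebra (FractionRing R) L] [IsScalarTower R (FractionRing R) L]
    [FiniteDimensional (FractionRing R) L] (q : ℕ) (hq : 0 < q)
    (hpow : ∀ z : L, z ^ q ∈ (algebraMap (FractionRing R) L).range)
    (y : L) (hy : y ^ q = algebraMap R L x) : Module.Finite R (integralClosure R L) := by
  classical
  let C := integralClosure R L
  let P : Ideal R := Ideal.span ({x} : Set R)
  have hRL : Function.Injective (algebraMap R L) := by
    rw [IsScalarTower.algebraMap_eq R (FractionRing R) L]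
    exact (algebraMap (FractionRing R) L).injective.comp (IsFractionRing.injective R (FractionRing R))
  have hρ : ∀ c : C, ∃ r : R, algebraMap R L r = (c : L) ^ q := fun c => by
    obtain ⟨k, hk⟩ := hpow (c : L)
    have hint : IsIntegral R k := by
      refine (isIntegral_algHom_iff (IsScalarTower.toAlgHom R (FractionRing R) L) (algebraMap (FractionRing R) L).injective).mp ?_
      show IsIntegral R (algebraMap (FractionRing R) L k)
      rw [hk]; exact (c.2 : IsIntegral R c.1).pow q
    obtain ⟨r, rfl⟩ := IsIntegrallyClosed.isIntegral_iff.mp hint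
    exact ⟨r, by rw [IsScalarTower.algebraMap_apply R (FractionRing R) L, hk]⟩
  choose ρ hρ using hρ
  have hy0 : y ≠ 0 := fun h => hx (hRL (by rw [← hy, h, zero_pow hq.ne', map_zero]))
  let Y : C := ⟨y, IsIntegral.of_pow hq (hy ▸ isIntegral_algebraMap)⟩
  have hYq : Y ^ q = algebraMap R C x := Subtype.ext hy
  let Q : Ideal C := Ideal.span {Y}
  have hQ : ∀ c : C, c ∈ Q ↔ ρ c ∈ P := by
    intro c
    constructor
    · intro hc
      obtain ⟨d, rfl⟩ := Ideal.mem_span_singleton'.mp hc
      refine Ideal.mem_span_singleton'.mpr ⟨ρ d, hRL ?_⟩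
      rw [map_mul, hρ, hρ, ← hy, ← mul_pow]
      rfl
    · intro hc
      obtain ⟨r, hr⟩ := Ideal.mem_span_singleton'.mp hc
      have hint : IsIntegral R ((c : L) / y) := by
        refine IsIntegral.of_pow hq ?_
        rw [div_pow, ← hρ, hy, ← hr, map_mul, mul_div_assoc, div_self (fun h => hx (hRL (h.trans (map_zero _).symm))), mul_one]
        exact isIntegral_algebraMap
      exact Ideal.mem_span_singleton'.mpr ⟨⟨_, hint⟩, Subtype.ext (by
        show (c : L) / y * y = (c : L)
        exact div_mul_cancel₀ _ hy0)⟩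
  have hρmul : ∀ a b : C, ρ (a * b) = ρ a * ρ b := fun a b =>
    hRL (by rw [map_mul, hρ, hρ, hρ, ← mul_pow]; rfl)
  have hρalg : ∀ r : R, ρ (algebraMap R C r) = r ^ q := fun r =>
    hRL (by rw [hρ, map_pow]; rfl)
  haveI hQp : Q.IsPrime := by
    refine ⟨fun h => ?_, fun {a b} hab => ?_⟩
    · have h1 := (hQ 1).mp (h ▸ Submodule.mem_top)
      rw [← map_one (algebraMap R C), hρalg, one_pow] at h1
      exact hP.ne_top ((Ideal.eq_top_iff_one _).mpr h1)
    · rw [hQ, hρmul] at hab
      rw [hQ, hQ]
      exact hP.mem_or_mem hab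
  have hQP : ∀ r : R, algebraMap R C r ∈ Q → r ∈ P := fun r hr => by
    rw [hQ, hρalg] at hr
    exact hP.mem_of_pow_mem q hr
  have hPQ : ∀ r ∈ P, algebraMap R C r ∈ Q := fun r hr => by
    rw [hQ, hρalg]
    exact Ideal.pow_mem_of_mem P hr q hq
  have hsep : ∀ a : C, (∀ n : ℕ, a ∈ Ideal.span {algebraMap R C x ^ n}) → a = 0 := by
    intro a ha
    have h0 : ρ a = 0 := by
      refine IsHausdorff.haus' (I := P) _ fun n => ?_
      rw [SModEq.zero, smul_eq_mul, Ideal.mul_top]
      obtain ⟨d, hd⟩ := Ideal.mem_span_singleton'.mp (ha n)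
      rw [← hd, hρmul, ← map_pow, hρalg, ← pow_mul]
      exact Ideal.mul_mem_left _ _ (Ideal.pow_le_pow_right (Nat.le_mul_of_pos_right n hq) (Ideal.pow_mem_pow (Ideal.mem_span_singleton_self x) _))
    apply Subtype.ext
    have := hρ a
    rw [h0, map_zero] at this
    exact pow_eq_zero_iff hq.ne' |>.mp this.symm
  -- the residual extension
  letI : Algebra (R ⧸ P) (C ⧸ Q) :=
    (Ideal.quotientMap Q (algebraMap R C) fun r hr => Ideal.mem_comap.mpr (hPQ r hr)).toAlgebra
  have hinjQ : Function.Injective (algebraMap (R ⧸ P) (C ⧸ Q)) :=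
    Ideal.quotientMap_injective' fun r hr => hQP r hr
  haveI : IsScalarTower R (R ⧸ P) (C ⧸ Q) := .of_algebraMap_eq fun _ => rfl
  haveI : Algebra.IsIntegral R C := ⟨fun c => (isIntegral_algHom_iff C.val Subtype.val_injective).mp c.2⟩
  haveI : Algebra.IsIntegral R (C ⧸ Q) :=
    ⟨fun z => by
      obtain ⟨c, rfl⟩ := Ideal.Quotient.mk_surjective z
      exact (Algebra.IsIntegral.isIntegral (R := R) c).map (Ideal.Quotient.mkₐ R Q)⟩
  haveI : Algebra.IsIntegral (R ⧸ P) (C ⧸ Q) := Algebra.IsIntegral.tower_top R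
  haveI : FaithfulSMul (R ⧸ P) (C ⧸ Q) := (faithfulSMul_iff_algebraMap_injective _ _).mpr hinjQ
  let k := FractionRing (R ⧸ P)
  let L' := FractionRing (C ⧸ Q)
  letI : Algebra k L' := FractionRing.liftAlgebra (R ⧸ P) L'
  -- lifts of independent elements stay independent
  have hindep : ∀ (ι : Type u) [Fintype ι] (c : ι → C),
      LinearIndependent (R ⧸ P) (fun i => Ideal.Quotient.mk Q (c i)) → LinearIndependent R (fun i => (c i : L)) := by
    intro ι _ c hc
    rw [Fintype.linearIndependent_iff] at hc ⊢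
    intro r hr
    have hrC : ∑ i, algebraMap R C (r i) * c i = 0 := Subtype.ext (by
      rw [ZeroMemClass.coe_zero, AddSubmonoidClass.coe_finsetSum, ← hr]
      exact Finset.sum_congr rfl fun i _ => (Algebra.smul_def _ _).symm)
    have key : ∀ n : ℕ, ∃ r' : ι → R, (∀ i, r i = x ^ n * r' i) ∧ ∑ i, algebraMap R C (r' i) * c i = 0 := by
      intro n
      induction n with
      | zero => exact ⟨r, fun i => by rw [pow_zero, one_mul], hrC⟩
      | succ n ih =>
        obtain ⟨r', hr', hs⟩ := ih
        have h0 := congrArg (Ideal.Quotient.mk Q) hs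
        rw [map_sum, map_zero] at h0
        have h1 := hc (fun i => Ideal.Quotient.mk P (r' i)) (by
          rw [← h0]
          exact Finset.sum_congr rfl fun i _ => by rw [map_mul, Algebra.smul_def]; rfl)
        have h2 : ∀ i, ∃ w, x * w = r' i := fun i => by
          obtain ⟨w, hw⟩ := Ideal.mem_span_singleton'.mp (Ideal.Quotient.eq_zero_iff_mem.mp (h1 i))
          exact ⟨w, by rw [← hw, mul_comm]⟩
        choose w hw using h2
        refine ⟨w, fun i => by rw [hr', ← hw, pow_succ, mul_assoc], ?_⟩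
        have hx0 : algebraMap R C x ≠ 0 := fun h => hx (hRL (congrArg Subtype.val h |>.trans (map_zero _).symm))
        apply mul_left_cancel₀ hx0
        rw [mul_zero, Finset.mul_sum, ← hs]
        exact Finset.sum_congr rfl fun i _ => by rw [← hw, map_mul, mul_assoc]
    intro i
    refine IsHausdorff.haus' (I := P) _ fun n => ?_
    rw [SModEq.zero, smul_eq_mul, Ideal.mul_top]
    obtain ⟨r', hr', -⟩ := key n
    rw [hr' i]
    exact Ideal.mul_mem_right _ _ (Ideal.pow_mem_pow (Ideal.mem_span_singleton_self x) n)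
  have hspan : Submodule.span k (Set.range (algebraMap (C ⧸ Q) L')) = ⊤ := by
    refine eq_top_iff.mpr fun z _ => ?_
    obtain ⟨a, b, hb, rfl⟩ := IsFractionRing.div_surjective (A := C ⧸ Q) z
    obtain ⟨r, hr, b', hbb'⟩ := ((Algebra.IsIntegral.isIntegral (R := R ⧸ P) b).isAlgebraic).exists_nonzero_dvd hb
    have hr0 : algebraMap (R ⧸ P) L' r ≠ 0 := by
      rw [IsScalarTower.algebraMap_apply (R ⧸ P) (C ⧸ Q) L']
      exact fun h => hr (hinjQ ((IsFractionRing.injective (C ⧸ Q) L' (h.trans (map_zero _).symm)).trans (map_zero _).symm))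
    have hb0 : algebraMap (C ⧸ Q) L' b ≠ 0 := IsFractionRing.to_map_ne_zero_of_mem_nonZeroDivisors hb
    have heq : algebraMap (C ⧸ Q) L' a / algebraMap (C ⧸ Q) L' b =
        (algebraMap (R ⧸ P) k r)⁻¹ • algebraMap (C ⧸ Q) L' (a * b') := by
      rw [Algebra.smul_def, map_inv₀, ← IsScalarTower.algebraMap_apply, map_mul,
        IsScalarTower.algebraMap_apply (R ⧸ P) (C ⧸ Q) L', hbb', map_mul]
      rw [IsScalarTower.algebraMap_apply (R ⧸ P) (C ⧸ Q) L', hbb', map_mul] at hr0
      rw [div_eq_inv_mul, mul_inv, mul_assoc, mul_left_comm _ (algebraMap (C ⧸ Q) L' a),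
        inv_mul_cancel₀ (mul_ne_zero_iff.mp hr0).2, mul_one]
    rw [heq]
    exact Submodule.smul_mem _ _ (Submodule.subset_span ⟨_, rfl⟩)
  haveI hfd : FiniteDimensional k L' := by
    obtain ⟨κ, a, ha, hsp, hli⟩ := exists_linearIndependent' k (algebraMap (C ⧸ Q) L')
    have hbound : ∀ s : Finset κ, s.card ≤ Module.finrank (FractionRing R) L := by
      intro s
      choose c hc using fun i : s => Ideal.Quotient.mk_surjective (a i.1)
      have h1 : LinearIndependent (R ⧸ P) (fun i : s => algebraMap (C ⧸ Q) L' (a i.1)) :=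
        (LinearIndependent.iff_fractionRing (R ⧸ P) k).mpr (hli.comp _ Subtype.val_injective)
      have h2 : LinearIndependent (R ⧸ P) (fun i : s => Ideal.Quotient.mk Q (c i)) := by
        rw [show (fun i : s => Ideal.Quotient.mk Q (c i)) = fun i => a i.1 from funext hc]
        exact LinearIndependent.of_comp (IsScalarTower.toAlgHom (R ⧸ P) (C ⧸ Q) L').toLinearMap h1
      have h3 := (LinearIndependent.iff_fractionRing R (FractionRing R)).mp (hindep _ c h2)
      simpa using h3.fintype_card_le_finrank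
    haveI : Finite κ := by
      by_contra hinf
      rw [not_finite_iff_infinite] at hinf
      obtain ⟨s, hs⟩ := Infinite.exists_subset_card_eq κ (Module.finrank (FractionRing R) L + 1)
      have := hbound s
      omega
    exact ⟨by rw [← hspan, ← hsp]; exact Submodule.fg_span (Set.finite_range _)⟩
  haveI : Module.Finite (R ⧸ P) (integralClosure (R ⧸ P) L') := h2 L' inferInstance
  haveI : Module.Finite (R ⧸ P) (C ⧸ Q) := by
    let g : (C ⧸ Q) →ₗ[R ⧸ P] integralClosure (R ⧸ P) L' :=
      { toFun := fun z => ⟨algebraMap (C ⧸ Q) L' z,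
          (Algebra.IsIntegral.isIntegral z).map (IsScalarTower.toAlgHom (R ⧸ P) (C ⧸ Q) L')⟩
        map_add' := fun a b => Subtype.ext (map_add _ _ _)
        map_smul' := fun r a => Subtype.ext ((IsScalarTower.toAlgHom (R ⧸ P) (C ⧸ Q) L').toLinearMap.map_smul r a) }
    exact Module.Finite.of_injective g fun a b h => IsFractionRing.injective (C ⧸ Q) L' (congrArg Subtype.val h :)
  haveI : Module.Finite R (C ⧸ Q) := Module.Finite.trans (R ⧸ P) _
  obtain ⟨m, G, hG⟩ := Module.Finite.exists_fin (R := R) (M := C ⧸ Q)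
  choose g hg using fun i => Ideal.Quotient.mk_surjective (G i)
  let T : Submodule R C := Submodule.span R (Set.range fun p : Fin m × Fin q => g p.1 * Y ^ (p.2 : ℕ))
  have hdecomp : ∀ i, i ≤ q → ∀ c : C, ∃ t ∈ T, ∃ d : C, c = t + Y ^ i * d := by
    intro i
    induction i with
    | zero => exact fun _ c => ⟨0, zero_mem _, c, by simp⟩
    | succ i ih =>
      intro hi c
      obtain ⟨t, ht, d, rfl⟩ := ih (Nat.le_of_succ_le hi) c
      obtain ⟨r, hr⟩ := (Submodule.mem_span_range_iff_exists_fun R).mp (hG ▸ Submodule.mem_top : Ideal.Quotient.mk Q d ∈ _)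
      have hd : d - ∑ j, r j • g j ∈ Q := by
        rw [← Ideal.Quotient.eq_zero_iff_mem, map_sub, sub_eq_zero, ← hr, map_sum]
        exact Finset.sum_congr rfl fun j _ => by rw [← hg]; rfl
      obtain ⟨d', hd'⟩ := Ideal.mem_span_singleton'.mp hd
      refine ⟨t + ∑ j, r j • (g j * Y ^ i), add_mem ht (sum_mem fun j _ => T.smul_mem _
        (Submodule.subset_span ⟨(j, ⟨i, Nat.lt_of_succ_le hi⟩), rfl⟩)), d', ?_⟩
      rw [add_assoc, pow_succ, mul_assoc, mul_comm Y d', hd', mul_sub, Finset.mul_sum]
      simp only [Algebra.smul_def, mul_assoc, mul_comm (Y ^ i)]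
      ring
  haveI : IsHausdorff (P.map (algebraMap R C)) C := ⟨fun a ha => hsep a fun n => by
    have := ha n
    rw [SModEq.zero, smul_eq_mul, Ideal.mul_top, Ideal.map_span, Set.image_singleton, Ideal.span_singleton_pow] at this
    exact this⟩
  haveI : Module.Finite R (C ⧸ P.map (algebraMap R C)) := by
    refine ⟨Submodule.fg_def.mpr ⟨(Ideal.Quotient.mkₐ R (P.map (algebraMap R C))) ''
      Set.range (fun p : Fin m × Fin q => g p.1 * Y ^ (p.2 : ℕ)), (Set.finite_range _).image _, eq_top_iff.mpr fun z _ => ?_⟩⟩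
    obtain ⟨c, rfl⟩ := Ideal.Quotient.mk_surjective z
    obtain ⟨t, ht, d, rfl⟩ := hdecomp q le_rfl c
    have hmem : Y ^ q * d ∈ P.map (algebraMap R C) :=
      Ideal.mul_mem_right _ _ (hYq ▸ Ideal.mem_map_of_mem _ (Ideal.mem_span_singleton_self x))
    rw [map_add, Ideal.Quotient.eq_zero_iff_mem.mpr hmem, add_zero, ← AlgHom.coe_toLinearMap, ← Submodule.map_span]
    exact ⟨t, ht, rfl⟩
  exact CplDomain.finite_of_reduction P

/-- Reduction of a finite purely inseparable extension to the key case. -/
theorem finite_of_purelyInseparable (x : R) (hx : x ≠ 0) [hP : (Ideal.span ({x} : Set R)).IsPrime]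
    (h2 : CAlg.IsN2 (R ⧸ Ideal.span ({x} : Set R))) [IsAdicComplete (Ideal.span ({x} : Set R)) R]
    (L : Type u) [Field L] [Algebra R L] [Algebra (FractionRing R) L] [IsScalarTower R (FractionRing R) L]
    [FiniteDimensional (FractionRing R) L] [IsPurelyInseparable (FractionRing R) L] :
    Module.Finite R (integralClosure R L) := by
  classical
  let F := FractionRing R
  obtain ⟨p, hp⟩ := ExpChar.exists F
  let b := Module.finBasis F L
  choose e he using fun i => IsPurelyInseparable.pow_mem F p (b i)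
  let N := Finset.univ.sup e
  have hyb : ∀ i, b i ^ p ^ N ∈ (algebraMap F L).range := fun i => by
    obtain ⟨c, hc⟩ := he i
    obtain ⟨k, hk⟩ := Nat.exists_eq_add_of_le (Finset.le_sup (f := e) (Finset.mem_univ i))
    rw [show N = e i + k from hk, pow_add, pow_mul]
    exact Subring.pow_mem (algebraMap F L).range (⟨c, hc⟩ : b i ^ p ^ e i ∈ (algebraMap F L).range) _
  haveI : ExpChar L p := expChar_of_injective_algebraMap (algebraMap F L).injective p
  have hpowL : ∀ z : L, z ^ p ^ N ∈ (algebraMap F L).range := fun z => by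
    rw [← b.sum_repr z, sum_pow_char_pow]
    refine sum_mem fun i _ => ?_
    rw [Algebra.smul_def, mul_pow, ← map_pow]
    exact mul_mem ⟨_, rfl⟩ (hyb i)
  have hq : 0 < p ^ N := pow_pos (expChar_pos F p) N
  let Ω := AlgebraicClosure L
  obtain ⟨y, hy⟩ := IsAlgClosed.exists_pow_nat_eq (algebraMap R Ω x) hq
  let L' := IntermediateField.adjoin L ({y} : Set Ω)
  haveI : ExpChar Ω p := expChar_of_injective_algebraMap (algebraMap L Ω).injective p
  have hyint : IsIntegral L y := Algebra.IsIntegral.isIntegral y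
  haveI : FiniteDimensional L L' := IntermediateField.adjoin.finiteDimensional hyint
  haveI : FiniteDimensional F L' := Module.Finite.trans L L'
  have hpow : ∀ z : L', z ^ p ^ N ∈ (algebraMap F L').range := by
    intro z
    have hz : (z : Ω) ∈ Algebra.adjoin L ({y} : Set Ω) := by
      rw [← IntermediateField.adjoin_simple_toSubalgebra_of_isAlgebraic hyint.isAlgebraic]
      exact z.2
    obtain ⟨g, hg⟩ := (Algebra.adjoin_singleton_eq_range_aeval L y).le hz
    suffices (z : Ω) ^ p ^ N ∈ (algebraMap F Ω).range by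
      obtain ⟨k, hk⟩ := this
      exact ⟨k, Subtype.ext hk⟩
    rw [← hg]
    show (Polynomial.aeval y g) ^ p ^ N ∈ _
    rw [Polynomial.aeval_eq_sum_range, sum_pow_char_pow]
    refine sum_mem fun i _ => ?_
    rw [Algebra.smul_def, mul_pow, ← map_pow, pow_right_comm, hy, IsScalarTower.algebraMap_apply R F Ω]
    obtain ⟨k, hk⟩ := hpowL (g.coeff i)
    rw [← hk, ← IsScalarTower.algebraMap_apply]
    exact mul_mem ⟨_, rfl⟩ (Subring.pow_mem (algebraMap F Ω).range ⟨_, rfl⟩ _)
  haveI : IsScalarTower R (FractionRing R) L' :=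
    IsScalarTower.of_algebraMap_eq fun r => Subtype.ext (IsScalarTower.algebraMap_apply R F Ω r)
  haveI : Module.Finite R (integralClosure R L') :=
    finite_of_root x hx h2 (p ^ N) hq hpow ⟨y, IntermediateField.mem_adjoin_simple_self L y⟩ (Subtype.ext hy)
  let g : integralClosure R L →ₗ[R] integralClosure R L' :=
    { toFun := fun z => ⟨IsScalarTower.toAlgHom R L L' z.1, z.2.map _⟩
      map_add' := fun a b => Subtype.ext (map_add (IsScalarTower.toAlgHom R L L') a.1 b.1)
      map_smul' := fun c a => Subtype.ext ((IsScalarTower.toAlgHom R L L').toLinearMap.map_smul c a.1) }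
  exact Module.Finite.of_injective g fun a b h =>
    Subtype.ext ((algebraMap L L').injective (congrArg Subtype.val h :))

end Groth.Agent.Tate
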