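import Groth.Agent.Lib.CAlgLow.TateN2
import Groth.Agent.Lib.CAlgLow.PSNormal
import Groth.Agent.Lib.CAlgLow.NagataFT
import Groth.Agent.S4562

/-! # Power series over Japanese domains are Japanese -/

set_option autoImplicit false
universe u

namespace Groth.Agent.Tate

theorem isN2_of_complete {R : Type u} [CommRing R] [IsDomain R] [IsNoetherianRing R] [IsIntegrallyClosed R] (x : R)
    [hP : (Ideal.span ({x} : Set R)).IsPrime] (h2 : CAlg.IsN2 (R ⧸ Ideal.span ({x} : Set R)))
    [IsAdicComplete (Ideal.span ({x} : Set R)) R] : CAlg.IsN2 R := by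
  rcases eq_or_ne x 0 with rfl | hx
  · exact CAlgLow.isN2_of_ringEquiv
      ((Ideal.quotEquivOfEq (Ideal.span_singleton_eq_bot.mpr rfl)).trans (RingEquiv.quotientBot R)) h2
  · exact S4562.result R fun L _ _ _ _ hfin hpi => by
      haveI := hfin
      haveI := hpi
      exact finite_of_purelyInseparable x hx h2 L

theorem isN2_powerSeries_of_normal {R : Type u} [CommRing R] [IsDomain R] [IsNoetherianRing R] [IsIntegrallyClosed R]
    (h : CAlg.IsN2 R) : CAlg.IsN2 (PowerSeries R) := by
  haveI := CAlgLow.isIntegrallyClosed_powerSeries (R := R)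
  haveI : (Ideal.span ({PowerSeries.X} : Set (PowerSeries R))).IsPrime := PowerSeries.span_X_isPrime
  refine isN2_of_complete PowerSeries.X (CAlgLow.isN2_of_ringEquiv (RingEquiv.symm ?_) h)
  exact (Ideal.quotEquivOfEq (show Ideal.span {PowerSeries.X} = RingHom.ker (PowerSeries.constantCoeff (R := R)) from
    Ideal.ext fun f => by rw [Ideal.mem_span_singleton, RingHom.mem_ker, PowerSeries.X_dvd_iff])).trans
    (RingHom.quotientKerEquivOfSurjective (f := PowerSeries.constantCoeff (R := R)) fun r => ⟨PowerSeries.C r, by simp⟩)

/-- The Japanese property descends along finite injective maps. -/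
theorem isN2_descend {A B : Type u} [CommRing A] [IsDomain A] [IsNoetherianRing A] [CommRing B] [IsDomain B]
    [Algebra A B] [Module.Finite A B] (hinj : Function.Injective (algebraMap A B)) (hB : CAlg.IsN2 B) : CAlg.IsN2 A := by
  classical
  intro L _ _ _ _ hfin
  haveI := hfin
  haveI : FaithfulSMul A B := (faithfulSMul_iff_algebraMap_injective _ _).mpr hinj
  let KB := FractionRing B
  let Ω := AlgebraicClosure KB
  letI : Algebra (FractionRing A) KB := FractionRing.liftAlgebra A KB
  haveI : IsScalarTower A (FractionRing A) Ω := IsScalarTower.to₁₂₄ A (FractionRing A) KB Ω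
  haveI : Algebra.IsAlgebraic (FractionRing A) L := Algebra.IsAlgebraic.of_finite _ _
  let ι : L →ₐ[FractionRing A] Ω := IsAlgClosed.lift
  let b := Module.finBasis (FractionRing A) L
  let L' := IntermediateField.adjoin KB (Set.range fun i => ι (b i))
  haveI : FiniteDimensional KB L' := by
    haveI : Finite (Set.range fun i => ι (b i)) := (Set.finite_range _).to_subtype
    exact IntermediateField.finiteDimensional_adjoin fun z _ => Algebra.IsIntegral.isIntegral z
  haveI : IsScalarTower B KB L' := IsScalarTower.of_algebraMap_eq fun z =>
    Subtype.ext (IsScalarTower.algebraMap_apply B KB Ω z)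
  haveI : Module.Finite B (integralClosure B L') := hB L' inferInstance
  let φB : integralClosure B L' →ₗ[B] Ω :=
    { toFun := fun z => ((z : L') : Ω)
      map_add' := fun _ _ => rfl
      map_smul' := fun c z => rfl }
  haveI : Module.Finite B (LinearMap.range φB) := Module.Finite.range φB
  haveI : Module.Finite A (LinearMap.range φB) := Module.Finite.trans B _
  haveI : Module.Finite A ((LinearMap.range φB).restrictScalars A) := ‹Module.Finite A (LinearMap.range φB)›
  have hmem : ∀ z : integralClosure A L, ι z ∈ (LinearMap.range φB).restrictScalars A := by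
    intro z
    have hzL' : ι z ∈ L' := by
      rw [← b.sum_repr (z : L), map_sum]
      refine sum_mem fun i _ => ?_
      rw [map_smul, Algebra.smul_def, IsScalarTower.algebraMap_apply (FractionRing A) KB Ω]
      exact mul_mem (L'.algebraMap_mem _) (IntermediateField.subset_adjoin _ _ ⟨i, rfl⟩)
    have h1 : IsIntegral A (ι z) := (z.2 : IsIntegral A z.1).map (ι.restrictScalars A)
    have h2 : IsIntegral B (⟨ι z, hzL'⟩ : L') :=
      (isIntegral_algHom_iff (L'.val.restrictScalars B) Subtype.val_injective).mp (h1.tower_top (A := B))
    exact ⟨⟨_, h2⟩, rfl⟩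
  exact Module.Finite.of_injective
    (LinearMap.codRestrict ((LinearMap.range φB).restrictScalars A) ((ι.restrictScalars A).toLinearMap ∘ₗ (integralClosure A L).val.toLinearMap) hmem)
    fun a c h => Subtype.ext (ι.toRingHom.injective (congrArg Subtype.val h :))

theorem isN2_of_finite_extension {R D : Type u} [CommRing R] [IsDomain R] [IsNoetherianRing R]
    (hR : CAlg.IsN2 R) [CommRing D] [IsDomain D] [Algebra R D] [Module.Finite R D]
    (hinj : Function.Injective (algebraMap R D)) : CAlg.IsN2 D := by
  intro L _ _ _ _ hfin
  haveI := hfin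
  haveI : FaithfulSMul R D := (faithfulSMul_iff_algebraMap_injective _ _).mpr hinj
  letI : Algebra (FractionRing R) (FractionRing D) := FractionRing.liftAlgebra R (FractionRing D)
  haveI : FiniteDimensional (FractionRing R) (FractionRing D) := Module.Finite.of_isLocalization R D (nonZeroDivisors R)
  letI : Algebra R L := ((algebraMap D L).comp (algebraMap R D)).toAlgebra
  haveI : IsScalarTower R D L := .of_algebraMap_eq fun _ => rfl
  letI : Algebra (FractionRing R) L := ((algebraMap (FractionRing D) L).comp (algebraMap (FractionRing R) (FractionRing D))).toAlgebra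
  haveI : IsScalarTower (FractionRing R) (FractionRing D) L := .of_algebraMap_eq fun _ => rfl
  haveI : IsScalarTower R (FractionRing R) L := .of_algebraMap_eq fun r => by
    show algebraMap D L (algebraMap R D r) = algebraMap (FractionRing D) L (algebraMap (FractionRing R) (FractionRing D) (algebraMap R (FractionRing R) r))
    rw [← IsScalarTower.algebraMap_apply R (FractionRing R) (FractionRing D), IsScalarTower.algebraMap_apply R D (FractionRing D),
      ← IsScalarTower.algebraMap_apply D (FractionRing D) L]
  haveI : FiniteDimensional (FractionRing R) L := Module.Finite.trans (FractionRing D) L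
  haveI : Module.Finite R (integralClosure R L) := hR L inferInstance
  haveI : Algebra.IsIntegral R D := Algebra.IsIntegral.of_finite R D
  let g : integralClosure D L →ₗ[R] integralClosure R L :=
    { toFun := fun z => ⟨z.1, isIntegral_trans _ z.2⟩
      map_add' := fun _ _ => rfl
      map_smul' := fun _ _ => rfl }
  haveI : Module.Finite R (integralClosure D L) :=
    Module.Finite.of_injective g fun a b h => Subtype.ext (congrArg Subtype.val h :)
  exact Module.Finite.of_restrictScalars_finite R D _

theorem isN2_powerSeries {R : Type u} [CommRing R] [IsDomain R] [IsNoetherianRing R] (h : CAlg.IsN2 R) :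
    CAlg.IsN2 (PowerSeries R) := by
  haveI : Module.Finite R (integralClosure R (FractionRing R)) := h (FractionRing R) inferInstance
  let R' := integralClosure R (FractionRing R)
  haveI : IsIntegrallyClosed R' := integralClosure.isIntegrallyClosedOfFiniteExtension (FractionRing R)
  haveI : IsNoetherianRing R' := IsNoetherianRing.of_finite R R'
  have hinj : Function.Injective (algebraMap R R') := fun a b hab =>
    IsFractionRing.injective R (FractionRing R) (congrArg Subtype.val hab)
  have hR' : CAlg.IsN2 R' := isN2_of_finite_extension h hinj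
  letI : Algebra (PowerSeries R) (PowerSeries R') := (PowerSeries.map (algebraMap R R')).toAlgebra
  have hinjP : Function.Injective (algebraMap (PowerSeries R) (PowerSeries R')) := fun a b hab =>
    PowerSeries.ext fun i => hinj (by
      rw [← PowerSeries.coeff_map, ← PowerSeries.coeff_map]; exact congrArg _ hab)
  haveI : Module.Finite (PowerSeries R) (PowerSeries R') := by
    obtain ⟨n, g, hg⟩ := Module.Finite.exists_fin (R := R) (M := R')
    refine Module.Finite.of_surjective (Fintype.linearCombination (PowerSeries R) fun i => PowerSeries.C (g i)) fun f => ?_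
    choose c hc using fun j => (Submodule.mem_span_range_iff_exists_fun R).mp
      (hg ▸ Submodule.mem_top : PowerSeries.coeff j f ∈ _)
    refine ⟨fun i => PowerSeries.mk fun j => c j i, PowerSeries.ext fun j => ?_⟩
    rw [Fintype.linearCombination_apply, map_sum, ← hc j]
    refine Finset.sum_congr rfl fun i _ => ?_
    rw [Algebra.smul_def, PowerSeries.coeff_mul_C]
    show PowerSeries.coeff j (PowerSeries.map (algebraMap R R') _) * g i = _
    rw [PowerSeries.coeff_map, PowerSeries.coeff_mk, Algebra.smul_def]
  exact isN2_descend hinjP (isN2_powerSeries_of_normal hR')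

theorem isN2_mvPowerSeries {A : Type u} [CommRing A] [IsDomain A] [IsNoetherianRing A] [IsIntegrallyClosed A]
    (hA : CAlg.IsN2 A) : ∀ (r : ℕ) [IsDomain (MvPowerSeries (Fin r) A)], CAlg.IsN2 (MvPowerSeries (Fin r) A) := by
  intro r
  induction r with
  | zero =>
    intro _
    let e : MvPowerSeries (Fin 0) A ≃+* A :=
      RingEquiv.ofBijective (MvPowerSeries.constantCoeff (σ := Fin 0) (R := A))
        ⟨fun a b h => MvPowerSeries.ext fun n => by rw [Subsingleton.elim n 0]; exact h, fun a => ⟨MvPowerSeries.C a, by simp⟩⟩
    exact CAlgLow.isN2_of_ringEquiv e.symm hA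
  | succ r ih =>
    intro _
    haveI := (CAlgLow.mvPowerSeries_normal (R := A) r).1
    haveI := (CAlgLow.mvPowerSeries_normal (R := A) r).2
    exact CAlgLow.isN2_of_ringEquiv (MvPowerSeries.finSuccEquiv A r).toRingEquiv.symm (isN2_powerSeries_of_normal ih)

end Groth.Agent.Tate
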