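import Groth.Agent.Lib.CAlgLow.NilLift
import Mathlib.RingTheory.Flat.Basic
import Mathlib.RingTheory.Flat.Stability
import Mathlib.RingTheory.Ideal.Quotient.Operations
import Mathlib.LinearAlgebra.TensorProduct.Tower

/-!
# The local criterion of flatness for nilpotent ideals
-/

set_option autoImplicit false

universe u

open TensorProduct

namespace Groth.Agent.CAlgLow

variable {R : Type u} [CommRing R]

theorem exists_one_tmul (I : Ideal R) {N : Type u} [AddCommGroup N] [Module R N] (z : (R ⧸ I) ⊗[R] N) :
    ∃ x : N, (1 : R ⧸ I) ⊗ₜ[R] x = z := by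
  induction z with
  | zero => exact ⟨0, tmul_zero _ _⟩
  | add a b ha hb =>
    obtain ⟨x, rfl⟩ := ha
    obtain ⟨y, rfl⟩ := hb
    exact ⟨x + y, tmul_add _ _ _⟩
  | tmul c v =>
    obtain ⟨r, rfl⟩ := Ideal.Quotient.mk_surjective c
    exact ⟨r • v, by rw [tmul_smul, smul_tmul', ← Algebra.algebraMap_eq_smul_one]; rfl⟩

section

variable {M F : Type u} [AddCommGroup M] [Module R M] [AddCommGroup F] [Module R F] {π : F →ₗ[R] M}

/-- `Tor₁(N, M) = 0`, in terms of a presentation of `M`. -/
def TorVanish (π : F →ₗ[R] M) (N : Type u) [AddCommGroup N] [Module R N] : Prop :=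
  Function.Injective ((LinearMap.ker π).subtype.lTensor N)

theorem torVanish_extension [Module.Flat R F] {A B C : Type u} [AddCommGroup A] [Module R A] [AddCommGroup B]
    [Module R B] [AddCommGroup C] [Module R C] {i : A →ₗ[R] B} {p : B →ₗ[R] C} (hi : Function.Injective i)
    (hip : Function.Exact i p) (hp : Function.Surjective p) (hA : TorVanish π A) (hC : TorVanish π C) :
    TorVanish π B := by
  rw [TorVanish, injective_iff_map_eq_zero]
  intro x hx
  have h1 : p.rTensor _ x = 0 := hC (by
    rw [map_zero, ← LinearMap.comp_apply, LinearMap.lTensor_comp_rTensor, ← LinearMap.rTensor_comp_lTensor,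
      LinearMap.comp_apply, hx, map_zero])
  obtain ⟨y, rfl⟩ := (rTensor_exact _ hip hp x).1 h1
  have h2 : (LinearMap.ker π).subtype.lTensor A y = 0 := by
    refine Module.Flat.rTensor_preserves_injective_linearMap (M := F) i hi ?_
    rw [map_zero, ← LinearMap.comp_apply, LinearMap.rTensor_comp_lTensor, ← LinearMap.lTensor_comp_rTensor,
      LinearMap.comp_apply, hx]
  rw [hA (a₁ := y) (a₂ := 0) (by rw [h2, map_zero]), map_zero]

theorem rTensor_injective_of_torVanish [Module.Flat R F] (hπ : Function.Surjective π) {A B : Type u}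
    [AddCommGroup A] [Module R A] [AddCommGroup B] [Module R B] {i : A →ₗ[R] B} (hi : Function.Injective i)
    (hC : TorVanish π (B ⧸ LinearMap.range i)) : Function.Injective (i.rTensor M) := by
  rw [injective_iff_map_eq_zero]
  intro z hz
  obtain ⟨y, rfl⟩ := LinearMap.lTensor_surjective A hπ z
  have h1 : π.lTensor B (i.rTensor F y) = 0 := by
    rw [← LinearMap.comp_apply, LinearMap.lTensor_comp_rTensor, ← LinearMap.rTensor_comp_lTensor,
      LinearMap.comp_apply, hz]
  obtain ⟨w, hw⟩ := (lTensor_exact B (LinearMap.exact_subtype_ker_map π) hπ _).1 h1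
  have h2 : (LinearMap.range i).mkQ.rTensor _ w = 0 := hC (by
    rw [map_zero, ← LinearMap.comp_apply, LinearMap.lTensor_comp_rTensor, ← LinearMap.rTensor_comp_lTensor,
      LinearMap.comp_apply, hw, ← LinearMap.rTensor_comp_apply,
      (LinearMap.exact_map_mkQ_range i).linearMap_comp_eq_zero, LinearMap.rTensor_zero, LinearMap.zero_apply])
  obtain ⟨v, rfl⟩ := (rTensor_exact _ (LinearMap.exact_map_mkQ_range i) (Submodule.mkQ_surjective _) w).1 h2
  have h3 : y = (LinearMap.ker π).subtype.lTensor A v := by
    refine Module.Flat.rTensor_preserves_injective_linearMap (M := F) i hi ?_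
    rw [← hw, ← LinearMap.comp_apply, ← LinearMap.comp_apply, LinearMap.rTensor_comp_lTensor,
      LinearMap.lTensor_comp_rTensor]
  rw [h3, ← LinearMap.lTensor_comp_apply, (LinearMap.exact_subtype_ker_map π).linearMap_comp_eq_zero,
    LinearMap.lTensor_zero, LinearMap.zero_apply]

theorem mem_smul_ker_of_tor [Module.Flat R F] (hπ : Function.Surjective π) {I : Ideal R}
    (htor : Function.Injective (I.subtype.rTensor M)) {x : F} (hx : x ∈ LinearMap.ker π)
    (hI : x ∈ I • (⊤ : Submodule R F)) : x ∈ I • LinearMap.ker π := by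
  have key : ∀ z : F, z ∈ I • (⊤ : Submodule R F) → ∃ w : I ⊗[R] F, TensorProduct.lid R F (I.subtype.rTensor F w) = z := by
    intro z hz
    refine Submodule.smul_induction_on hz (fun a ha m _ => ⟨⟨a, ha⟩ ⊗ₜ m, by simp⟩) fun a b ha hb => ?_
    obtain ⟨u, rfl⟩ := ha
    obtain ⟨v, rfl⟩ := hb
    exact ⟨u + v, by simp⟩
  obtain ⟨w, rfl⟩ := key x hI
  have h0 : π.lTensor I w = 0 := htor (by
    rw [map_zero]
    apply (TensorProduct.lid R M).injective
    rw [map_zero, ← LinearMap.comp_apply, LinearMap.rTensor_comp_lTensor, ← LinearMap.lTensor_comp_rTensor,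
      LinearMap.comp_apply]
    have e : ∀ v : R ⊗[R] F, TensorProduct.lid R M (π.lTensor R v) = π (TensorProduct.lid R F v) := fun v => by
      induction v with
      | zero => simp
      | add a b ha hb => simp only [map_add, ha, hb]
      | tmul a b => simp
    rw [e, LinearMap.mem_ker.1 hx])
  obtain ⟨v, rfl⟩ := (lTensor_exact I (LinearMap.exact_subtype_ker_map π) hπ w).1 h0
  clear h0 hx hI
  induction v with
  | zero => simp
  | add a b ha hb => simp only [map_add]; exact add_mem ha hb
  | tmul a k => simpa using Submodule.smul_mem_smul a.2 k.2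

theorem baseChange_ker_injective [Module.Flat R F] (hπ : Function.Surjective π) {I : Ideal R}
    (htor : Function.Injective (I.subtype.rTensor M)) :
    Function.Injective ((LinearMap.ker π).subtype.baseChange (R ⧸ I)) := by
  rw [injective_iff_map_eq_zero]
  intro z hz
  obtain ⟨k, rfl⟩ := exists_one_tmul I z
  rw [LinearMap.baseChange_tmul, one_tmul_eq_zero_iff] at hz
  rw [one_tmul_eq_zero_iff]
  have h := mem_smul_ker_of_tor hπ htor k.2 hz
  obtain ⟨k', hk', e⟩ : k.1 ∈ (I • (⊤ : Submodule R (LinearMap.ker π))).map (LinearMap.ker π).subtype := by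
    rwa [Submodule.map_smul'', Submodule.map_subtype_top]
  rwa [Subtype.ext e] at hk'

theorem torVanish_of_smul_eq_bot [Module.Flat R F] (hπ : Function.Surjective π) {I : Ideal R}
    (htor : Function.Injective (I.subtype.rTensor M)) [Module.Flat (R ⧸ I) ((R ⧸ I) ⊗[R] M)]
    (N : Type u) [AddCommGroup N] [Module R N] (hN : Module.IsTorsionBySet R N I) : TorVanish π N := by
  let _ := hN.module
  have : IsScalarTower R (R ⧸ I) N := IsScalarTower.of_algebraMap_smul fun _ _ => rfl
  have hui := lTensor_injective_of_ui (ui_of_flat_coker (f := (LinearMap.ker π).subtype.baseChange (R ⧸ I))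
    (g := π.baseChange (R ⧸ I)) (baseChange_ker_injective hπ htor)
    (lTensor_exact (R ⧸ I) (LinearMap.exact_subtype_ker_map π) hπ) (LinearMap.lTensor_surjective _ hπ)) N
  let c := AlgebraTensorModule.cancelBaseChange R (R ⧸ I) (R ⧸ I) N (LinearMap.ker π)
  let c' := AlgebraTensorModule.cancelBaseChange R (R ⧸ I) (R ⧸ I) N F
  have e : ∀ z, (LinearMap.ker π).subtype.lTensor N (c z) =
      c' (((LinearMap.ker π).subtype.baseChange (R ⧸ I)).lTensor N z) := by
    intro z
    induction z with
    | zero => simp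
    | add a b ha hb => simp only [map_add, ha, hb]
    | tmul n w =>
      induction w with
      | zero => simp
      | add a b ha hb => simp only [tmul_add, map_add, ha, hb]
      | tmul r k => simp [c, c']
  intro a b hab
  obtain ⟨a, rfl⟩ := c.surjective a
  obtain ⟨b, rfl⟩ := c.surjective b
  rw [e, e] at hab
  rw [hui (c'.injective hab)]

theorem torVanish_of_pow_smul [Module.Flat R F] (hπ : Function.Surjective π) {I : Ideal R}
    (htor : Function.Injective (I.subtype.rTensor M)) [Module.Flat (R ⧸ I) ((R ⧸ I) ⊗[R] M)] (n : ℕ) :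
    ∀ (N : Type u) [AddCommGroup N] [Module R N], Module.IsTorsionBySet R N (I ^ n : Ideal R) → TorVanish π N := by
  induction n with
  | zero =>
    intro N _ _ hN
    refine torVanish_of_smul_eq_bot hπ htor N fun x a => ?_
    exact @hN x ⟨a.1, by simp⟩
  | succ n ih =>
    intro N _ _ hN
    let A : Submodule R N := I • ⊤
    refine torVanish_extension (i := A.subtype) (p := A.mkQ) A.injective_subtype (LinearMap.exact_subtype_mkQ A)
      A.mkQ_surjective (ih A fun x a => ?_) (torVanish_of_smul_eq_bot hπ htor _ (fun x a => ?_))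
    · refine Subtype.ext ?_
      change a.1 • x.1 = 0
      have hle : (I ^ n) • A ≤ (⊥ : Submodule R N) := by
        rw [← Submodule.mul_smul, ← pow_succ, Submodule.smul_le]
        exact fun r hr m _ => (Submodule.mem_bot R).2 (@hN m ⟨r, hr⟩)
      exact (Submodule.mem_bot R).1 (hle (Submodule.smul_mem_smul a.2 x.2))
    · obtain ⟨y, rfl⟩ := A.mkQ_surjective x
      exact (Submodule.Quotient.mk_eq_zero A).2 (Submodule.smul_mem_smul a.2 Submodule.mem_top)

end

/-- `M / I^n M` is flat over `R / I^n` if `M / IM` is flat over `R / I` and `Tor₁(R/I, M) = 0`. -/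
theorem flat_mod_pow {M : Type u} [AddCommGroup M] [Module R M] {I : Ideal R}
    (htor : Function.Injective (I.subtype.rTensor M)) [Module.Flat (R ⧸ I) ((R ⧸ I) ⊗[R] M)] (n : ℕ) :
    Module.Flat (R ⧸ I ^ n) ((R ⧸ I ^ n) ⊗[R] M) := by
  classical
  let π : (M →₀ R) →ₗ[R] M := Finsupp.linearCombination R id
  have hπ : Function.Surjective π := Finsupp.linearCombination_id_surjective R M
  refine Module.Flat.iff_rTensor_injective'.2 fun J => ?_
  have hinj : Function.Injective ((J.subtype.restrictScalars R).rTensor M) := by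
    refine rTensor_injective_of_torVanish hπ (i := J.subtype.restrictScalars R) J.injective_subtype
      (torVanish_of_pow_smul hπ htor n _ fun x a => ?_)
    obtain ⟨y, rfl⟩ := Submodule.mkQ_surjective _ x
    change Submodule.Quotient.mk ((a : R) • y) = 0
    rw [Algebra.smul_def, show algebraMap R (R ⧸ I ^ n) (a : R) = 0 from Ideal.Quotient.eq_zero_iff_mem.2 a.2, zero_mul]
    rfl
  let c := AlgebraTensorModule.cancelBaseChange R (R ⧸ I ^ n) (R ⧸ I ^ n) J M
  let c' := AlgebraTensorModule.cancelBaseChange R (R ⧸ I ^ n) (R ⧸ I ^ n) (R ⧸ I ^ n) M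
  have e : ∀ z, (J.subtype.restrictScalars R).rTensor M (c z) = c' (J.subtype.rTensor ((R ⧸ I ^ n) ⊗[R] M) z) := by
    intro z
    induction z with
    | zero => simp
    | add a b ha hb => simp only [map_add, ha, hb]
    | tmul r w =>
      induction w with
      | zero => simp
      | add a b ha hb => simp only [tmul_add, map_add, ha, hb]
      | tmul s m => simp [c, c']
  intro a b hab
  exact c.injective (hinj (by rw [e, e, hab]))

theorem flat_of_flat_mod_nilpotent {M : Type u} [AddCommGroup M] [Module R M] {I : Ideal R} (hI : IsNilpotent I)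
    (htor : Function.Injective (I.subtype.rTensor M)) [Module.Flat (R ⧸ I) ((R ⧸ I) ⊗[R] M)] :
    Module.Flat R M := by
  classical
  obtain ⟨n, hn⟩ := hI
  let π : (M →₀ R) →ₗ[R] M := Finsupp.linearCombination R id
  have hπ : Function.Surjective π := Finsupp.linearCombination_id_surjective R M
  refine Module.Flat.iff_rTensor_injective'.2 fun J => ?_
  refine rTensor_injective_of_torVanish hπ J.injective_subtype (torVanish_of_pow_smul hπ htor n _ fun x a => ?_)
  have ha : (a : R) = 0 := by
    have := a.2
    simp only [hn] at this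
    simpa using this
  rw [ha, zero_smul]

/-- The basis criterion with vanishing `Tor₁`. -/
theorem bijective_of_bijective_baseChange_tor {M P : Type u} [AddCommGroup M] [Module R M] [AddCommGroup P]
    [Module R P] [Module.Flat R P] {I : Ideal R} (hI : IsNilpotent I) (htor : Function.Injective (I.subtype.rTensor M))
    (f : P →ₗ[R] M) (hf : Function.Bijective (f.baseChange (R ⧸ I))) : Function.Bijective f := by
  have hs : Function.Surjective f := by
    rw [← LinearMap.range_eq_top]
    have hQ : (⊤ : Submodule R (M ⧸ LinearMap.range f)) = ⊥ := by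
      refine eq_bot_of_le_smul hI _ fun x _ => ?_
      obtain ⟨m, rfl⟩ := Submodule.mkQ_surjective _ x
      obtain ⟨z, hz⟩ := hf.2 ((1 : R ⧸ I) ⊗ₜ m)
      rw [← one_tmul_eq_zero_iff]
      have h2 := congrArg ((LinearMap.range f).mkQ.baseChange (R ⧸ I)) hz
      rw [LinearMap.baseChange_tmul, ← LinearMap.comp_apply, ← LinearMap.baseChange_comp,
        (LinearMap.exact_map_mkQ_range f).linearMap_comp_eq_zero, LinearMap.baseChange_zero, LinearMap.zero_apply] at h2
      exact h2.symm
    refine le_antisymm le_top fun m _ => (Submodule.Quotient.mk_eq_zero _).1 ?_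
    exact (Submodule.mem_bot R).1 (hQ ▸ Submodule.mem_top)
  refine ⟨LinearMap.ker_eq_bot.1 (eq_bot_of_le_smul hI _ fun x hx => mem_smul_ker_of_tor hs htor hx ?_), hs⟩
  rw [← one_tmul_eq_zero_iff]
  exact hf.1 (by rw [map_zero, LinearMap.baseChange_tmul, LinearMap.mem_ker.1 hx, tmul_zero])

/-- The square-zero step. -/
theorem flat_of_injective_square_zero {R' : Type u} [CommRing R'] [Algebra R R']
    (hinj : Function.Injective (algebraMap R R')) {I : Ideal R} (hsq : I * I = ⊥) (M : Type u) [AddCommGroup M]
    [Module R M] [Module.Flat (R ⧸ I) ((R ⧸ I) ⊗[R] M)] [Module.Flat R' (R' ⊗[R] M)] : Module.Flat R M := by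
  refine flat_of_flat_mod_nilpotent (I := I) ⟨2, by rw [pow_two, hsq]; rfl⟩ ?_
  let J : Ideal R' := I.map (algebraMap R R')
  let i : I →ₗ[R] J := LinearMap.codRestrict (J.restrictScalars R) (Algebra.linearMap R R' ∘ₗ I.subtype)
    fun a => Ideal.mem_map_of_mem _ a.2
  have hi : Function.Injective i := fun a b hab => Subtype.ext (hinj (congrArg Subtype.val hab))
  have hIt : Module.IsTorsionBySet R I I := fun x a =>
    Subtype.ext ((Submodule.mem_bot R).1 (hsq ▸ Ideal.mul_mem_mul a.2 x.2))
  have hJt : Module.IsTorsionBySet R J I := fun x a => Subtype.ext (by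
    change (a : R) • (x : R') = 0
    rw [Algebra.smul_def]
    have := Ideal.mul_mem_mul (Ideal.mem_map_of_mem (algebraMap R R') a.2) x.2
    rwa [← Ideal.map_mul, hsq, Ideal.map_bot, Ideal.mem_bot] at this)
  let _ := hIt.module
  let _ := hJt.module
  have : IsScalarTower R (R ⧸ I) I := IsScalarTower.of_algebraMap_smul fun _ _ => rfl
  have : IsScalarTower R (R ⧸ I) J := IsScalarTower.of_algebraMap_smul fun _ _ => rfl
  let i' : I →ₗ[R ⧸ I] J := i.extendScalarsOfSurjective Ideal.Quotient.mk_surjective
  let c := AlgebraTensorModule.cancelBaseChange R (R ⧸ I) (R ⧸ I) I M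
  let c' := AlgebraTensorModule.cancelBaseChange R (R ⧸ I) (R ⧸ I) J M
  have h1 : Function.Injective (i.rTensor M) := by
    have e : ∀ z, i.rTensor M (c z) = c' (i'.rTensor ((R ⧸ I) ⊗[R] M) z) := by
      intro z
      induction z with
      | zero => simp
      | add a b ha hb => simp only [map_add, ha, hb]
      | tmul r w =>
        induction w with
        | zero => simp
        | add a b ha hb => simp only [tmul_add, map_add, ha, hb]
        | tmul s m =>
          obtain ⟨s, rfl⟩ := Ideal.Quotient.mk_surjective s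
          simp [c, c', i']
    intro a b hab
    obtain ⟨a, rfl⟩ := c.surjective a
    obtain ⟨b, rfl⟩ := c.surjective b
    rw [e, e] at hab
    rw [Module.Flat.rTensor_preserves_injective_linearMap i' hi (c'.injective hab)]
  let d := AlgebraTensorModule.cancelBaseChange R R' R' J M
  let d' := AlgebraTensorModule.cancelBaseChange R R' R' R' M
  have h2 : Function.Injective ((J.subtype.restrictScalars R).rTensor M) := by
    have e : ∀ z, (J.subtype.restrictScalars R).rTensor M (d z) = d' (J.subtype.rTensor (R' ⊗[R] M) z) := by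
      intro z
      induction z with
      | zero => simp
      | add a b ha hb => simp only [map_add, ha, hb]
      | tmul r w =>
        induction w with
        | zero => simp
        | add a b ha hb => simp only [tmul_add, map_add, ha, hb]
        | tmul s m => simp [d, d']
    intro a b hab
    obtain ⟨a, rfl⟩ := d.surjective a
    obtain ⟨b, rfl⟩ := d.surjective b
    rw [e, e] at hab
    rw [Module.Flat.rTensor_preserves_injective_linearMap J.subtype J.injective_subtype (d'.injective hab)]
  intro a b hab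
  refine h1 (h2 ?_)
  rw [← LinearMap.rTensor_comp_apply, ← LinearMap.rTensor_comp_apply,
    show (J.subtype.restrictScalars R) ∘ₗ i = Algebra.linearMap R R' ∘ₗ I.subtype from rfl,
    LinearMap.rTensor_comp_apply, LinearMap.rTensor_comp_apply, hab]

/-- The step from `I` to the contraction of `I² R'`. -/
theorem flat_mod_comap_sq (R' : Type u) [CommRing R'] [Algebra R R'] (I : Ideal R) (M : Type u) [AddCommGroup M]
    [Module R M] [Module.Flat (R ⧸ I) ((R ⧸ I) ⊗[R] M)] [Module.Flat R' (R' ⊗[R] M)] :
    Module.Flat (R ⧸ ((I ^ 2).map (algebraMap R R')).comap (algebraMap R R'))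
      ((R ⧸ ((I ^ 2).map (algebraMap R R')).comap (algebraMap R R')) ⊗[R] M) := by
  let J' : Ideal R' := (I ^ 2).map (algebraMap R R')
  let I₂ : Ideal R := J'.comap (algebraMap R R')
  let A := R ⧸ I₂
  let A' := R' ⧸ J'
  let _ : Algebra A A' := (Ideal.quotientMap J' (algebraMap R R') le_rfl).toAlgebra
  have : IsScalarTower R A A' := IsScalarTower.of_algebraMap_eq fun r => rfl
  let Ib : Ideal A := I.map (algebraMap R A)
  have hsq : Ib * Ib = ⊥ := by
    rw [← Ideal.map_mul, Ideal.map_eq_bot_iff_le_ker, Ideal.Quotient.algebraMap_eq, Ideal.mk_ker, ← pow_two]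
    exact Ideal.le_comap_map
  let f : R ⧸ I →+* A ⧸ Ib := Ideal.quotientMap Ib (algebraMap R A) Ideal.le_comap_map
  let _ : Algebra (R ⧸ I) (A ⧸ Ib) := f.toAlgebra
  have : IsScalarTower R (R ⧸ I) (A ⧸ Ib) := IsScalarTower.of_algebraMap_eq fun r => rfl
  have h1 : Module.Flat (A ⧸ Ib) ((A ⧸ Ib) ⊗[A] (A ⊗[R] M)) :=
    Module.Flat.of_linearEquiv ((AlgebraTensorModule.cancelBaseChange R A (A ⧸ Ib) (A ⧸ Ib) M).trans
      (AlgebraTensorModule.cancelBaseChange R (R ⧸ I) (A ⧸ Ib) (A ⧸ Ib) M).symm)
  have h2 : Module.Flat A' (A' ⊗[A] (A ⊗[R] M)) :=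
    Module.Flat.of_linearEquiv ((AlgebraTensorModule.cancelBaseChange R A A' A' M).trans
      (AlgebraTensorModule.cancelBaseChange R R' A' A' M).symm)
  exact flat_of_injective_square_zero (R' := A') Ideal.quotientMap_injective hsq (A ⊗[R] M)

theorem flat_of_flat_mod_of_injective (R' : Type u) [CommRing R'] [Algebra R R']
    (hinj : Function.Injective (algebraMap R R')) (I : Ideal R) (hI : IsNilpotent I) (M : Type u) [AddCommGroup M]
    [Module R M] [Module.Flat (R ⧸ I) ((R ⧸ I) ⊗[R] M)] [Module.Flat R' (R' ⊗[R] M)] : Module.Flat R M := by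
  have key : ∀ k : ℕ, ∃ J : Ideal R, J.map (algebraMap R R') ≤ (I ^ 2 ^ k).map (algebraMap R R') ∧
      Module.Flat (R ⧸ J) ((R ⧸ J) ⊗[R] M) := by
    intro k
    induction k with
    | zero => exact ⟨I, by simp, inferInstance⟩
    | succ k ih =>
      obtain ⟨J, hJ, hflat⟩ := ih
      refine ⟨_, ?_, flat_mod_comap_sq R' J M⟩
      refine Ideal.map_comap_le.trans ?_
      rw [Ideal.map_pow, show (2 : ℕ) ^ (k + 1) = 2 ^ k * 2 from pow_succ _ _, pow_mul, Ideal.map_pow]
      exact Ideal.pow_right_mono hJ 2
  obtain ⟨n, hn⟩ := hI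
  obtain ⟨J, hJ, hflat⟩ := key n
  have h0 : I ^ 2 ^ n = ⊥ := by
    have : I ^ 2 ^ n ≤ I ^ n := Ideal.pow_le_pow_right (Nat.lt_two_pow_self).le
    rw [hn] at this
    exact le_bot_iff.1 this
  rw [h0, Ideal.map_bot, le_bot_iff, Ideal.map_eq_bot_iff_le_ker, (RingHom.injective_iff_ker_eq_bot _).1 hinj,
    le_bot_iff] at hJ
  subst hJ
  have htor : Function.Injective ((⊥ : Ideal R).subtype.rTensor M) := by
    have : Subsingleton ((⊥ : Ideal R) ⊗[R] M) := inferInstance
    exact Function.injective_of_subsingleton _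
  exact flat_of_flat_mod_nilpotent (I := ⊥) ⟨1, pow_one _⟩ htor

end Groth.Agent.CAlgLow
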