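import Groth.Agent.Lib.CAlgLow.ML
import Mathlib.LinearAlgebra.TensorProduct.DirectLimit
import Mathlib.LinearAlgebra.TensorProduct.Prod
import Mathlib.Algebra.Colimit.Module
import Mathlib.Algebra.Module.Projective

/-!
# Universally injective maps
-/

set_option autoImplicit false

universe u

open TensorProduct

namespace Groth.Agent.CAlgLow

variable {R : Type u} [CommRing R]
variable {M N P : Type u} [AddCommGroup M] [Module R M] [AddCommGroup N] [Module R N]
  [AddCommGroup P] [Module R P]

theorem lTensor_injective_of_ui {f : M →ₗ[R] N} (hf : CAlgX.UniversallyInjective R f)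
    (Q : Type u) [AddCommGroup Q] [Module R Q] : Function.Injective (f.lTensor Q) :=
  (LinearMap.lTensor_inj_iff_rTensor_inj Q f).2 (hf Q)

theorem flat_left_of_ui {f : M →ₗ[R] N} (hf : CAlgX.UniversallyInjective R f) [Module.Flat R N] :
    Module.Flat R M := by
  refine Module.Flat.iff_lTensor_injective'.2 fun I a b hab => hf I ?_
  refine Module.Flat.lTensor_preserves_injective_linearMap (M := N) I.subtype I.injective_subtype ?_
  have key : ∀ z, I.subtype.lTensor N (f.rTensor I z) = f.rTensor R (I.subtype.lTensor M z) := fun z => by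
    rw [← LinearMap.comp_apply, ← LinearMap.comp_apply, LinearMap.lTensor_comp_rTensor, LinearMap.rTensor_comp_lTensor]
  rw [key, key, hab]

theorem flat_right_of_injective_quotient {f : M →ₗ[R] N} {g : N →ₗ[R] P}
    (hf : ∀ I : Ideal R, I.FG → Function.Injective (f.rTensor (R ⧸ I)))
    (hfg : Function.Exact f g) (hg : Function.Surjective g) [Module.Flat R N] : Module.Flat R P := by
  refine Module.Flat.iff_lTensor_injective.2 fun I hIfg => ?_
  rw [injective_iff_map_eq_zero]
  intro x hx
  obtain ⟨y, rfl⟩ := LinearMap.rTensor_surjective I hg x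
  have h1 : g.rTensor R (I.subtype.lTensor N y) = 0 := by
    rw [← hx, ← LinearMap.comp_apply, ← LinearMap.comp_apply, LinearMap.rTensor_comp_lTensor,
      LinearMap.lTensor_comp_rTensor]
  obtain ⟨m, hm⟩ := (rTensor_exact R hfg hg _).1 h1
  have hI : Function.Exact I.subtype I.mkQ := LinearMap.exact_subtype_mkQ I
  obtain ⟨z, rfl⟩ := (lTensor_exact M hI I.mkQ_surjective m).1 (hf I hIfg (by
    rw [map_zero, ← LinearMap.comp_apply, LinearMap.rTensor_comp_lTensor, ← LinearMap.lTensor_comp_rTensor,
      LinearMap.comp_apply, hm, ← LinearMap.lTensor_comp_apply, hI.linearMap_comp_eq_zero,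
      LinearMap.lTensor_zero, LinearMap.zero_apply]))
  have hy : y = f.rTensor I z := by
    refine Module.Flat.lTensor_preserves_injective_linearMap (M := N) I.subtype I.injective_subtype ?_
    rw [← hm, ← LinearMap.comp_apply, ← LinearMap.comp_apply, LinearMap.rTensor_comp_lTensor,
      LinearMap.lTensor_comp_rTensor]
  rw [hy, ← LinearMap.rTensor_comp_apply, hfg.linearMap_comp_eq_zero, LinearMap.rTensor_zero, LinearMap.zero_apply]

theorem flat_right_of_ui {f : M →ₗ[R] N} {g : N →ₗ[R] P} (hf : CAlgX.UniversallyInjective R f)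
    (hfg : Function.Exact f g) (hg : Function.Surjective g) [Module.Flat R N] : Module.Flat R P :=
  flat_right_of_injective_quotient (fun I _ => hf (R ⧸ I)) hfg hg

theorem rTensor_injective_of_flat_coker {f : M →ₗ[R] N} {g : N →ₗ[R] P} (hfi : Function.Injective f)
    (hfg : Function.Exact f g) (hg : Function.Surjective g) [Module.Flat R P]
    {F Q : Type u} [AddCommGroup F] [Module R F] [Module.Flat R F] [AddCommGroup Q] [Module R Q]
    (q : F →ₗ[R] Q) (hq : Function.Surjective q) : Function.Injective (f.rTensor Q) := by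
  rw [injective_iff_map_eq_zero]
  intro x hx
  set j := (LinearMap.ker q).subtype
  have hjq : Function.Exact j q := LinearMap.exact_subtype_ker_map q
  obtain ⟨w, rfl⟩ := LinearMap.lTensor_surjective M hq x
  have h1 : q.lTensor N (f.rTensor F w) = 0 := by
    rw [← hx, ← LinearMap.comp_apply, ← LinearMap.comp_apply, LinearMap.lTensor_comp_rTensor,
      LinearMap.rTensor_comp_lTensor]
  obtain ⟨u, hu⟩ := (lTensor_exact N hjq hq _).1 h1
  have h2 : g.rTensor (LinearMap.ker q) u = 0 := by
    refine Module.Flat.lTensor_preserves_injective_linearMap (M := P) j Subtype.val_injective ?_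
    rw [map_zero, ← LinearMap.comp_apply, LinearMap.lTensor_comp_rTensor, ← LinearMap.rTensor_comp_lTensor,
      LinearMap.comp_apply, hu, ← LinearMap.rTensor_comp_apply, hfg.linearMap_comp_eq_zero,
      LinearMap.rTensor_zero, LinearMap.zero_apply]
  obtain ⟨v, rfl⟩ := (rTensor_exact (LinearMap.ker q) hfg hg _).1 h2
  have h3 : w = j.lTensor M v := by
    refine Module.Flat.rTensor_preserves_injective_linearMap (M := F) f hfi ?_
    rw [← hu, ← LinearMap.comp_apply, ← LinearMap.comp_apply, LinearMap.rTensor_comp_lTensor,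
      LinearMap.lTensor_comp_rTensor]
  rw [h3, ← LinearMap.lTensor_comp_apply, hjq.linearMap_comp_eq_zero, LinearMap.lTensor_zero, LinearMap.zero_apply]

theorem ui_of_flat_coker {f : M →ₗ[R] N} {g : N →ₗ[R] P} (hfi : Function.Injective f)
    (hfg : Function.Exact f g) (hg : Function.Surjective g) [Module.Flat R P] :
    CAlgX.UniversallyInjective R f := fun Q _ _ =>
  rTensor_injective_of_flat_coker hfi hfg hg _ (Finsupp.linearCombination_id_surjective R Q)

/-- Domination of `f` by `g` is universal injectivity of the pushout of `f` along `g`. -/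
theorem dominates_iff_ui {M' : Type u} [AddCommGroup M'] [Module R M'] (f : M →ₗ[R] N) (g : M →ₗ[R] M') :
    (∀ (Q : Type u) [AddCommGroup Q] [Module R Q], LinearMap.ker (f.rTensor Q) ≤ LinearMap.ker (g.rTensor Q)) ↔
      CAlgX.UniversallyInjective R
        ((LinearMap.range (g.prod (-f))).mkQ ∘ₗ LinearMap.inl R M' N) := by
  refine forall_congr' fun Q => forall_congr' fun _ => forall_congr' fun _ => ?_
  set l := g.prod (-f)
  have hex : Function.Exact (l.rTensor Q) ((LinearMap.range l).mkQ.rTensor Q) :=
    rTensor_exact Q (LinearMap.exact_map_mkQ_range l) (LinearMap.range l).mkQ_surjective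
  have hl : ∀ x, TensorProduct.prodLeft R R M' N Q (l.rTensor Q x) = (g.rTensor Q x, -f.rTensor Q x) := by
    intro x
    induction x with
    | zero => simp only [map_zero, neg_zero]; rfl
    | add a b ha hb => rw [map_add, map_add, ha, hb, map_add, map_add, neg_add]; rfl
    | tmul m q => simp [l, TensorProduct.neg_tmul]
  have hi : ∀ z, TensorProduct.prodLeft R R M' N Q ((LinearMap.inl R M' N).rTensor Q z) = (z, 0) := by
    intro z
    induction z with
    | zero => simp only [map_zero]; rfl
    | add a b ha hb => rw [map_add, map_add, ha, hb, Prod.mk_add_mk, add_zero]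
    | tmul m q => simp
  constructor
  · intro h
    rw [injective_iff_map_eq_zero]
    intro z hz
    rw [LinearMap.rTensor_comp_apply] at hz
    obtain ⟨x, hx⟩ := (hex _).1 hz
    have h2 := congrArg (TensorProduct.prodLeft R R M' N Q) hx
    rw [hl, hi, Prod.mk.injEq, neg_eq_zero] at h2
    exact h2.1.symm.trans (h h2.2)
  · intro h x hx
    refine h ?_
    rw [map_zero, LinearMap.rTensor_comp_apply]
    refine (hex _).2 ⟨x, (TensorProduct.prodLeft R R M' N Q).injective ?_⟩
    rw [hl, hi, LinearMap.mem_ker.1 hx, neg_zero]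

theorem ui_directLimit_of {ι : Type u} [Preorder ι] [IsDirected ι (· ≤ ·)] [DecidableEq ι] (G : ι → Type u)
    [∀ i, AddCommGroup (G i)] [∀ i, Module R (G i)] (f : ∀ i j, i ≤ j → G i →ₗ[R] G j)
    [DirectedSystem G fun i j h => f i j h]
    (hf : ∀ i j (h : i ≤ j), CAlgX.UniversallyInjective R (f i j h)) (i : ι) :
    CAlgX.UniversallyInjective R (Module.DirectLimit.of R ι G f i) := by
  intro Q _ _
  rw [injective_iff_map_eq_zero]
  intro x hx
  have h : Module.DirectLimit.of R ι (fun i => G i ⊗[R] Q) (fun i j h => (f i j h).rTensor Q) i x = 0 := by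
    rw [← TensorProduct.directLimitLeft_rTensor_of f Q x, hx, map_zero]
  obtain ⟨j, hij, hj⟩ := Module.DirectLimit.of.zero_exact h
  exact (hf i j hij Q) (hj.trans (map_zero _).symm)

theorem isMittagLeffler_directLimit {ι : Type u} [Preorder ι] [IsDirected ι (· ≤ ·)] [DecidableEq ι] (G : ι → Type u)
    [∀ i, AddCommGroup (G i)] [∀ i, Module R (G i)] (f : ∀ i j, i ≤ j → G i →ₗ[R] G j)
    [DirectedSystem G fun i j h => f i j h]
    (hf : ∀ i j (h : i ≤ j), CAlgX.UniversallyInjective R (f i j h))
    (hG : ∀ i, CAlg.IsMittagLeffler R (G i)) : CAlg.IsMittagLeffler R (Module.DirectLimit G f) := by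
  intro κ Q _ _
  rw [injective_iff_map_eq_zero]
  intro x hx
  cases isEmpty_or_nonempty ι
  · have : Subsingleton (Module.DirectLimit G f) :=
      ⟨fun a b => by rw [Subsingleton.elim a 0, Subsingleton.elim b 0]⟩
    exact Subsingleton.elim _ _
  obtain ⟨i, y, hy⟩ := Module.DirectLimit.exists_of (TensorProduct.directLimitLeft f (∀ k, Q k) x)
  have hx' : x = (Module.DirectLimit.of R ι G f i).rTensor (∀ k, Q k) y := by
    apply (TensorProduct.directLimitLeft f (∀ k, Q k)).injective
    rw [TensorProduct.directLimitLeft_rTensor_of, hy]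
  subst hx'
  have hy0 : y = 0 := hG i κ Q ((funext fun k => ui_directLimit_of G f hf i (Q k) (by
    rw [← piRightHom_rTensor, hx, Pi.zero_apply, Pi.zero_apply, map_zero])).trans (map_zero _).symm)
  rw [hy0, map_zero]

end Groth.Agent.CAlgLow
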