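import Groth.Agent.Lib.CAlgLow.N1Span
import Groth.Agent.S9394
import Mathlib.RingTheory.EssentialFiniteness
import Mathlib.RingTheory.DedekindDomain.IntegralClosure
import Mathlib.RingTheory.Adjoin.FG
import Mathlib.RingTheory.Localization.Away.AdjoinRoot

/-!
# Universally Japanese rings
-/

set_option autoImplicit false

universe u

namespace Groth.Agent.CAlgLow

theorem isN2_of_essFiniteType {R S : Type u} [CommRing R] (hR : CAlg.IsUniversallyJapanese R)
    [CommRing S] [IsDomain S] [Algebra R S] [Algebra.EssFiniteType R S] : CAlg.IsN2 S :=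
  isN2_of_isLocalization (Algebra.EssFiniteType.submonoid R S)
    (hR (Algebra.EssFiniteType.subalgebra R S) inferInstance)

theorem isUniversallyJapanese_of_forall_isN1 (R : Type u) [CommRing R]
    (h : ∀ (S : Type u) [CommRing S] [IsDomain S] [Algebra R S], Algebra.FiniteType R S → CAlg.IsN1 S) :
    CAlg.IsUniversallyJapanese R := by
  intro S _ _ _ hS L _ _ _ _ hfd
  obtain ⟨s, b, hb⟩ := FiniteDimensional.exists_is_basis_integral S (FractionRing S) L
  let S' : Subalgebra S L := Algebra.adjoin S (Set.range b)
  have : Module.Finite S S' := Module.Finite.iff_fg.2 (fg_adjoin_of_finite (Set.finite_range b) (by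
    rintro _ ⟨x, rfl⟩; exact hb x))
  let _ : Algebra R S' := ((algebraMap S S').comp (algebraMap R S)).toAlgebra
  have : IsScalarTower R S S' := IsScalarTower.of_algebraMap_eq fun _ => rfl
  have : Algebra.FiniteType R S' := Algebra.FiniteType.trans (S := S) hS inferInstance
  have hinj : Function.Injective (algebraMap S L) := by
    rw [IsScalarTower.algebraMap_eq S (FractionRing S) L]
    exact (algebraMap (FractionRing S) L).injective.comp (IsFractionRing.injective S (FractionRing S))
  have hfrac : IsFractionRing S' L := by
    refine ⟨fun y => ?_, fun z => ?_, fun {x y} e => ⟨1, by rw [Subtype.ext e]⟩⟩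
    · exact IsUnit.mk0 _ fun h0 => nonZeroDivisors.ne_zero y.2 (Subtype.ext h0)
    · have hz : z ∈ Submodule.span (FractionRing S) (Set.range b) := b.span_eq ▸ Submodule.mem_top
      obtain ⟨⟨c, hc⟩, hmem⟩ : ∃ c : nonZeroDivisors S, (c : S) • z ∈ S' := by
        induction hz using Submodule.span_induction with
        | mem y hy => exact ⟨1, by simpa using Algebra.subset_adjoin hy⟩
        | zero => exact ⟨1, by simp⟩
        | add a a' _ _ ha ha' =>
          obtain ⟨p, hp⟩ := ha
          obtain ⟨q, hq⟩ := ha'
          refine ⟨p * q, ?_⟩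
          rw [smul_add, Submonoid.coe_mul]
          refine add_mem ?_ ?_
          · rw [mul_comm, ← smul_smul]
            exact Subalgebra.smul_mem _ hp _
          · rw [← smul_smul]
            exact Subalgebra.smul_mem _ hq _
        | smul c a _ ha =>
          obtain ⟨p, hp⟩ := ha
          obtain ⟨⟨r, q⟩, hr⟩ := IsLocalization.surj (nonZeroDivisors S) c
          refine ⟨q * p, ?_⟩
          have e : (q : S) • c • a = r • a := by
            rw [← algebraMap_smul (FractionRing S) (q : S), smul_smul, mul_comm, hr, algebraMap_smul]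
          rw [Submonoid.coe_mul, mul_comm, ← smul_smul, e, smul_comm]
          exact Subalgebra.smul_mem _ hp _
      refine ⟨⟨⟨c • z, hmem⟩, ⟨algebraMap S S' c, mem_nonZeroDivisors_of_ne_zero fun h0 => ?_⟩⟩, ?_⟩
      · exact nonZeroDivisors.ne_zero hc (hinj ((congrArg Subtype.val h0).trans (map_zero _).symm))
      · change z * algebraMap S L c = c • z
        rw [Algebra.smul_def, mul_comm]
  have hN1 : Module.Finite S' (integralClosure S' (FractionRing S')) := h S' inferInstance
  have hfin : Module.Finite S' (integralClosure S' L) :=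
    Module.Finite.equiv (FractionRing.algEquiv S' L).mapIntegralClosure.toLinearEquiv
  have hfinS : Module.Finite S (integralClosure S' L) := Module.Finite.trans S' _
  let φ : integralClosure S' L →ₗ[S] L := ((integralClosure S' L).val.toLinearMap).restrictScalars S
  have hrange : LinearMap.range φ = Subalgebra.toSubmodule (integralClosure S L) := by
    refine le_antisymm ?_ fun y hy => ⟨⟨y, hy.tower_top⟩, rfl⟩
    rintro _ ⟨x, rfl⟩
    exact isIntegral_trans (x : L) x.2
  exact Module.Finite.iff_fg.2 (hrange ▸ Submodule.fg_range φ)

theorem isUniversallyJapanese_of_span (R : Type u) [CommRing R] {ι : Type u} [Finite ι] (f : ι → R)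
    (hf : Ideal.span (Set.range f) = ⊤) (h : ∀ i, CAlg.IsUniversallyJapanese (Localization.Away (f i))) :
    CAlg.IsUniversallyJapanese R := by
  intro S _ _ _ hS
  let g : {i : ι // algebraMap R S (f i) ≠ 0} → S := fun i => algebraMap R S (f i.1)
  have hg : Ideal.span (Set.range g) = ⊤ := by
    have h1 := congrArg (Ideal.map (algebraMap R S)) hf
    rw [Ideal.map_span, Ideal.map_top] at h1
    refine eq_top_iff.2 (h1 ▸ Ideal.span_le.2 ?_)
    rintro _ ⟨_, ⟨i, rfl⟩, rfl⟩
    by_cases hi : algebraMap R S (f i) = 0
    · rw [hi]; exact zero_mem _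
    · exact Ideal.subset_span ⟨⟨i, hi⟩, rfl⟩
  have : ∀ i, IsDomain (Localization.Away (g i)) := fun i =>
    IsLocalization.isDomain_localization (powers_le_nonZeroDivisors_of_noZeroDivisors i.2)
  refine Groth.Agent.S9394.result S g hg (fun i => Localization.Away (g i)) fun i => ?_
  let A := Localization.Away (f i.1)
  have hu : ∀ y : Submonoid.powers (f i.1), IsUnit ((algebraMap R (Localization.Away (g i))) y) := by
    rintro ⟨_, n, rfl⟩
    rw [map_pow]
    exact IsUnit.pow n (by rw [IsScalarTower.algebraMap_apply R S (Localization.Away (g i))]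
                           exact IsLocalization.Away.algebraMap_isUnit (g i))
  let _ : Algebra A (Localization.Away (g i)) := (IsLocalization.lift hu).toAlgebra
  have : IsScalarTower R A (Localization.Away (g i)) :=
    IsScalarTower.of_algebraMap_eq fun r => (IsLocalization.lift_eq hu r).symm
  have : Algebra.FiniteType R (Localization.Away (g i)) :=
    Algebra.FiniteType.trans (S := S) hS (@Algebra.FiniteType.of_finitePresentation _ _ _ _ _ (IsLocalization.Away.finitePresentation (g i)))
  exact h i.1 (Localization.Away (g i)) (Algebra.FiniteType.of_restrictScalars_finiteType R A _)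

end Groth.Agent.CAlgLow
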